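import Cfsg.Agent.Lib.Perm.PrimeHalf.Manning

/-!
Prime degree `p = q + 2` with `q = 2r + 1` or `q = 3r + 2`: the group is alternating.
-/

set_option autoImplicit false

open MulAction
open scoped commutatorElement

namespace Cfsg.Agent.Lib.Perm.PrimeHalf

variable {G : Type*} [Group G] [Finite G] {Ω : Type*} [MulAction G Ω] [FaithfulSMul G Ω]
  [Fintype Ω] [DecidableEq Ω]

theorem exists_map_five (h : IsMultiplyPretransitive G Ω 5) (h5 : 5 ≤ Fintype.card Ω) {n : ℕ}
    (hn : n ≤ 5) (f g : Fin n → Ω) (hf : Function.Injective f) (hg : Function.Injective g) :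
    ∃ x : G, ∀ i, x • f i = g i := by
  haveI := h
  have h' : IsMultiplyPretransitive G Ω n := isMultiplyPretransitive_of_le (n := 5) hn
    (by rw [Nat.card_eq_fintype_card]; exact h5)
  obtain ⟨x, hx⟩ := h'.exists_smul_eq ⟨f, hf⟩ ⟨g, hg⟩
  exact ⟨x, fun i => DFunLike.congr_fun hx i⟩

theorem exists_fix_move (h : IsMultiplyPretransitive G Ω 5) (h5 : 5 ≤ Fintype.card Ω) (T : Finset Ω)
    (hT : T.card ≤ 4) (x y : Ω) (hx : x ∉ T) (hy : y ∉ T) :
    ∃ g : G, (∀ z ∈ T, g • z = z) ∧ g • x = y := by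
  let e := T.equivFin
  have hinj : ∀ z, z ∉ T → Function.Injective (Fin.cons z (fun i => (e.symm i : Ω))) := fun z hz =>
    Fin.cons_injective_iff.mpr
      ⟨fun ⟨i, hi⟩ => hz (hi ▸ (e.symm i).2), Subtype.val_injective.comp e.symm.injective⟩
  obtain ⟨g, hg⟩ := exists_map_five h h5 (by omega) _ _ (hinj x hx) (hinj y hy)
  refine ⟨g, fun z hz => ?_, hg 0⟩
  have := hg (e ⟨z, hz⟩).succ
  simpa using this

theorem exists_full (h : IsMultiplyPretransitive G Ω 5) (h5 : 5 ≤ Fintype.card Ω) (T : Finset Ω)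
    (hT : T.card ≤ 4) (σ : Equiv.Perm T) : ∃ g : G, ∀ z : T, g • (z : Ω) = σ z := by
  let e := T.equivFin
  obtain ⟨g, hg⟩ := exists_map_five h h5 (by omega) (fun i => (e.symm i : Ω))
    (fun i => (σ (e.symm i) : Ω)) (Subtype.val_injective.comp e.symm.injective)
    (Subtype.val_injective.comp (σ.injective.comp e.symm.injective))
  exact ⟨g, fun z => by simpa using hg (e z)⟩

theorem threeCycle_pow_ne {c : Equiv.Perm (Fin 3)} (hc : c ^ 3 = 1) (hc1 : c ≠ 1) {r : ℕ}
    (hr : r.Prime) (hr5 : 5 ≤ r) : c ^ r ≠ 1 := by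
  intro h
  rcases (Nat.dvd_prime Nat.prime_three).mp (orderOf_dvd_of_pow_eq_one hc) with h1 | h1
  · exact hc1 (orderOf_eq_one_iff.mp h1)
  · have := (Nat.prime_dvd_prime_iff_eq Nat.prime_three hr).mp (h1 ▸ orderOf_dvd_of_pow_eq_one h)
    omega

theorem alternating_le (h : IsMultiplyPretransitive G Ω 5) {p r : ℕ} [hp : Fact p.Prime]
    [hr : Fact r.Prime] (hΩ : Fintype.card Ω = p) (hr5 : 5 ≤ r) (hcases : p = 2 * r + 3 ∨ p = 3 * r + 4) :
    alternatingGroup Ω ≤ (MulAction.toPermHom G Ω).range := by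
  classical
  by_contra hno
  have h5 : 5 ≤ Fintype.card Ω := by omega
  haveI : IsPretransitive G Ω := ⟨fun x y => by
    obtain ⟨g, hg⟩ := exists_map_five h h5 (by omega) ![x] ![y] (fun i j _ => Subsingleton.elim i j)
      (fun i j _ => Subsingleton.elim i j)
    exact ⟨g, hg 0⟩⟩
  haveI : IsPreprimitive G Ω := IsPreprimitive.of_prime_card
    (by rw [Nat.card_eq_fintype_card, hΩ]; exact hp.out)
  have hpr : IsPreprimitive (MulAction.toPermHom G Ω).range Ω := by
    let f : Ω →ₑ[(MulAction.toPermHom G Ω).rangeRestrict] Ω := ⟨id, fun g x => rfl⟩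
    exact IsPreprimitive.of_surjective (f := f) Function.surjective_id
  obtain ⟨t, k, ht4, ht3, hk2, hk3, htk, hkt⟩ : ∃ t k : ℕ, t ≤ 4 ∧ 3 ≤ t ∧ 2 ≤ k ∧ k ≤ 3 ∧
      p = t + k * r ∧ (t = 3 ∧ k = 2 ∨ t = 4 ∧ k = 3) := by
    rcases hcases with hc | hc
    · exact ⟨3, 2, by omega, le_rfl, le_rfl, by omega, by omega, Or.inl ⟨rfl, rfl⟩⟩
    · exact ⟨4, 3, le_rfl, by omega, by omega, le_rfl, by omega, Or.inr ⟨rfl, rfl⟩⟩
  obtain ⟨T, -, hT⟩ := Finset.exists_subset_card_eq (show t ≤ (Finset.univ : Finset Ω).card by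
    rw [Finset.card_univ, hΩ]; omega)
  obtain ⟨L⟩ := exists_local hno T (r := r) (k := k) hr5 hk2 hk3 (by omega)
    (by rw [Finset.card_compl, hΩ, hT]; omega)
    (fun x y => exists_fix_move h h5 T (by omega) x y) (exists_full h h5 T (by omega))
  letI := L.fin
  letI := L.dec
  let eT : T ≃ Fin t := T.equivFinOfCardEq hT
  have hiff : ∀ (g : L.N) (z : Ω), (g : G) • z ∈ T ↔ z ∈ T := fun g z =>
    ⟨fun hz => by simpa using L.mem _ (inv_mem g.2) _ hz, fun hz => L.mem _ g.2 _ hz⟩
  let ρ₀ : L.N →* Equiv.Perm T :=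
    { toFun := fun g => (MulAction.toPerm (g : G)).subtypePerm (hiff g)
      map_one' := Equiv.ext fun v => Subtype.ext (one_smul _ _)
      map_mul' := fun g g' => Equiv.ext fun v => Subtype.ext (mul_smul (g : G) (g' : G) (v : Ω)) }
  let ρ : L.N →* Equiv.Perm (Fin t) := eT.permCongrHom.toMonoidHom.comp ρ₀
  have hρ : ∀ (g : L.N) (i : Fin t), (g : G) • (eT.symm i : Ω) = eT.symm (ρ g i) := fun g i =>
    (congrArg Subtype.val (eT.symm_apply_apply (ρ₀ g (eT.symm i)))).symm
  have hsurj : ∀ σ : Equiv.Perm (Fin t), ∃ g : L.N, ρ g = σ := by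
    intro σ
    obtain ⟨g, hgN, hg⟩ := L.full (eT.symm.permCongr σ)
    refine ⟨⟨g, hgN⟩, Equiv.ext fun i => eT.symm.injective (Subtype.ext ?_)⟩
    rw [← hρ]
    simpa using hg (eT.symm i)
  rcases hkt with ⟨rfl, rfl⟩ | ⟨rfl, rfl⟩
  · obtain ⟨g₁, hg₁⟩ := hsurj (Equiv.swap 0 1)
    obtain ⟨g₂, hg₂⟩ := hsurj (Equiv.swap 1 2)
    haveI : IsCyclic (Equiv.Perm L.Orb) := isCyclic_of_prime_card (p := 2)
      (by rw [Nat.card_eq_fintype_card, Fintype.card_perm, L.cardOrb]; rfl)
    haveI : IsCyclic ↥(⊤ : Subgroup (Equiv.Perm L.Orb)) := inferInstance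
    set w : L.N := ⁅g₁, g₂⁆ ^ r with hw
    set c : Equiv.Perm (Fin 3) := ⁅Equiv.swap (0 : Fin 3) 1, Equiv.swap (1 : Fin 3) 2⁆ with hc
    have hwρ : ρ w = c ^ r := by rw [hw, map_pow, map_commutatorElement, hg₁, hg₂]
    have hc3 : c ^ 3 = 1 := by rw [hc]; decide
    have hout : ∀ z ∉ T, (w : G) • z = z := fun z hz => by
      rw [hw, Subgroup.coe_pow]
      exact L.kill ⊤ g₁ g₂ (Subgroup.mem_top _) (Subgroup.mem_top _) z hz
    set P := MulAction.toPermHom G Ω (w : G) with hP
    have hP1 : P ≠ 1 := by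
      intro hP1
      refine threeCycle_pow_ne hc3 (by rw [hc]; decide) hr.out hr5 (hwρ ▸ ?_)
      refine Equiv.ext fun i => eT.symm.injective (Subtype.ext ?_)
      rw [← hρ]
      exact Equiv.congr_fun hP1 _
    have hw3 : ρ (w ^ 3) = 1 := by
      rw [map_pow, hwρ, ← pow_mul, mul_comm, pow_mul, hc3, one_pow]
    have hP3 : P ^ 3 = 1 := by
      rw [hP, ← map_pow]
      refine Equiv.ext fun z => ?_
      show ((w : G) ^ 3) • z = z
      by_cases hz : z ∈ T
      · have h1 := hρ (w ^ 3) (eT ⟨z, hz⟩)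
        rw [hw3] at h1
        simpa using h1
      · rw [pow_succ, pow_two, mul_smul, mul_smul, hout z hz, hout z hz, hout z hz]
    have hord : orderOf P = 3 := by
      haveI : Fact (Nat.Prime 3) := ⟨Nat.prime_three⟩
      exact orderOf_eq_prime hP3 hP1
    have hsupp : P.support ⊆ T := fun z hz => by
      by_contra hzT
      exact Equiv.Perm.mem_support.mp hz (hout z hzT)
    have hcyc : P.IsCycle := Equiv.Perm.isCycle_of_prime_order (by rw [hord]; exact Nat.prime_three)
      (by rw [hord]; have := Finset.card_le_card hsupp; omega)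
    exact hno (alternatingGroup_le_of_prime_cycle _ hpr Nat.prime_three (by omega) hcyc
      (by rw [← hcyc.orderOf, hord]) ⟨(w : G), rfl⟩)
  · obtain ⟨a₁, ha₁⟩ := hsurj (Equiv.swap 0 1)
    obtain ⟨a₂, ha₂⟩ := hsurj (Equiv.swap 1 2)
    obtain ⟨a₃, ha₃⟩ := hsurj (Equiv.swap 2 3)
    haveI : Nontrivial L.Orb := Fintype.one_lt_card_iff_nontrivial.mp (by rw [L.cardOrb]; omega)
    haveI : IsCyclic ↥(alternatingGroup L.Orb) := isCyclic_of_prime_card (p := 3) (by
      have h2 := two_mul_nat_card_alternatingGroup (α := L.Orb)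
      rw [Nat.card_perm, Nat.card_eq_fintype_card (α := L.Orb), L.cardOrb] at h2
      rw [show Nat.factorial 3 = 6 from rfl] at h2
      omega)
    haveI : Fact (Nat.Prime 3) := ⟨Nat.prime_three⟩
    have hsign : ∀ a b : L.N, L.π ⁅a, b⁆ ∈ alternatingGroup L.Orb := fun a b => by
      rw [Equiv.Perm.mem_alternatingGroup, map_commutatorElement, map_commutatorElement]
      exact commutatorElement_eq_one_iff_mul_comm.mpr (mul_comm _ _)
    set g₁ : L.N := ⁅a₁, a₂⁆ with hg₁
    set g₂ : L.N := ⁅a₂, a₃⁆ with hg₂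
    set w : L.N := ⁅g₁, g₂⁆ ^ r with hw
    set d : Equiv.Perm (Fin 4) := Equiv.swap 0 3 * Equiv.swap 1 2 with hd
    have hwρ : ρ w = d := by
      obtain ⟨m, hm⟩ := hr.out.odd_of_ne_two (by omega)
      rw [hw, map_pow, hg₁, hg₂, map_commutatorElement, map_commutatorElement, map_commutatorElement,
        ha₁, ha₂, ha₃,
        show ⁅⁅Equiv.swap (0 : Fin 4) 1, Equiv.swap (1 : Fin 4) 2⁆, ⁅Equiv.swap (1 : Fin 4) 2, Equiv.swap (2 : Fin 4) 3⁆⁆ = d by
          rw [hd]; decide, hm, pow_succ, pow_mul,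
        show d ^ 2 = 1 by rw [hd]; decide, one_pow, one_mul]
    have hout : ∀ z ∉ T, (w : G) • z = z := fun z hz => by
      rw [hw, Subgroup.coe_pow]
      exact L.kill (alternatingGroup L.Orb) g₁ g₂ (hsign _ _) (hsign _ _) z hz
    let pt : Fin 4 → Ω := fun i => eT.symm i
    have hptinj : Function.Injective pt := Subtype.val_injective.comp eT.symm.injective
    have hwp : ∀ i, (w : G) • pt i = pt (d i) := fun i => by
      show (w : G) • (eT.symm i : Ω) = _
      rw [hρ, hwρ]
    obtain ⟨e, he⟩ : ∃ e, e ∉ T := by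
      by_contra hall
      push Not at hall
      have : (Finset.univ : Finset Ω).card ≤ T.card := Finset.card_le_card fun z _ => hall z
      rw [Finset.card_univ] at this
      omega
    have hept : ∀ i, pt i ≠ e := fun i h => he (h ▸ (eT.symm i).2)
    obtain ⟨g, hg⟩ := exists_map_five h h5 (show 4 ≤ 5 by omega) pt
      (fun i => if i = 2 then e else pt i) hptinj (fun i j hij => by
        by_cases hi : i = 2 <;> by_cases hj : j = 2 <;> simp [hi, hj] at hij ⊢
        · exact absurd hij.symm (hept j)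
        · exact absurd hij (hept i)
        · exact hptinj hij)
    set w' : G := g * w * g⁻¹ with hw'
    have hw'pt : ∀ i, w' • (g • pt i) = g • pt (d i) := fun i => by
      rw [hw', mul_smul, mul_smul, inv_smul_smul, hwp]
    have hout' : ∀ z, (∀ i, z ≠ g • pt i) → w' • z = z := fun z hz => by
      rw [hw', mul_smul, mul_smul, hout, smul_inv_smul]
      intro hzT
      refine hz (eT ⟨_, hzT⟩) ?_
      simp [pt]
    have g0 : g • pt 0 = pt 0 := by simpa using hg 0
    have g1 : g • pt 1 = pt 1 := by simpa using hg 1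
    have g2 : g • pt 2 = e := by simpa using hg 2
    have g3 : g • pt 3 = pt 3 := by simpa using hg 3
    have hne : ∀ i j : Fin 4, i ≠ j → pt i ≠ pt j := fun i j hij h => hij (hptinj h)
    have hP : MulAction.toPermHom G Ω ((w : G) * w') =
        Equiv.swap (pt 1) (pt 2) * Equiv.swap (pt 1) e := by
      refine Equiv.ext fun z => ?_
      show ((w : G) * w') • z = Equiv.swap (pt 1) (pt 2) (Equiv.swap (pt 1) e z)
      rw [mul_smul]
      have d0 : d 0 = 3 := by rw [hd]; decide
      have d1 : d 1 = 2 := by rw [hd]; decide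
      have d2 : d 2 = 1 := by rw [hd]; decide
      have d3 : d 3 = 0 := by rw [hd]; decide
      by_cases h0 : z = pt 0
      · subst h0
        conv_lhs => rw [← g0, hw'pt, d0, g3, hwp, d3]
        rw [Equiv.swap_apply_of_ne_of_ne (hne 0 1 (by decide)) (hept 0),
          Equiv.swap_apply_of_ne_of_ne (hne 0 1 (by decide)) (hne 0 2 (by decide))]
      by_cases h3 : z = pt 3
      · subst h3
        conv_lhs => rw [← g3, hw'pt, d3, g0, hwp, d0]
        rw [Equiv.swap_apply_of_ne_of_ne (hne 3 1 (by decide)) (hept 3),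
          Equiv.swap_apply_of_ne_of_ne (hne 3 1 (by decide)) (hne 3 2 (by decide))]
      by_cases h1 : z = pt 1
      · subst h1
        conv_lhs => rw [← g1, hw'pt, d1, g2, hout e he]
        rw [Equiv.swap_apply_left, Equiv.swap_apply_of_ne_of_ne (hept 1).symm (hept 2).symm]
      by_cases he' : z = e
      · subst he'
        conv_lhs => rw [← g2, hw'pt, d2, g1, hwp, d1]
        rw [Equiv.swap_apply_right, Equiv.swap_apply_left]
      rw [hout' z (fun i => by
        fin_cases i
        · simpa [g0] using h0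
        · simpa [g1] using h1
        · simpa [g2] using he'
        · simpa [g3] using h3)]
      by_cases h2 : z = pt 2
      · subst h2
        rw [hwp, d2, Equiv.swap_apply_of_ne_of_ne (hne 2 1 (by decide)) (hept 2), Equiv.swap_apply_right]
      rw [Equiv.swap_apply_of_ne_of_ne h1 he', Equiv.swap_apply_of_ne_of_ne h1 h2]
      refine hout z fun hzT => ?_
      have : ∀ i : Fin 4, z ≠ pt i := fun i => by fin_cases i <;> assumption
      exact this (eT ⟨z, hzT⟩) (by simp [pt])
    have hthree := Equiv.Perm.isThreeCycle_swap_mul_swap_same (hne 1 2 (by decide)) (hept 1) (hept 2)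
    exact hno (Equiv.Perm.alternatingGroup_le_of_isPreprimitive_of_isThreeCycle_mem hpr hthree
      ⟨_, hP⟩)

omit [DecidableEq Ω] in
theorem iso_alternating {p : ℕ} [hp : Fact p.Prime] (hΩ : Fintype.card Ω = p) (hp5 : 5 ≤ p)
    (P : Sylow p G) (hN : 2 * Nat.card ↥(Subgroup.normalizer ((P : Subgroup G) : Set G)) = p * (p - 1))
    (h : ∀ [DecidableEq Ω], alternatingGroup Ω ≤ (MulAction.toPermHom G Ω).range) :
    Nonempty (G ≃* alternatingGroup (Fin p)) := by
  classical
  set φ := MulAction.toPermHom G Ω with hφ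
  have hinj : Function.Injective φ := MulAction.toPerm_injective
  haveI : Nontrivial Ω := Fintype.one_lt_card_iff_nontrivial.mp (by omega)
  have he := (MonoidHom.ofInjective hinj)
  have hdvd : φ.range.index ∣ 2 := by
    have := Subgroup.index_dvd_of_le h
    rwa [alternatingGroup.index_eq_two] at this
  rcases (Nat.dvd_prime Nat.prime_two).mp hdvd with h1 | h2
  · exfalso
    have hcardG : Nat.card G = p.factorial := by
      rw [Nat.card_congr he.toEquiv, Subgroup.index_eq_one.mp h1, Subgroup.card_top, Nat.card_perm,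
        Nat.card_eq_fintype_card, hΩ]
    have h2 : Nat.card (Sylow p G) = 2 * (p - 2).factorial := by
      have h3 : Nat.card (Sylow p G) * Nat.card ↥(Subgroup.normalizer ((P : Subgroup G) : Set G)) =
          Nat.card G := by
        rw [Sylow.card_eq_index_normalizer P]
        exact (Subgroup.normalizer ((P : Subgroup G) : Set G)).index_mul_card
      rw [hcardG, ← Nat.mul_factorial_pred hp.out.pos.ne',
        ← Nat.mul_factorial_pred (show p - 1 ≠ 0 by omega), show p - 1 - 1 = p - 2 by omega,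
        ← mul_assoc, ← hN] at h3
      have hpos : 0 < Nat.card ↥(Subgroup.normalizer ((P : Subgroup G) : Set G)) := Nat.card_pos
      exact Nat.eq_of_mul_eq_mul_right hpos (by rw [h3]; ring)
    have hmod := (ZMod.natCast_eq_natCast_iff _ _ p).mpr (card_sylow_modEq_one p G)
    rw [h2] at hmod
    have h5 := ZMod.wilsons_lemma p
    rw [← Nat.mul_factorial_pred (show p - 1 ≠ 0 by omega), Nat.cast_mul,
      Nat.cast_sub (by omega : 1 ≤ p), ZMod.natCast_self, show p - 1 - 1 = p - 2 by omega,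
      Nat.cast_one, zero_sub, neg_one_mul, neg_inj] at h5
    push_cast at hmod
    rw [h5] at hmod
    exact one_ne_zero (show (1 : ZMod p) = 0 by linear_combination hmod)
  · have hr : φ.range = alternatingGroup Ω := Equiv.Perm.eq_alternatingGroup_of_index_eq_two h2
    exact ⟨he.trans ((MulEquiv.subgroupCongr hr).trans
      (Equiv.altCongrHom (Fintype.equivFinOfCardEq hΩ)))⟩

end Cfsg.Agent.Lib.Perm.PrimeHalf
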