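import Cfsg.Agent.Lib.Perm.PrimeTriple

/-!
Insoluble groups of prime degree whose Sylow normalizer has index at most two in the affine group:
the stabilizer of two points has at most four orbits.
-/

set_option autoImplicit false

open MulAction

namespace Cfsg.Agent.Lib.Perm.PrimeHalf

variable {G : Type*} [Group G] {Ω : Type*} [MulAction G Ω] {p : ℕ} [hp : Fact p.Prime]

/-- The affine data of a Sylow normalizer. -/
structure Coords (G : Type*) [Group G] (Ω : Type*) [MulAction G Ω] (p : ℕ) where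
  e : ZMod p ≃ Ω
  transl : ∀ c : ZMod p, ∃ g : G, ∀ j, g • e j = e (j + c)
  ν : ZMod p
  ν_ne : ν ≠ 0
  mult : ∀ d : ZMod p, d ≠ 0 → ∃ k : ZMod p, (∃ g : G, ∀ j, g • e j = e (k * j)) ∧
    (d = k * 1 ∨ d = k * ν)

theorem exists_coords [Finite G] [FaithfulSMul G Ω] [Fintype Ω] (hΩ : Fintype.card Ω = p)
    [IsPretransitive G Ω] (P : Sylow p G)
    (hN : 2 * Nat.card ↥(Subgroup.normalizer ((P : Subgroup G) : Set G)) = p * (p - 1)) :
    Nonempty (Coords G Ω p) := by
  classical
  obtain ⟨a⟩ : Nonempty Ω := Fintype.card_pos_iff.mp (hΩ ▸ hp.out.pos)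
  have hdvd : p ∣ Nat.card G := by
    rw [← hΩ, ← Nat.card_eq_fintype_card, ← index_stabilizer_of_transitive G a]
    exact Subgroup.index_dvd_card _
  have hP : Nat.card P = p := by
    obtain ⟨j, hj⟩ := IsPGroup.iff_card.mp P.isPGroup'
    have h1 : 1 ≤ j := by
      have := P.card_eq_multiplicity
      rw [hj] at this
      rw [Nat.pow_right_injective hp.out.two_le this]
      exact hp.out.factorization_pos_of_dvd Nat.card_pos.ne' hdvd
    have h2 : j ≤ 1 := by
      by_contra hj2
      have h3 : p ^ 2 ∣ p * (p - 1) := hN ▸ Dvd.dvd.mul_left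
        ((pow_dvd_pow p (by omega : 2 ≤ j)).trans (hj ▸ Subgroup.card_dvd_of_le Subgroup.le_normalizer)) 2
      rw [pow_two] at h3
      have h4 := Nat.le_of_dvd (by have := hp.out.two_le; omega) (Nat.dvd_of_mul_dvd_mul_left hp.out.pos h3)
      have := hp.out.two_le
      omega
    rw [hj, le_antisymm h2 h1, pow_one]
  obtain ⟨⟨τ, hτP⟩, hgen⟩ := (isCyclic_of_prime_card (p := p) hP).exists_generator
  have hτ : orderOf τ = p := by
    rw [← Subgroup.orderOf_mk (a := τ) (ha := hτP), orderOf_eq_card_of_forall_mem_zpowers hgen]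
    exact hP
  obtain ⟨e, he⟩ := exists_coord_of_orderOf hΩ (MulAction.toPermHom G Ω τ)
    (by rw [orderOf_injective _ MulAction.toPerm_injective, hτ])
  have he' : ∀ j, τ • e j = e (j + 1) := he
  have hpow : ∀ (n : ℕ) j, τ ^ n • e j = e (j + n) := by
    intro n
    induction n with
    | zero => intro j; simp
    | succ n ih => intro j; rw [pow_succ', mul_smul, ih, he', Nat.cast_succ, add_assoc]
  have htr : ∀ c : ZMod p, ∃ g : G, ∀ j, g • e j = e (j + c) := fun c =>
    ⟨τ ^ c.val, fun j => by rw [hpow, ZMod.natCast_zmod_val]⟩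
  have haff : ∀ g : ↥(Subgroup.normalizer ((P : Subgroup G) : Set G)), ∃ kc : ZMod p × ZMod p,
      kc.1 ≠ 0 ∧ ∀ j, (g : G) • e j = e (kc.2 + kc.1 * j) := by
    rintro ⟨g, hg⟩
    obtain ⟨k, hk⟩ : ∃ k : ℕ, g * τ * g⁻¹ = τ ^ k := by
      have h1 : g * τ * g⁻¹ ∈ (P : Subgroup G) := (Subgroup.mem_normalizer_iff.mp hg τ).mp hτP
      obtain ⟨k, hk⟩ := mem_powers_iff_mem_zpowers.mpr (hgen ⟨_, h1⟩)
      exact ⟨k, (congrArg Subtype.val hk).symm⟩
    set c := e.symm (g • e 0) with hc
    have hn : ∀ n : ℕ, g • e (n : ZMod p) = e (c + k * n) := by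
      intro n
      induction n with
      | zero => simp [hc]
      | succ n ih =>
        rw [Nat.cast_succ, ← he', smul_smul, show g * τ = τ ^ k * g by rw [← hk]; group, mul_smul, ih,
          hpow]
        congr 1
        ring
    have hall : ∀ j, g • e j = e (c + (k : ZMod p) * j) := fun j => by
      conv_lhs => rw [← ZMod.natCast_zmod_val j]
      rw [hn, ZMod.natCast_zmod_val]
    refine ⟨((k : ZMod p), c), fun h0 => ?_, hall⟩
    have h01 := (hall 0).trans (show e (c + (k : ZMod p) * 0) = g • e 1 by rw [hall, show ((k : ZMod p)) = 0 from h0]; simp)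
    exact zero_ne_one (e.injective (smul_left_cancel g h01))
  choose kc hkc using haff
  let K : Subgroup (ZMod p)ˣ :=
    { carrier := {u | ∃ g : G, ∀ j, g • e j = e ((u : ZMod p) * j)}
      mul_mem' := by
        rintro u v ⟨g, hg⟩ ⟨h, hh⟩
        exact ⟨g * h, fun j => by rw [mul_smul, hh, hg, Units.val_mul, mul_assoc]⟩
      one_mem' := ⟨1, fun j => by simp⟩
      inv_mem' := by
        rintro u ⟨g, hg⟩
        exact ⟨g⁻¹, fun j => by rw [inv_smul_eq_iff, hg, Units.mul_inv_cancel_left]⟩ }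
  have hK : ∀ g, Units.mk0 (kc g).1 (hkc g).1 ∈ K := fun g => by
    obtain ⟨t, ht⟩ := htr (-(kc g).2)
    refine ⟨t * g, fun j => ?_⟩
    rw [mul_smul, (hkc g).2, ht, Units.val_mk0]
    congr 1
    ring
  have hcard : Nat.card ↥(Subgroup.normalizer ((P : Subgroup G) : Set G)) ≤ Nat.card ↥K * p := by
    calc _ ≤ Nat.card (↥K × ZMod p) := Nat.card_le_card_of_injective
          (fun g => ((⟨_, hK g⟩ : ↥K), (kc g).2)) (fun g h hgh => by
            rw [Prod.ext_iff] at hgh
            apply Subtype.ext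
            refine eq_of_smul_eq_smul (α := Ω) fun x => ?_
            obtain ⟨j, rfl⟩ := e.surjective x
            have h1 := congrArg (fun u : ↥K => ((u : (ZMod p)ˣ) : ZMod p)) hgh.1
            simp only [Units.val_mk0] at h1
            rw [(hkc g).2, (hkc h).2, h1, show (kc g).2 = (kc h).2 from hgh.2])
      _ = _ := by rw [Nat.card_prod, Nat.card_zmod]
  have hidx : K.index ≤ 2 := by
    have h1 := K.card_mul_index
    rw [Nat.card_eq_fintype_card (α := (ZMod p)ˣ), ZMod.card_units] at h1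
    by_contra h2
    have h3 : Nat.card ↥K * 3 ≤ Nat.card ↥K * K.index := Nat.mul_le_mul le_rfl (by omega)
    have h4 : p * (p - 1) ≤ (Nat.card ↥K * 2) * p := by rw [← hN]; linarith [hcard]
    have h5 : p - 1 ≤ Nat.card ↥K * 2 := Nat.le_of_mul_le_mul_right (by linarith) hp.out.pos
    have : 0 < Nat.card ↥K := Nat.card_pos
    omega
  obtain ⟨ν, hν⟩ : ∃ ν : (ZMod p)ˣ, ∀ d, d ∈ K ∨ ν⁻¹ * d ∈ K := by
    by_cases hd : ∀ d, d ∈ K
    · exact ⟨1, fun d => Or.inl (hd d)⟩
    push Not at hd
    obtain ⟨ν, hν⟩ := hd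
    refine ⟨ν, fun d => ?_⟩
    by_cases hdK : d ∈ K
    · exact Or.inl hdK
    have h2 : K.index = 2 := by
      rcases Nat.lt_or_ge K.index 2 with h | h
      · have : K.index = 1 := by have := K.index_ne_zero_of_finite; omega
        exact absurd ((Subgroup.index_eq_one.mp this) ▸ Subgroup.mem_top ν) hν
      · omega
    exact Or.inr ((Subgroup.mul_mem_iff_of_index_two h2).mpr (iff_of_false (fun h => hν (by simpa using K.inv_mem h)) hdK))
  refine ⟨⟨e, htr, ν, ν.ne_zero, fun d hd => ?_⟩⟩
  rcases hν (Units.mk0 d hd) with h | h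
  · exact ⟨d, h, Or.inl (mul_one d).symm⟩
  · refine ⟨_, h, Or.inr ?_⟩
    rw [← Units.val_mul, mul_comm (ν⁻¹ * _) ν, mul_inv_cancel_left, Units.val_mk0]

theorem exists_pair [FaithfulSMul G Ω] [Fintype Ω] (hΩ : Fintype.card Ω = p)
    [IsPretransitive G Ω] (hins : ¬ Group.IsSolvable G) {a b c d : Ω} (hab : a ≠ b) (hcd : c ≠ d) :
    ∃ g : G, g • a = c ∧ g • b = d := by
  classical
  set φ := MulAction.toPermHom G Ω with hφ
  have hinj : Function.Injective φ := MulAction.toPerm_injective
  haveI : IsPretransitive φ.range Ω := ⟨fun x y => by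
    obtain ⟨g, hg⟩ := MulAction.exists_smul_eq G x y
    exact ⟨⟨φ g, g, rfl⟩, hg⟩⟩
  have hins' : ¬ Group.IsSolvable φ.range := fun h => by
    haveI := h
    exact hins (Group.isSolvable_of_isSolvable_injective (f := (MonoidHom.ofInjective hinj).toMonoidHom)
      (MonoidHom.ofInjective hinj).injective)
  obtain ⟨⟨_, g, rfl⟩, h1, h2⟩ := exists_smul_eq_pair (two_transitive_of_not_solvable hΩ φ.range hins') hab hcd
  exact ⟨g, h1, h2⟩

/-- At most four orbits for the stabilizer of two points. -/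
theorem card_orbits_le_four [Finite G] [FaithfulSMul G Ω] [Fintype Ω] (hΩ : Fintype.card Ω = p)
    [IsPretransitive G Ω] (hins : ¬ Group.IsSolvable G) (hp2 : p ≠ 2) (C : Coords G Ω p) (α β : Ω) (hab : α ≠ β) :
    Nat.card (orbitRel.Quotient ↥(stabilizer G α ⊓ stabilizer G β) Ω) ≤ 4 := by
  classical
  set H := stabilizer G α ⊓ stabilizer G β with hH
  have h01 : C.e 0 ≠ C.e 1 := fun h => zero_ne_one (C.e.injective h)
  have h0ν : C.e 0 ≠ C.e C.ν := fun h => C.ν_ne (C.e.injective h).symm
  obtain ⟨g1, hg1a, hg1b⟩ := exists_pair hΩ hins hab h01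
  obtain ⟨g2, hg2a, hg2b⟩ := exists_pair hΩ hins hab h0ν
  let F := ZMod p
  let mk : Ω → orbitRel.Quotient ↥H Ω := fun z => Quotient.mk'' z
  have hmk : ∀ h ∈ H, ∀ z, mk (h • z) = mk z := fun h hh z =>
    Quotient.sound' ⟨⟨h, hh⟩, rfl⟩
  let v₀ : Ω → F := fun x => C.e.symm x
  let U : G → (orbitRel.Quotient ↥H Ω → F) →ₗ[F] F := fun g =>
    { toFun := fun φ => ∑ z, φ (mk z) * v₀ (g • z)
      map_add' := fun a b => by simp [add_mul, Finset.sum_add_distrib]
      map_smul' := fun r a => ((Finset.mul_sum _ _ r).trans (Finset.sum_congr rfl fun z _ => (mul_assoc _ _ _).symm)).symm }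
  let S : (orbitRel.Quotient ↥H Ω → F) →ₗ[F] F :=
    { toFun := fun φ => ∑ z, φ (mk z)
      map_add' := fun a b => by simp [Finset.sum_add_distrib]
      map_smul' := fun r a => (Finset.mul_sum _ _ r).symm }
  let L := S.prod ((U g1).prod (U g2))
  have hker : LinearMap.ker L ≤ Submodule.span F {fun _ => (1 : F)} := by
    intro φ hφ
    have hS : ∑ z, φ (mk z) = 0 := congrArg Prod.fst (LinearMap.mem_ker.mp hφ)
    have h1 : U g1 φ = 0 := congrArg (fun t => t.2.1) (LinearMap.mem_ker.mp hφ)
    have h2 : U g2 φ = 0 := congrArg (fun t => t.2.2) (LinearMap.mem_ker.mp hφ)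
    have hall : ∀ g : G, ∑ z, φ (mk z) * v₀ (g • z) = 0 := by
      intro g
      set x := C.e.symm (g • α) with hx
      set y := C.e.symm (g • β) with hy
      have hxy : y - x ≠ 0 := sub_ne_zero.mpr fun h =>
        hab (smul_left_cancel g (C.e.symm.injective h.symm))
      obtain ⟨k, ⟨σ, hσ⟩, hk⟩ := C.mult _ hxy
      obtain ⟨t, ht⟩ := C.transl x
      obtain ⟨g0, w, hga, hgb, hw, hg0⟩ : ∃ g0 w, g0 • α = C.e 0 ∧ g0 • β = C.e w ∧ y - x = k * w ∧ U g0 φ = 0 := by
        rcases hk with hk | hk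
        · exact ⟨g1, 1, hg1a, hg1b, hk, h1⟩
        · exact ⟨g2, _, hg2a, hg2b, hk, h2⟩
      have hh : (t * σ * g0)⁻¹ * g ∈ H := by
        refine Subgroup.mem_inf.mpr ⟨mem_stabilizer_iff.mpr ?_, mem_stabilizer_iff.mpr ?_⟩
        · rw [mul_smul, inv_smul_eq_iff, mul_smul, mul_smul, hga, hσ, mul_zero, ht, zero_add, hx,
            Equiv.apply_symm_apply]
        · rw [mul_smul, inv_smul_eq_iff, mul_smul, mul_smul, hgb, hσ, ← hw, ht, sub_add_cancel, hy,
            Equiv.apply_symm_apply]
      set h := (t * σ * g0)⁻¹ * g with hhdef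
      have hg : g = t * σ * g0 * h := by rw [hhdef, mul_inv_cancel_left]
      have hv : ∀ z, v₀ (g • z) = k * v₀ (g0 • h • z) + x := fun z => by
        rw [hg, mul_smul, mul_smul, mul_smul]
        obtain ⟨j, hj⟩ := C.e.surjective (g0 • h • z)
        rw [← hj, hσ, ht]
        simp [v₀]
      simp only [hv, mul_add, Finset.sum_add_distrib]
      rw [← Finset.sum_mul, hS, zero_mul, add_zero]
      have : ∑ z, φ (mk z) * v₀ (g0 • h • z) = 0 := by
        refine Eq.trans ?_ hg0
        refine Fintype.sum_equiv (MulAction.toPerm h) _ (fun z => φ (mk z) * v₀ (g0 • z)) fun z => ?_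
        simp only [MulAction.toPerm_apply, hmk h hh]
      calc ∑ z, φ (mk z) * (k * v₀ (g0 • h • z)) = k * ∑ z, φ (mk z) * v₀ (g0 • h • z) := by
            rw [Finset.mul_sum]; exact Finset.sum_congr rfl fun z _ => by ring
        _ = 0 := by rw [this, mul_zero]
    set ψ := MulAction.toPermHom G Ω with hψ
    haveI : IsPretransitive ψ.range Ω := ⟨fun a b => by
      obtain ⟨g, hg⟩ := MulAction.exists_smul_eq G a b
      exact ⟨⟨ψ g, g, rfl⟩, hg⟩⟩
    have hins' : ¬ Group.IsSolvable ψ.range := fun h => by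
      haveI := h
      have hinj : Function.Injective ψ := MulAction.toPerm_injective
      exact hins (Group.isSolvable_of_isSolvable_injective (f := (MonoidHom.ofInjective hinj).toMonoidHom)
        (MonoidHom.ofInjective hinj).injective)
    let W : Subrepresentation (Cfsg.permRep F ψ.range Ω) :=
      { toSubmodule :=
          { carrier := {w | ∑ z, w z = 0 ∧ ∀ g : G, ∑ z, φ (mk z) * w (g • z) = 0}
            add_mem' := fun {a b} ha hb => ⟨by simp [Finset.sum_add_distrib, ha.1, hb.1],
              fun g => by simp [mul_add, Finset.sum_add_distrib, ha.2 g, hb.2 g]⟩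
            zero_mem' := ⟨by simp, fun g => by simp⟩
            smul_mem' := fun r a ha => ⟨by simp [← Finset.mul_sum, ha.1], fun g => by
              simp [mul_left_comm _ r, ← Finset.mul_sum, ha.2 g]⟩ }
        apply_mem_toSubmodule := by
          rintro ⟨_, g, rfl⟩ w ⟨hw1, hw2⟩
          refine ⟨?_, fun g' => ?_⟩
          · rw [← hw1]
            refine Fintype.sum_equiv (MulAction.toPerm g⁻¹) _ w fun z => ?_
            rw [permRep_apply]
            rfl
          · rw [← hw2 (g⁻¹ * g')]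
            refine Finset.sum_congr rfl fun z _ => ?_
            rw [permRep_apply, mul_smul]
            rfl }
    have hWc : (Cfsg.permConstants F ψ.range Ω).toSubmodule ≤ W.toSubmodule := by
      intro w hw
      obtain ⟨c, rfl⟩ := mem_permConstants.mp hw
      exact ⟨by simp [hΩ, F], fun g => by rw [← Finset.sum_mul, hS, zero_mul]⟩
    have hW2 : W.toSubmodule ≤ (Cfsg.permSumZero F ψ.range Ω).toSubmodule := fun w hw => mem_permSumZero.mpr hw.1
    have hv0 : v₀ ∈ W.toSubmodule := by
      refine ⟨?_, hall⟩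
      refine (Fintype.sum_equiv C.e (fun j : ZMod p => (ZMod.castHom (dvd_refl p) F) j ^ 1) v₀ fun j => by simp [v₀, F]).symm.trans ?_
      rw [castHom_pow_sum, if_neg]
      rintro ⟨-, hd⟩
      have := Nat.le_of_dvd one_pos hd
      have := hp.out.two_le
      omega
    rcases heart_irreducible hΩ ψ.range hins' W hWc hW2 with hW | hW
    · exfalso
      rw [hW] at hv0
      obtain ⟨c, hc⟩ := mem_permConstants.mp hv0
      have e0 : v₀ (C.e 0) = v₀ (C.e 1) := by rw [hc]
      simp [v₀] at e0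
    rw [Submodule.mem_span_singleton]
    refine ⟨φ (mk α), funext fun q => ?_⟩
    induction q using Quotient.inductionOn' with
    | h z =>
      have hs : (Pi.single z 1 - Pi.single α 1 : Ω → F) ∈ W.toSubmodule := by
        rw [hW, mem_permSumZero]
        simp [Finset.sum_sub_distrib]
      have := hs.2 1
      simp [mul_sub, Finset.sum_sub_distrib, Pi.single_apply, sub_eq_zero] at this
      simpa using this.symm
  haveI := Fintype.ofFinite (orbitRel.Quotient ↥H Ω)
  have hd := LinearMap.finrank_range_add_finrank_ker L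
  rw [Module.finrank_pi, ← Nat.card_eq_fintype_card] at hd
  have h3 : Module.finrank F (LinearMap.range L) ≤ 3 := (Submodule.finrank_le _).trans (by simp)
  have h4 : Module.finrank F (LinearMap.ker L) ≤ 1 := (Submodule.finrank_mono hker).trans
    ((finrank_span_le_card _).trans (by simp))
  omega

end Cfsg.Agent.Lib.Perm.PrimeHalf
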