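import Mathlib.Analysis.SpecialFunctions.Complex.CircleAddChar
import Mathlib.RingTheory.RootsOfUnity.Minpoly
import Mathlib.RingTheory.IntegralClosure.IsIntegralClosure.Basic
import Mathlib.Data.ZMod.Units
import Mathlib.Algebra.CharP.Lemmas
import Mathlib.RingTheory.IntegralDomain
import Mathlib.Tactic

/-!
There is no strongly regular Cayley graph of a dihedral group of order `2q`, `q` odd, other than
the imprimitive ones: the character equations of its cyclic part are contradictory.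
-/

set_option autoImplicit false

open Finset

namespace Cfsg.Agent.Lib.Perm.PrimeHalf.Dihedrant

/-- The algebraic integers inside `ℂ`. -/
abbrev O := integralClosure ℤ ℂ

theorem int_dvd_of_dvd {n l : ℤ} (h : (l : O) ∣ (n : O)) : l ∣ n := by
  obtain ⟨β, hβ⟩ := h
  by_cases hl : l = 0
  · subst hl
    simp only [Int.cast_zero, zero_mul] at hβ
    exact ⟨0, by simpa using Int.cast_injective (α := O) (hβ.trans Int.cast_zero.symm)⟩
  have hl' : (l : ℂ) ≠ 0 := Int.cast_ne_zero.mpr hl
  have hβ' : (n : ℂ) = l * (β : ℂ) := by exact_mod_cast congrArg (fun x : O => (x : ℂ)) hβ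
  have hi : IsIntegral ℤ ((algebraMap ℚ ℂ) ((n : ℚ) / l)) := by
    have : (algebraMap ℚ ℂ) ((n : ℚ) / l) = (β : ℂ) := by
      rw [map_div₀, map_intCast, map_intCast, hβ', mul_div_cancel_left₀ _ hl']
    rw [this]
    exact β.2
  obtain ⟨c, hc⟩ := IsIntegrallyClosed.isIntegral_iff.mp
    ((isIntegral_algebraMap_iff (algebraMap ℚ ℂ).injective).mp hi)
  refine ⟨c, ?_⟩
  have hlq : (l : ℚ) ≠ 0 := Int.cast_ne_zero.mpr hl
  have : ((n : ℚ)) = l * c := by
    rw [← eq_intCast (algebraMap ℤ ℚ) c, hc]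
    field_simp
  exact_mod_cast this

theorem sum_pow_prime {ι : Type*} {l : ℕ} (hl : l.Prime) (S : Finset ι) (f : ι → O) :
    (l : O) ∣ (∑ i ∈ S, f i) ^ l - ∑ i ∈ S, f i ^ l := by
  classical
  induction S using Finset.induction_on with
  | empty => simp [hl.ne_zero]
  | insert a S ha ih =>
    rw [Finset.sum_insert ha, Finset.sum_insert ha]
    obtain ⟨r, hr⟩ := exists_add_pow_prime_eq hl (f a) (∑ i ∈ S, f i)
    rw [hr]
    obtain ⟨c, hc⟩ := ih
    exact ⟨c + f a * (∑ i ∈ S, f i) * r, by linear_combination hc⟩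

theorem arith {L m Q N ρ t : ℤ} (hL : 3 ≤ L) (hLm : L ≤ m) (hm : 0 < m) (hLN : L * N = Q) (hN : 1 ≤ N)
    (hρ : 0 ≤ ρ) (hρQ : ρ ≤ Q) (ht : 0 ≤ t) (htQ : t ≤ Q) (ha : ρ - t = m ∨ ρ - t = -m)
    (hc : (ρ + t - m ^ 2) * Q = t * (2 * ρ)) (hle : Q * ρ ≤ ρ ^ 2 + (N - 1) * m ^ 2) : False := by
  have h4 : 4 * (Q * ρ - ρ ^ 2) = (2 * Q - 2) * m ^ 2 + 2 * (ρ - t) * (Q - (ρ + t)) := by
    rcases ha with h | h
    · obtain rfl : t = ρ - m := by omega
      linarith [hc, show 4 * (Q * ρ - ρ ^ 2) - (2 * Q - 2) * m ^ 2 - 2 * (ρ - (ρ - m)) * (Q - (ρ + (ρ - m))) =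
        2 * ((ρ + (ρ - m) - m ^ 2) * Q - (ρ - m) * (2 * ρ)) by ring]
    · obtain rfl : t = ρ + m := by omega
      linarith [hc, show 4 * (Q * ρ - ρ ^ 2) - (2 * Q - 2) * m ^ 2 - 2 * (ρ - (ρ + m)) * (Q - (ρ + (ρ + m))) =
        2 * ((ρ + (ρ + m) - m ^ 2) * Q - (ρ + m) * (2 * ρ)) by ring]
  have h5 : -(2 * m * Q) ≤ 2 * (ρ - t) * (Q - (ρ + t)) := by
    rcases ha with h | h <;> rw [h] <;> nlinarith
  have h6 : ((2 * Q - 4 * N + 2) * m - 2 * Q) * m ≤ 0 := by nlinarith
  have h7 : (2 * Q - 4 * N + 2) * m ≤ 2 * Q := by nlinarith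
  nlinarith [mul_le_mul hLm hL (by norm_num) hm.le, mul_nonneg (show 0 ≤ L - 3 by omega) (show 0 ≤ N by omega)]

variable {q : ℕ} [NeZero q]

/-- The standard additive character with integral values. -/
noncomputable def e (x : ZMod q) : O :=
  ⟨ZMod.stdAddChar x, IsIntegral.of_pow (NeZero.pos q) (by
    rw [← AddChar.map_nsmul_eq_pow, nsmul_eq_mul, ZMod.natCast_self, zero_mul, AddChar.map_zero_eq_one]
    exact isIntegral_one)⟩

theorem e_add (x y : ZMod q) : e (x + y) = e x * e y :=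
  Subtype.ext (by simp [e, AddChar.map_add_eq_mul])

theorem e_zero : e (0 : ZMod q) = 1 := Subtype.ext (by simp [e])

theorem e_nsmul (x : ZMod q) (n : ℕ) : e ((n : ZMod q) * x) = e x ^ n :=
  Subtype.ext (by simp [e, ← AddChar.map_nsmul_eq_pow, nsmul_eq_mul])

theorem sum_e (b : ZMod q) : ∑ x : ZMod q, e (x * b) = if b = 0 then (q : O) else 0 := by
  refine Subtype.ext ?_
  have h := AddChar.sum_mulShift (R' := ℂ) b (ZMod.isPrimitive_stdAddChar q)
  rw [ZMod.card] at h
  rw [AddSubmonoidClass.coe_finset_sum]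
  simp only [e]
  rw [h]
  split_ifs <;> simp

/-- The character sum over a set. -/
noncomputable def ft (S : Finset (ZMod q)) (l : ZMod q) : O := ∑ z ∈ S, e (l * z)

theorem ft_zero (S : Finset (ZMod q)) : ft S 0 = (S.card : O) := by simp [ft, e_zero]

theorem inversion (S : Finset (ZMod q)) (y : ZMod q) :
    ∑ l : ZMod q, ft S l * e (-(l * y)) = if y ∈ S then (q : O) else 0 := by
  simp only [ft, Finset.sum_mul]
  rw [Finset.sum_comm]
  rw [Finset.sum_congr rfl (g := fun z => if z = y then (q : O) else 0) (fun z _ => ?_),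
    Finset.sum_ite_eq']
  rw [Finset.sum_congr rfl (g := fun l => e (l * (z - y))) (fun l _ => by
    rw [← e_add]; congr 1; ring), sum_e]
  simp [sub_eq_zero]

theorem ft_compl (S : Finset (ZMod q)) {l : ZMod q} (hl : l ≠ 0) : ft Sᶜ l = -ft S l := by
  rw [eq_neg_iff_add_eq_zero, ft, ft, Finset.sum_compl_add_sum]
  rw [Finset.sum_congr rfl (g := fun x => e (x * l)) (fun x _ => by rw [mul_comm]), sum_e, if_neg hl]

theorem ft_symm {S : Finset (ZMod q)} (hS : ∀ z ∈ S, -z ∈ S) (l : ZMod q) : ft S (-l) = ft S l := by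
  refine Finset.sum_bij' (fun z _ => -z) (fun z _ => -z) hS hS (by simp) (by simp) ?_
  intro z _
  congr 1
  ring

theorem parseval {S : Finset (ZMod q)} (hS : ∀ z ∈ S, -z ∈ S) :
    ∑ l : ZMod q, ft S l ^ 2 = (q : O) * S.card := by
  rw [Finset.sum_congr rfl (g := fun l => ∑ z ∈ S, ft S l * e (-(l * z))) (fun l _ => ?_)]
  · rw [Finset.sum_comm, Finset.sum_congr rfl (g := fun _ => (q : O)) (fun z hz => by
      rw [inversion, if_pos hz]), Finset.sum_const, nsmul_eq_mul, mul_comm]
  · rw [← Finset.mul_sum, sq]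
    congr 1
    rw [← ft_symm hS l, ft]
    exact Finset.sum_congr rfl fun z _ => by rw [neg_mul]

/-- In a cyclic group an element whose order divides that of another is one of its multiples. -/
theorem zmultiples_le_of_dvd {x y : ZMod q} (h : addOrderOf x ∣ addOrderOf y) :
    AddSubgroup.zmultiples x ≤ AddSubgroup.zmultiples y := by
  classical
  intro w hw
  have hall : ∀ v ∈ AddSubgroup.zmultiples y, addOrderOf y • v = 0 := by
    rintro _ ⟨i, rfl⟩
    show addOrderOf y • i • y = 0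
    rw [smul_comm, addOrderOf_nsmul_eq_zero, smul_zero]
  have hw0 : addOrderOf y • w = 0 := by
    obtain ⟨i, rfl⟩ := hw
    show addOrderOf y • i • x = 0
    rw [smul_comm, addOrderOf_dvd_iff_nsmul_eq_zero.mp h, smul_zero]
  have hsub : (Finset.univ.filter fun v => v ∈ AddSubgroup.zmultiples y) ⊆
      Finset.univ.filter fun v : ZMod q => addOrderOf y • v = 0 := fun v hv => by
    rw [Finset.mem_filter] at hv ⊢
    exact ⟨hv.1, hall v hv.2⟩
  have hle := IsAddCyclic.card_nsmul_eq_zero_le (α := ZMod q) (n := addOrderOf y) (addOrderOf_pos y)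
  have heq := Finset.eq_of_subset_of_card_le hsub (hle.trans (le_of_eq ?_))
  · have : w ∈ Finset.univ.filter fun v : ZMod q => addOrderOf y • v = 0 :=
      Finset.mem_filter.mpr ⟨Finset.mem_univ _, hw0⟩
    rw [← heq, Finset.mem_filter] at this
    exact this.2
  · rw [← Nat.card_zmultiples y, Nat.card_eq_fintype_card, ← Fintype.card_subtype]

/-- Elements with the same multiples differ by a unit. -/
theorem exists_unit_mul {z z' : ZMod q} (h : addOrderOf z = addOrderOf z') :
    ∃ u : (ZMod q)ˣ, z' = u * z := by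
  set d := addOrderOf z with hd
  have hd0 : 0 < d := addOrderOf_pos z
  haveI : NeZero d := ⟨hd0.ne'⟩
  have hdq : d ∣ q := by
    simpa [ZMod.card] using addOrderOf_dvd_card (x := z)
  have hmem : z' ∈ AddSubgroup.zmultiples z := by
    exact (zmultiples_le_of_dvd (h ▸ dvd_rfl)) (AddSubgroup.mem_zmultiples _)
  obtain ⟨n, hn⟩ := mem_multiples_iff_mem_zmultiples.mpr hmem
  have hn' : n • z = z' := hn
  have hcop : n.Coprime d := by
    have h1 := addOrderOf_nsmul (n := n) (x := z)
    rw [hn', ← h, ← hd] at h1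
    rcases Nat.eq_zero_or_pos n with h0 | h0
    · subst h0
      rw [zero_nsmul] at hn'
      rw [← hn', addOrderOf_zero] at h
      simp [h]
    · have h2 : d / Nat.gcd d n = d := h1.symm
      have h3 : Nat.gcd d n = 1 := by
        have := Nat.div_mul_cancel (Nat.gcd_dvd_left d n)
        rw [h2] at this
        exact Nat.eq_of_mul_eq_mul_left hd0 (this.trans (mul_one d).symm)
      rwa [Nat.gcd_comm] at h3
  obtain ⟨u, hu⟩ := ZMod.unitsMap_surjective hdq (ZMod.unitOfCoprime n hcop)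
  refine ⟨u, ?_⟩
  have h1 : ((u : ZMod q).val : ZMod d) = (n : ZMod d) := by
    have := congrArg (fun x : (ZMod d)ˣ => (x : ZMod d)) hu
    rw [ZMod.coe_unitOfCoprime] at this
    rw [← this]
    simp [ZMod.unitsMap_def, ZMod.natCast_val]
  rw [← hn', ← ZMod.natCast_zmod_val (u : ZMod q), ← nsmul_eq_mul]
  exact ((nsmul_eq_nsmul_iff_modEq (x := z)).mpr ((ZMod.natCast_eq_natCast_iff _ _ d).mp h1)).symm

theorem same_order {r : ℕ} (hr : r.Prime) {v z : ZMod q} (hv : addOrderOf v ∣ r)
    (hz : r ∣ addOrderOf z) (hw : r ∣ addOrderOf (z + v)) : addOrderOf (z + v) = addOrderOf z := by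
  have h : ∀ {x y : ZMod q}, r ∣ addOrderOf x → addOrderOf y ∣ r → addOrderOf (x + y) ∣ addOrderOf x :=
    fun {x y} hx hy => by
      have hy' : y ∈ AddSubgroup.zmultiples x :=
        zmultiples_le_of_dvd (hy.trans hx) (AddSubgroup.mem_zmultiples _)
      rw [← Nat.card_zmultiples x]
      exact AddSubgroup.addOrderOf_dvd_natCard _ (add_mem (AddSubgroup.mem_zmultiples _) hy')
  refine Nat.dvd_antisymm (h hz hv) ?_
  have := h hw (show addOrderOf (-v) ∣ r by rwa [addOrderOf_neg])
  rwa [add_neg_cancel_right] at this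

theorem ft_unit (S : Finset (ZMod q)) {l : ZMod q} {v : ℤ} (hv : ft S l = (v : O)) (u : (ZMod q)ˣ) :
    ft S (u * l) = (v : O) := by
  set μ : ℂ := ((e l : O) : ℂ) with hμ
  have hμq : μ ^ q = 1 := by
    rw [hμ, ← Subalgebra.coe_pow, ← e_nsmul, ZMod.natCast_self, zero_mul, e_zero]
    rfl
  have hprim : IsPrimitiveRoot μ (orderOf μ) := IsPrimitiveRoot.orderOf μ
  have hcop : Nat.Coprime (u : ZMod q).val (orderOf μ) :=
    (ZMod.val_coe_unit_coprime u).coprime_dvd_right (orderOf_dvd_of_pow_eq_one hμq)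
  have hpow : ∀ (j : ℕ) (z : ZMod q), e ((j : ZMod q) * l * z) = (e l ^ j) ^ z.val := fun j z => by
    conv_lhs => rw [← ZMod.natCast_zmod_val z, mul_comm, e_nsmul, e_nsmul]
  let P : Polynomial ℤ := (∑ z ∈ S, Polynomial.X ^ z.val) - Polynomial.C v
  have heval : ∀ j : ℕ, Polynomial.aeval (μ ^ j) P = ((ft S ((j : ZMod q) * l) - (v : O) : O) : ℂ) := by
    intro j
    simp only [P, map_sub, map_sum, map_pow, Polynomial.aeval_X, Polynomial.aeval_C, ft, hμ,
      eq_intCast, AddSubgroupClass.coe_sub, AddSubmonoidClass.coe_finset_sum, hpow,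
      SubmonoidClass.coe_pow]
    norm_num
  have h1 : Polynomial.aeval μ P = 0 := by
    have := heval 1
    rw [pow_one, Nat.cast_one, one_mul, hv, sub_self] at this
    simpa using this
  have h2 : Polynomial.aeval (μ ^ (u : ZMod q).val) P = 0 := by
    rw [minpoly.isIntegrallyClosed_dvd_iff ((e l).2.pow _),
      ← hprim.minpoly_eq_pow_coprime hcop]
    exact minpoly.isIntegrallyClosed_dvd (e l).2 h1
  rw [heval, ZMod.natCast_zmod_val] at h2
  exact sub_eq_zero.mp (Subtype.ext h2)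

theorem rational (S : Finset (ZMod q)) (hS : ∀ l : ZMod q, ∃ v : ℤ, ft S l = (v : O)) {z z' : ZMod q}
    (h : addOrderOf z = addOrderOf z') : (z ∈ S ↔ z' ∈ S) := by
  obtain ⟨u, rfl⟩ := exists_unit_mul h
  have h1 : (if z ∈ S then (q : O) else 0) = if (u : ZMod q) * z ∈ S then (q : O) else 0 := by
    rw [← inversion, ← inversion]
    refine (Fintype.sum_equiv u.mulLeft _ _ fun l => ?_).symm
    obtain ⟨v, hv⟩ := hS l
    simp only [Units.mulLeft_apply]
    rw [hv, ft_unit S hv u]
    congr 2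
    ring
  have hq : (q : O) ≠ 0 := Nat.cast_ne_zero.mpr (NeZero.ne q)
  by_cases a : z ∈ S <;> by_cases b : (u : ZMod q) * z ∈ S <;> simp [a, b, hq, hq.symm] at h1 ⊢

/-- The equations of a strongly regular dihedrant, together with its non-degeneracy. -/
structure Data (R T : Finset (ZMod q)) (d K : ℤ) : Prop where
  zero_notMem : (0 : ZMod q) ∉ R
  symm : ∀ z ∈ R, -z ∈ R
  t_pos : 0 < T.card
  t_lt : T.card < q
  K_pos : 0 < K
  mu_pos : 0 < (R.card : ℤ) + T.card - K
  diff : ((R.card : ℤ) - T.card) ^ 2 = K + d * ((R.card : ℤ) - T.card)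
  cross : ((R.card : ℤ) + T.card - K) * q = (T.card : ℤ) * (2 * (R.card : ℤ) - d)
  eq1 : ∀ l : ZMod q, l ≠ 0 → ft R l ^ 2 + ft T l * ft T (-l) = (K : O) + (d : O) * ft R l
  eq2 : ∀ l : ZMod q, l ≠ 0 → ft T l * (2 * ft R l - (d : O)) = 0

theorem exists_prime_order (hq1 : 1 < q) {l : ℕ} (hlq : l ∣ q) :
    addOrderOf ((q / l : ℕ) : ZMod q) = l := by
  rw [ZMod.addOrderOf_coe' _ (Nat.div_ne_zero_iff_of_dvd hlq |>.mpr ⟨by omega, fun h => by
    subst h; rw [Nat.zero_dvd] at hlq; omega⟩)]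
  rw [Nat.gcd_eq_right (Nat.div_dvd_of_dvd hlq), Nat.div_div_self hlq (by omega)]

theorem structure_of_data (hodd : Odd q) (hq1 : 1 < q) {R T : Finset (ZMod q)} {d K d' K' : ℤ}
    (D : Data R T d K) (D' : Data (Rᶜ.erase 0) Tᶜ d' K') :
    ∃ ℓ : ℕ, ℓ.Prime ∧ ℓ ∣ q ∧ ℓ = q.minFac ∧ ∃ s m : ℤ, 0 < m ∧ d = 2 * s ∧ K = m ^ 2 - s ^ 2 ∧
      ((R.card : ℤ) - T.card = s + m ∨ (R.card : ℤ) - T.card = s - m) ∧
      (∀ l, l ≠ 0 → ∃ v : ℤ, ft R l = (v : O) ∧ (v = s ∨ v = s + m ∨ v = s - m)) ∧ (ℓ : ℤ) ∣ m ∧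
      ∀ z : ZMod q, z ≠ 0 → z + ((q / ℓ : ℕ) : ZMod q) ≠ 0 →
        (z + ((q / ℓ : ℕ) : ZMod q) ∈ R ↔ z ∈ R) := by
  classical
  have hq0 : (q : O) ≠ 0 := Nat.cast_ne_zero.mpr (NeZero.ne q)
  -- values of the character sums
  have values : ∀ {R T : Finset (ZMod q)} {d K : ℤ}, Data R T d K → ∃ s m : ℤ, 0 < m ∧ d = 2 * s ∧
      K = m ^ 2 - s ^ 2 ∧ ((R.card : ℤ) - T.card = s + m ∨ (R.card : ℤ) - T.card = s - m) ∧
      ∀ l, l ≠ 0 → ∃ v : ℤ, ft R l = (v : O) ∧ (v = s ∨ v = s + m ∨ v = s - m) := by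
    intro R T d K D
    set a : ℤ := (R.card : ℤ) - T.card with ha
    obtain ⟨l₀, hl₀, hTl₀⟩ : ∃ l : ZMod q, l ≠ 0 ∧ ft T l ≠ 0 := by
      by_contra hall
      push Not at hall
      obtain ⟨y₁, hy₁⟩ := Finset.card_pos.mp D.t_pos
      obtain ⟨y₂, hy₂⟩ : ∃ y, y ∉ T := by
        by_contra h
        push Not at h
        have := Finset.card_eq_of_equiv_fintype (s := T) (Equiv.subtypeUnivEquiv h)
        rw [ZMod.card] at this
        have := D.t_lt
        omega
      have h : ∀ y, ∑ l : ZMod q, ft T l * e (-(l * y)) = (T.card : O) := fun y => by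
        rw [Finset.sum_eq_single (0 : ZMod q) (fun l _ hl => by rw [hall l hl, zero_mul]) (by simp),
          ft_zero, zero_mul, neg_zero, e_zero, mul_one]
      have h1 := h y₁
      have h2 := h y₂
      rw [inversion, if_pos hy₁] at h1
      rw [inversion, if_neg hy₂] at h2
      exact hq0 (h1.trans h2.symm)
    have hd2 : (2 : ℤ) ∣ d := by
      refine int_dvd_of_dvd ⟨ft R l₀, ?_⟩
      have h := (mul_eq_zero.mp (D.eq2 l₀ hl₀)).resolve_left hTl₀
      push_cast
      linear_combination -h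
    obtain ⟨s, rfl⟩ := hd2
    refine ⟨s, |a - s|, ?_, rfl, ?_, ?_, ?_⟩
    · rw [abs_pos]
      intro h
      have h1 := D.diff
      have : a = s := by omega
      rw [← ha, this] at h1
      nlinarith [D.K_pos]
    · rw [sq_abs]; have := D.diff; rw [← ha] at this; nlinarith
    · rcases abs_choice (a - s) with h | h <;> rw [h]
      · exact Or.inl (by ring)
      · exact Or.inr (by ring)
    intro l hl
    rcases mul_eq_zero.mp (D.eq2 l hl) with hT | hR
    · have h1 := D.eq1 l hl
      rw [hT, zero_mul, add_zero] at h1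
      have hda : ((a : O)) ^ 2 = (K : O) + ((2 * s : ℤ) : O) * (a : O) := by rw [ha]; exact_mod_cast D.diff
      have h2 : (ft R l - (a : O)) * (ft R l - ((2 * s - a : ℤ) : O)) = 0 := by
        push_cast at h1 hda ⊢
        linear_combination h1 - hda
      rcases mul_eq_zero.mp h2 with h | h
      · refine ⟨a, sub_eq_zero.mp h, ?_⟩
        rcases abs_choice (a - s) with h' | h' <;> rw [h'] <;> omega
      · refine ⟨2 * s - a, sub_eq_zero.mp h, ?_⟩
        rcases abs_choice (a - s) with h' | h' <;> rw [h'] <;> omega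
    · refine ⟨s, ?_, Or.inl rfl⟩
      have h2 : (2 : O) * (ft R l - (s : O)) = 0 := by
        push_cast at hR
        linear_combination hR
      exact sub_eq_zero.mp ((mul_eq_zero.mp h2).resolve_left two_ne_zero)
  -- no nontrivial character is constant on `R`
  have notfull : ∀ {R T : Finset (ZMod q)} {d K : ℤ}, Data R T d K →
      ∀ l, l ≠ 0 → ft R l ≠ (R.card : O) := by
    intro R T d K D l hl hfull
    obtain ⟨s, m, hm, rfl, rfl, ha, hv⟩ := values D
    obtain ⟨v, hv1, hv2⟩ := hv l hl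
    have hρ : v = (R.card : ℤ) := by
      apply Int.cast_injective (α := O)
      rw [← hv1, hfull, Int.cast_natCast]
    subst hρ
    have htq : (T.card : ℤ) < (q : ℤ) := by exact_mod_cast D.t_lt
    have ht0 : (0 : ℤ) < T.card := by exact_mod_cast D.t_pos
    have hc := D.cross
    have hμ := D.mu_pos
    have hρ0 : (0 : ℤ) ≤ R.card := Int.natCast_nonneg _
    generalize (R.card : ℤ) = ρ, (T.card : ℤ) = t at *
    have hpos : 0 < ρ - s := by nlinarith
    have hρs : ρ = s + m := by omega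
    obtain rfl : t = 2 * m := by omega
    have hμq : (ρ + 2 * m - (m ^ 2 - s ^ 2)) * q = 4 * m ^ 2 := by rw [hc, hρs]; ring
    set μ := ρ + 2 * m - (m ^ 2 - s ^ 2) with hμdef
    have hs : s = ρ - m := by omega
    have hf : ρ ^ 2 - (2 * m - 1) * ρ + 2 * m - μ = 0 := by rw [hμdef, hs]; ring
    have hμ2 : μ < 2 * m := by nlinarith
    have hμ4 : 3 ≤ μ := by
      by_contra h
      obtain ⟨j, hj⟩ := hodd
      have hj' : (q : ℤ) = 2 * (j : ℤ) + 1 := by exact_mod_cast hj
      interval_cases μ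
      · omega
      · have hm2 : (q : ℤ) = 2 * m ^ 2 := by linarith
        omega
    rcases lt_trichotomy ρ 0 with h | h | h
    · omega
    · rw [h] at hf; nlinarith
    · rcases le_or_gt ρ (2 * m - 2) with h' | h'
      · nlinarith [mul_nonneg (show (0 : ℤ) ≤ ρ - 1 by omega) (show (0 : ℤ) ≤ 2 * m - 2 - ρ by omega)]
      · nlinarith
  obtain ⟨s, m, hm, hds, hK, ha, hv⟩ := values D
  subst hds hK
  have hint : ∀ l : ZMod q, ∃ v : ℤ, ft R l = (v : O) := fun l => by
    by_cases hl : l = 0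
    · exact ⟨R.card, by rw [hl, ft_zero, Int.cast_natCast]⟩
    · obtain ⟨v, h1, -⟩ := hv l hl
      exact ⟨v, h1⟩
  obtain ⟨ℓ, hℓmin, hℓ, hℓq⟩ : ∃ ℓ, ℓ = q.minFac ∧ ℓ.Prime ∧ ℓ ∣ q :=
    ⟨_, rfl, Nat.minFac_prime (by omega), Nat.minFac_dvd q⟩
  -- every prime divisor of `q` divides `m`
  have hdvd : ∀ r : ℕ, r.Prime → r ∣ q → (r : ℤ) ∣ m := by
    intro r hr hrq
    by_contra hrm
    have hr2 : r ≠ 2 := fun h => absurd (even_iff_two_dvd.mpr (h ▸ hrq)) (Nat.not_even_iff_odd.mpr hodd)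
    set ψ : ZMod q := ((q / r : ℕ) : ZMod q) with hψ
    have hψr : (r : ZMod q) * ψ = 0 := by rw [hψ, ← Nat.cast_mul, Nat.mul_div_cancel' hrq, ZMod.natCast_self]
    have hψ0 : ψ ≠ 0 := fun h => by
      have := exists_prime_order hq1 hrq
      rw [← hψ, h, addOrderOf_zero] at this
      exact hr.ne_one this.symm
    -- translation by `ψ` does not change the values
    have heq : ∀ x : ZMod q, x ≠ 0 → x + ψ ≠ 0 → ft R (x + ψ) = ft R x := by
      intro x hx hxψ
      obtain ⟨v, hv1, hv2⟩ := hv x hx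
      obtain ⟨w, hw1, hw2⟩ := hv _ hxψ
      have hd : (r : ℤ) ∣ w ^ r - v ^ r := by
        refine int_dvd_of_dvd ?_
        push_cast
        rw [← hw1, ← hv1]
        have h1 := sum_pow_prime hr R fun z => e ((x + ψ) * z)
        have h2 := sum_pow_prime hr R fun z => e (x * z)
        have h3 : ∀ z : ZMod q, e ((x + ψ) * z) ^ r = e (x * z) ^ r := fun z => by
          rw [← e_nsmul, ← e_nsmul, show (r : ZMod q) * ((x + ψ) * z) =
            (r : ZMod q) * (x * z) + ((r : ZMod q) * ψ) * z by ring, hψr, zero_mul, add_zero]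
        simp only [h3] at h1
        have := dvd_sub h1 h2
        simpa [ft] using this
      haveI : Fact r.Prime := ⟨hr⟩
      rw [← ZMod.intCast_zmod_eq_zero_iff_dvd, Int.cast_sub, Int.cast_pow, Int.cast_pow, ZMod.pow_card,
        ZMod.pow_card, ← Int.cast_sub, ZMod.intCast_zmod_eq_zero_iff_dvd] at hd
      have hp : Prime (r : ℤ) := Nat.prime_iff_prime_int.mp hr
      have h2 : ¬ (r : ℤ) ∣ 2 * m := fun h => by
        rcases hp.dvd_or_dvd h with h | h
        · have := Int.le_of_dvd two_pos h; have := hr.two_le; omega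
        · exact hrm h
      have h1 : ¬ (r : ℤ) ∣ -m := fun h => hrm (Int.dvd_neg.mp h)
      have h2' : ¬ (r : ℤ) ∣ -(2 * m) := fun h => h2 (Int.dvd_neg.mp h)
      rw [hw1, hv1]
      rcases hv2 with rfl | rfl | rfl <;> rcases hw2 with rfl | rfl | rfl <;>
        first
          | rfl
          | (exfalso; obtain ⟨c, hc⟩ := hd; first
              | exact hrm ⟨c, by linarith⟩
              | exact hrm ⟨-c, by linarith⟩
              | exact h2 ⟨c, by linarith⟩
              | exact h2 ⟨-c, by linarith⟩)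
    -- so membership is constant outside the kernel of `ψ`
    have hconst : ∀ z, ψ * z ≠ 0 →
        (if z ∈ R then (q : O) else 0) = (R.card : O) - ft R ψ := by
      intro z hz
      have hω : e (ψ * z) - 1 ≠ 0 := by
        intro h
        refine hz ((ZMod.isPrimitive_stdAddChar q).zmod_char_eq_one_iff q _ |>.mp ?_)
        exact congrArg Subtype.val (sub_eq_zero.mp h)
      have h1 : (if z ∈ R then (q : O) else 0) * (e (ψ * z) - 1) =
          ∑ l : ZMod q, (ft R (l + ψ) - ft R l) * e (-(l * z)) := by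
        rw [← inversion R z, mul_sub, mul_one, Finset.sum_mul]
        simp only [sub_mul, Finset.sum_sub_distrib]
        congr 1
        refine Fintype.sum_equiv (Equiv.addRight (-ψ)) _ _ fun l => ?_
        simp only [Equiv.coe_addRight, neg_add_cancel_right, mul_assoc, ← e_add]
        congr 2
        ring
      rw [Finset.sum_eq_add_of_mem (0 : ZMod q) (-ψ) (Finset.mem_univ _) (Finset.mem_univ _)
        (neg_ne_zero.mpr hψ0).symm (fun l _ hl => by
          rw [heq l hl.1 (fun h => hl.2 (eq_neg_of_add_eq_zero_left h)), sub_self, zero_mul]),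
        zero_add, neg_add_cancel, zero_mul, neg_zero, e_zero, ft_zero, neg_mul, neg_neg,
        ft_symm D.symm ψ] at h1
      refine mul_right_cancel₀ hω (h1.trans ?_)
      ring
    by_cases hall : ∀ z ∈ R, ψ * z = 0
    · refine notfull D ψ hψ0 ?_
      rw [ft, Finset.sum_congr rfl (fun z hz => by rw [hall z hz, e_zero])]
      simp
    push Not at hall
    obtain ⟨z₀, hz₀, hz₀'⟩ := hall
    refine notfull D' ψ hψ0 ?_
    have hin : ∀ z ∈ Rᶜ.erase 0, ψ * z = 0 := by
      intro z hz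
      rw [Finset.mem_erase, Finset.mem_compl] at hz
      by_contra h
      have h1 := hconst z h
      have h2 := hconst z₀ hz₀'
      rw [if_neg hz.2] at h1
      rw [if_pos hz₀, ← h1] at h2
      exact hq0 h2
    rw [ft, Finset.sum_congr rfl (fun z hz => by rw [hin z hz, e_zero])]
    simp
  -- membership of `i` times an element of prime order
  have hstep : ∀ r : ℕ, r.Prime → r ∣ q → ∀ y : ZMod q, y ≠ 0 → ¬ r ∣ addOrderOf y →
      (y + ((q / r : ℕ) : ZMod q) ∈ R ↔ y ∈ R) := by
    intro r hr hrq y hy hry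
    obtain ⟨e₀, q', hq', hqq⟩ := Nat.exists_eq_pow_mul_and_not_dvd (NeZero.ne q) r hr.ne_one
    set u : ZMod q := ((q / r : ℕ) : ZMod q) with hu
    have hu' : addOrderOf u = r := exists_prime_order hq1 hrq
    have he₀ : e₀ ≠ 0 := fun h => hq' (by rw [hqq, h, pow_zero, one_mul] at hrq; exact hrq)
    have hcop : (r ^ e₀).Coprime q' := Nat.Coprime.pow_left _ ((hr.coprime_iff_not_dvd).mpr hq')
    set A : ZMod q := ((r ^ e₀ : ℕ) : ZMod q) with hA
    set j₀ : ZMod q := (q' : ZMod q) with hj₀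
    have hAq : A * (q' : ZMod q) = 0 := by rw [hA, ← Nat.cast_mul, ← hqq, ZMod.natCast_self]
    have hAu : A * u = 0 := by
      rw [hA, hu, ← Nat.cast_mul, ZMod.natCast_eq_zero_iff]
      obtain ⟨e₁, he₁⟩ := Nat.exists_eq_succ_of_ne_zero he₀
      exact ⟨r ^ e₁, by rw [he₁, pow_succ, mul_assoc, Nat.mul_div_cancel' hrq, mul_comm]⟩
    -- `y` is killed by `q'`
    have hqy : (q' : ZMod q) * y = 0 := by
      rw [← nsmul_eq_mul, ← addOrderOf_dvd_iff_nsmul_eq_zero]
      have h1 : addOrderOf y ∣ r ^ e₀ * q' := by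
        rw [← hqq]; simpa [ZMod.card] using addOrderOf_dvd_card (x := y)
      exact (Nat.Coprime.pow_right e₀ ((hr.coprime_iff_not_dvd).mpr hry).symm).dvd_of_dvd_mul_left h1
    -- the sum over `i`
    have hsum : ∑ i : Fin q', ft R (j₀ + A * ((i : ℕ) : ZMod q)) * e (-((A * ((i : ℕ) : ZMod q)) * y)) =
        (q' : O) * ∑ z ∈ R.filter (fun z => A * (z - y) = 0), e (j₀ * z) := by
      simp only [ft, Finset.sum_mul]
      rw [Finset.sum_comm, Finset.sum_filter, Finset.mul_sum]
      refine Finset.sum_congr rfl fun z _ => ?_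
      have hsplit : ∀ i : Fin q', e ((j₀ + A * ((i : ℕ) : ZMod q)) * z) * e (-((A * ((i : ℕ) : ZMod q)) * y)) =
          e (j₀ * z) * e (A * (z - y)) ^ (i : ℕ) := fun i => by
        rw [← e_nsmul, ← e_add, ← e_add]
        congr 1
        ring
      rw [Finset.sum_congr rfl fun i _ => hsplit i, ← Finset.mul_sum,
        Fin.sum_univ_eq_sum_range (fun i => e (A * (z - y)) ^ i)]
      split_ifs with hz
      · rw [hz, e_zero]; simp [mul_comm]
      · have hω : e (A * (z - y)) ≠ 1 := by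
          intro h
          refine hz ((ZMod.isPrimitive_stdAddChar q).zmod_char_eq_one_iff q _ |>.mp ?_)
          exact congrArg Subtype.val h
        have h1 := geom_sum_mul (e (A * (z - y))) q'
        rw [← e_nsmul, show (q' : ZMod q) * (A * (z - y)) = (A * (q' : ZMod q)) * (z - y) by ring, hAq,
          zero_mul, e_zero, sub_self] at h1
        rw [(mul_eq_zero.mp h1).resolve_right (sub_ne_zero.mpr hω), mul_zero, mul_zero]
    have hj : ∀ i : Fin q', j₀ + A * ((i : ℕ) : ZMod q) ≠ 0 := by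
      intro i h
      rw [hj₀, hA, ← Nat.cast_mul, ← Nat.cast_add, ZMod.natCast_eq_zero_iff, hqq] at h
      have h1 : r ^ e₀ ∣ q' := (Nat.dvd_add_left (Dvd.intro _ rfl)).mp (dvd_trans (Dvd.intro _ rfl) h)
      exact hq' ((dvd_pow_self r he₀).trans h1)
    have hL : ((r : ℕ) : O) ∣ ∑ i : Fin q', ft R (j₀ + A * ((i : ℕ) : ZMod q)) * e (-((A * ((i : ℕ) : ZMod q)) * y)) := by
      have hne : A * y ≠ 0 := by
        intro h
        rw [hA, ← nsmul_eq_mul, ← addOrderOf_dvd_iff_nsmul_eq_zero] at h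
        obtain ⟨n, -, hn⟩ := (Nat.dvd_prime_pow hr).mp h
        rcases n with _ | n
        · rw [pow_zero, AddMonoid.addOrderOf_eq_one_iff] at hn; exact hy hn
        · exact hry (hn ▸ dvd_pow_self r n.succ_ne_zero)
      have h0 : ∑ i : Fin q', e (-((A * ((i : ℕ) : ZMod q)) * y)) = 0 := by
        have hω : e (-(A * y)) ≠ 1 := by
          intro h
          refine hne (neg_eq_zero.mp ((ZMod.isPrimitive_stdAddChar q).zmod_char_eq_one_iff q _ |>.mp ?_))
          exact congrArg Subtype.val h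
        rw [Finset.sum_congr rfl (g := fun i : Fin q' => e (-(A * y)) ^ (i : ℕ)) (fun i _ => by
          rw [← e_nsmul]; congr 1; ring), Fin.sum_univ_eq_sum_range (fun i => e (-(A * y)) ^ i)]
        have h1 := geom_sum_mul (e (-(A * y))) q'
        rw [← e_nsmul, show (q' : ZMod q) * (-(A * y)) = (A * (q' : ZMod q)) * -y by ring, hAq,
          zero_mul, e_zero, sub_self] at h1
        exact (mul_eq_zero.mp h1).resolve_right (sub_ne_zero.mpr hω)
      have h1 : ∑ i : Fin q', ft R (j₀ + A * ((i : ℕ) : ZMod q)) * e (-((A * ((i : ℕ) : ZMod q)) * y)) =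
          ∑ i : Fin q', (ft R (j₀ + A * ((i : ℕ) : ZMod q)) - (s : O)) * e (-((A * ((i : ℕ) : ZMod q)) * y)) := by
        simp only [sub_mul, Finset.sum_sub_distrib, ← Finset.mul_sum, h0, mul_zero, sub_zero]
      rw [h1]
      refine Finset.dvd_sum fun i _ => Dvd.dvd.mul_right ?_ _
      obtain ⟨v, hv1, hv2⟩ := hv _ (hj i)
      obtain ⟨c, hc⟩ := hdvd r hr hrq
      rw [hv1]
      rcases hv2 with rfl | rfl | rfl
      · simp
      · exact ⟨(c : O), by rw [hc]; push_cast; ring⟩
      · exact ⟨-(c : O), by rw [hc]; push_cast; ring⟩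
    -- the sum over the coset
    set S₀ := R.filter (fun z => A * (z - y) = 0) with hS₀
    set E := (Finset.range r).image (fun i : ℕ => y + (i : ZMod q) * u) with hE
    have hω : e (j₀ * u) ≠ 1 := by
      intro h
      have h1 := (ZMod.isPrimitive_stdAddChar q).zmod_char_eq_one_iff q _ |>.mp (congrArg Subtype.val h)
      rw [hj₀, ← nsmul_eq_mul, ← addOrderOf_dvd_iff_nsmul_eq_zero, hu'] at h1
      exact hq' h1
    have hout : ∀ z ∈ S₀.filter (fun z => z ∉ E),
        z + u ∈ S₀.filter (fun z => z ∉ E) ∧ z - u ∈ S₀.filter (fun z => z ∉ E) := by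
      intro z hz
      rw [Finset.mem_filter, hS₀, Finset.mem_filter] at hz
      obtain ⟨⟨hzR, hzA⟩, hzE⟩ := hz
      have hE' : ∀ i : ℕ, z ≠ y + (i : ZMod q) * u := fun i h => hzE (Finset.mem_image.mpr
        ⟨i % r, Finset.mem_range.mpr (Nat.mod_lt _ hr.pos), by
          rw [h, ← nsmul_eq_mul, ← nsmul_eq_mul]
          congr 1
          rw [← hu']
          exact mod_addOrderOf_nsmul u i⟩)
      have hr1 : ((r : ℕ) : ZMod q) * u = 0 := by
        rw [← nsmul_eq_mul, ← hu', addOrderOf_nsmul_eq_zero]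
      have hdiv : ∀ i : ℕ, r ∣ addOrderOf (z + (i : ZMod q) * u) := by
        intro i
        by_contra hw
        set w := z + (i : ZMod q) * u with hwdef
        have hw1 : (q' : ZMod q) * w = 0 := by
          rw [← nsmul_eq_mul, ← addOrderOf_dvd_iff_nsmul_eq_zero]
          have h1 : addOrderOf w ∣ r ^ e₀ * q' := by
            rw [← hqq]; simpa [ZMod.card] using addOrderOf_dvd_card (x := w)
          exact (Nat.Coprime.pow_right e₀ ((hr.coprime_iff_not_dvd).mpr hw).symm).dvd_of_dvd_mul_left h1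
        have hw2 : addOrderOf (w - y) ∣ r ^ e₀ := by
          rw [addOrderOf_dvd_iff_nsmul_eq_zero, nsmul_eq_mul, ← hA, hwdef,
            show A * (z + (i : ZMod q) * u - y) = A * (z - y) + (i : ZMod q) * (A * u) by ring, hzA,
            hAu, mul_zero, add_zero]
        have hw3 : addOrderOf (w - y) ∣ q' := by
          rw [addOrderOf_dvd_iff_nsmul_eq_zero, nsmul_eq_mul, mul_sub, hw1, hqy, sub_zero]
        have h1 : addOrderOf (w - y) = 1 := Nat.dvd_one.mp (hcop ▸ Nat.dvd_gcd hw2 hw3)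
        rw [AddMonoid.addOrderOf_eq_one_iff, sub_eq_zero, hwdef] at h1
        refine hE' ((r - 1) * i) ?_
        rw [Nat.cast_mul, Nat.cast_sub hr.one_le, Nat.cast_one]
        linear_combination h1 - (i : ZMod q) * hr1
      have hord : ∀ w : ZMod q, (∃ i : ℕ, w = z + (i : ZMod q) * u) → addOrderOf w = addOrderOf z := by
        rintro w ⟨i, rfl⟩
        refine same_order hr ?_ (by simpa using hdiv 0) (hdiv i)
        rw [addOrderOf_dvd_iff_nsmul_eq_zero, nsmul_eq_mul, mul_left_comm, hr1, mul_zero]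
      have mk : ∀ w, (∃ i : ℕ, w = z + (i : ZMod q) * u) →
          w ∈ S₀.filter (fun z => z ∉ E) := by
        rintro w ⟨i, rfl⟩
        refine Finset.mem_filter.mpr ⟨Finset.mem_filter.mpr
          ⟨(rational R hint (hord _ ⟨i, rfl⟩)).mpr hzR, ?_⟩, ?_⟩
        · rw [show A * (z + (i : ZMod q) * u - y) = A * (z - y) + (i : ZMod q) * (A * u) by ring, hzA,
            hAu, mul_zero, add_zero]
        · rw [hE, Finset.mem_image]
          rintro ⟨j, -, hj⟩
          refine hE' (j + (r - 1) * i) ?_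
          have hrc : ((r - 1 : ℕ) : ZMod q) = (r : ZMod q) - 1 := by
            rw [Nat.cast_sub hr.one_le, Nat.cast_one]
          push_cast [hrc]
          linear_combination -hj - (i : ZMod q) * hr1
      refine ⟨mk _ ⟨1, by simp⟩, mk _ ⟨r - 1, ?_⟩⟩
      rw [Nat.cast_sub hr.one_le, Nat.cast_one]
      linear_combination -hr1
    have hzero : ∑ z ∈ S₀.filter (fun z => z ∉ E), e (j₀ * z) = 0 := by
      have h1 : e (j₀ * u) * ∑ z ∈ S₀.filter (fun z => z ∉ E), e (j₀ * z) =
          ∑ z ∈ S₀.filter (fun z => z ∉ E), e (j₀ * z) := by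
        rw [Finset.mul_sum]
        refine Finset.sum_bij' (fun z _ => z + u) (fun z _ => z - u) (fun z hz => (hout z hz).1)
          (fun z hz => (hout z hz).2) (by simp) (by simp) fun z _ => ?_
        rw [← e_add]; congr 1; ring
      exact (mul_eq_zero.mp (show (e (j₀ * u) - 1) * _ = 0 by
        rw [sub_mul, one_mul]; exact sub_eq_zero.mpr h1)).resolve_left (sub_ne_zero.mpr hω)
    have hEsum : ∑ z ∈ S₀.filter (fun z => z ∈ E), e (j₀ * z) =
        ((if y ∈ R then 1 else 0) - (if y + u ∈ R then 1 else 0) : ℤ) := by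
      have hset : S₀.filter (fun z => z ∈ E) = E.filter (fun z => z ∈ R) := by
        ext z
        simp only [hS₀, Finset.mem_filter]
        refine ⟨fun h => ⟨h.2, h.1.1⟩, fun h => ⟨⟨h.2, ?_⟩, h.1⟩⟩
        obtain ⟨i, -, rfl⟩ := Finset.mem_image.mp h.1
        rw [add_sub_cancel_left, mul_left_comm, hAu, mul_zero]
      have hinj : Set.InjOn (fun i : ℕ => y + (i : ZMod q) * u) ↑(Finset.range r) := by
        intro i hi j hj hij
        rw [Finset.coe_range, Set.mem_Iio] at hi hj
        rw [← hu'] at hi hj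
        exact (nsmul_injOn_Iio_addOrderOf (x := u)) hi hj (by
          simpa [nsmul_eq_mul] using add_left_cancel hij)
      rw [hset, Finset.sum_filter, hE, Finset.sum_image hinj]
      have hsame : ∀ i ∈ Finset.range r, i ≠ 0 → (y + (i : ZMod q) * u ∈ R ↔ y + u ∈ R) := by
        intro i hi hi0
        rw [Finset.mem_range] at hi
        refine rational R hint ?_
        have hord : ∀ x : ZMod q, addOrderOf x = r → addOrderOf (y + x) = addOrderOf y * r := fun x hx => by
          rw [(AddCommute.all y x).addOrderOf_add_eq_mul_addOrderOf_of_coprime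
            (by rw [hx]; exact ((hr.coprime_iff_not_dvd).mpr hry).symm), hx]
        rw [hord _ (by
          haveI : Fact r.Prime := ⟨hr⟩
          refine addOrderOf_eq_prime ?_ ?_
          · rw [nsmul_eq_mul, mul_left_comm, ← nsmul_eq_mul r u, ← hu', addOrderOf_nsmul_eq_zero,
              mul_zero]
          · rw [← nsmul_eq_mul]
            intro h
            exact hi0 (Nat.eq_zero_of_dvd_of_lt (hu' ▸ addOrderOf_dvd_iff_nsmul_eq_zero.mpr h) hi)),
          hord u hu']
      rw [Finset.sum_eq_add_sum_sdiff_singleton_of_mem (Finset.mem_range.mpr hr.pos)]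
      simp only [Nat.cast_zero, zero_mul, add_zero]
      have hey : e (j₀ * y) = 1 := by rw [hj₀, hqy, e_zero]
      have hrest : ∑ i ∈ Finset.range r \ {0}, e (j₀ * (y + (i : ZMod q) * u)) = -1 := by
        have h1 := geom_sum_mul (e (j₀ * u)) r
        rw [← e_nsmul, show (r : ZMod q) * (j₀ * u) = j₀ * ((r : ZMod q) * u) by ring,
          ← nsmul_eq_mul r u, ← hu', addOrderOf_nsmul_eq_zero, mul_zero, e_zero, sub_self] at h1
        have h2 := (mul_eq_zero.mp h1).resolve_right (sub_ne_zero.mpr hω)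
        rw [hu', Finset.sum_eq_add_sum_sdiff_singleton_of_mem (Finset.mem_range.mpr hr.pos),
          pow_zero] at h2
        rw [Finset.sum_congr rfl (g := fun i => e (j₀ * u) ^ i) (fun i _ => by
          rw [← e_nsmul, mul_add, e_add, hey, one_mul]; congr 1; ring)]
        linear_combination h2
      rw [Finset.sum_congr rfl (g := fun i : ℕ => (if y + u ∈ R then (1 : O) else 0) *
        e (j₀ * (y + (i : ZMod q) * u))) (fun i hi => ?_), ← Finset.mul_sum, hrest, hey]
      · push_cast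
        split_ifs <;> ring
      · rw [Finset.mem_sdiff, Finset.mem_singleton] at hi
        by_cases h : y + u ∈ R
        · rw [if_pos ((hsame i hi.1 hi.2).mpr h), if_pos h, one_mul]
        · rw [if_neg (mt (hsame i hi.1 hi.2).mp h), if_neg h, zero_mul]
    rw [hsum, ← Finset.sum_filter_add_sum_filter_not S₀ (fun z => z ∈ E), hzero, add_zero, hEsum] at hL
    have h1 : (r : ℤ) ∣ (q' : ℤ) * ((if y ∈ R then 1 else 0) - (if y + u ∈ R then 1 else 0)) := by
      refine int_dvd_of_dvd ?_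
      push_cast at hL ⊢
      exact hL
    have hr2 := hr.two_le
    rcases (Nat.prime_iff_prime_int.mp hr).dvd_or_dvd h1 with h | h
    · exact absurd (Int.natCast_dvd_natCast.mp h) hq'
    · by_cases a : y ∈ R <;> by_cases b : y + u ∈ R <;> simp [a, b] at h ⊢
      all_goals (have := Int.le_of_dvd one_pos h; omega)
  refine ⟨ℓ, hℓ, hℓq, hℓmin, s, m, hm, rfl, rfl, ha, hv, hdvd ℓ hℓ hℓq, fun z hz hzu => ?_⟩
  set u : ZMod q := ((q / ℓ : ℕ) : ZMod q) with hu
  have hu' : addOrderOf u = ℓ := exists_prime_order hq1 hℓq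
  by_cases hzl : ℓ ∣ addOrderOf z
  swap
  · exact hstep ℓ hℓ hℓq z hz hzl
  by_cases hzu' : ℓ ∣ addOrderOf (z + u)
  · exact rational R hint (same_order hℓ hu'.dvd hzl hzu')
  have h1 := hstep ℓ hℓ hℓq (z + u) hzu hzu'
  have hcp : (addOrderOf (z + u)).Coprime ℓ := ((hℓ.coprime_iff_not_dvd).mpr hzu').symm
  have hord : addOrderOf z = addOrderOf (z + u + u) := by
    have e1 := (AddCommute.all (z + u) u).addOrderOf_add_eq_mul_addOrderOf_of_coprime (by rw [hu']; exact hcp)
    have e2 := (AddCommute.all (z + u) (-u)).addOrderOf_add_eq_mul_addOrderOf_of_coprime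
      (by rw [addOrderOf_neg, hu']; exact hcp)
    rw [addOrderOf_neg, add_neg_cancel_right] at e2
    rw [e1, e2]
  rw [← h1]
  exact (rational R hint hord).symm

/-- A strongly regular dihedrant is imprimitive. -/
theorem contra_aux (hodd : Odd q) (hq1 : 1 < q) {R T : Finset (ZMod q)} {d K d' K' : ℤ}
    (D : Data R T d K) (D' : Data (Rᶜ.erase 0) Tᶜ d' K')
    (hout : ∀ ℓ : ℕ, ℓ.Prime → ℓ ∣ q → ℓ = q.minFac → ((q / ℓ : ℕ) : ZMod q) ∉ R) : False := by
  classical
  obtain ⟨ℓ, hℓ, hℓq, hℓm, s, m, hm, rfl, rfl, ha, hv, hdvd, hinv⟩ := structure_of_data hodd hq1 D D'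
  set u : ZMod q := ((q / ℓ : ℕ) : ZMod q) with hu
  have huR : u ∉ R := hout ℓ hℓ hℓq hℓm
  have hu' : addOrderOf u = ℓ := exists_prime_order hq1 hℓq
  have hℓ3 : 3 ≤ ℓ := by
    have := hℓ.two_le
    rcases eq_or_ne ℓ 2 with rfl | h
    · exact absurd (even_iff_two_dvd.mpr hℓq) (Nat.not_even_iff_odd.mpr hodd)
    · omega
  have hinv' : ∀ z, z + u ∈ R ↔ z ∈ R := by
    intro z
    by_cases hz : z = 0
    · subst hz
      simp [huR, D.zero_notMem]
    by_cases hzu : z + u = 0
    · rw [hzu, eq_neg_of_add_eq_zero_left hzu]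
      exact iff_of_false D.zero_notMem fun h => huR (by simpa using D.symm _ h)
    exact hinv z hz hzu
  have hvan : ∀ l : ZMod q, l * u ≠ 0 → ft R l = 0 := by
    intro l hl
    have hω : e (l * u) ≠ 1 := fun h => hl ((ZMod.isPrimitive_stdAddChar q).zmod_char_eq_one_iff q _
      |>.mp (congrArg Subtype.val h))
    have h1 : e (l * u) * ft R l = ft R l := by
      rw [ft, Finset.mul_sum]
      refine Finset.sum_bij' (fun z _ => z + u) (fun z _ => z - u) (fun z hz => (hinv' z).mpr hz)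
        (fun z hz => (hinv' (z - u)).mp (by simpa using hz)) (by simp) (by simp) fun z _ => ?_
      rw [← e_add]; congr 1; ring
    exact (mul_eq_zero.mp (show (e (l * u) - 1) * ft R l = 0 by
      rw [sub_mul, one_mul]; exact sub_eq_zero.mpr h1)).resolve_left (sub_ne_zero.mpr hω)
  obtain rfl : s = 0 := by
    have hu0 : (1 : ZMod q) * u ≠ 0 := by
      rw [one_mul]; intro h; rw [h, addOrderOf_zero] at hu'; omega
    obtain ⟨v, hv1, hv2⟩ := hv 1 (fun h => hu0 (by rw [h, zero_mul]))
    rw [hvan 1 hu0] at hv1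
    obtain rfl : v = 0 := (Int.cast_injective (α := O) (by rw [← hv1, Int.cast_zero]) : v = 0)
    have := D.K_pos
    rcases hv2 with h | h | h
    · exact h.symm
    · rw [show s = -m by omega] at this; nlinarith
    · rw [show s = m by omega] at this; nlinarith
  set S := Finset.univ.filter (fun l : ZMod q => l * u = 0) with hS
  have hScard : ℓ * S.card = q := by
    have key : ∀ l : ZMod q, ∑ i ∈ Finset.range ℓ, e (l * u) ^ i = if l ∈ S then (ℓ : O) else 0 := by
      intro l
      have h1 := geom_sum_mul (e (l * u)) ℓ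
      rw [← e_nsmul, show (ℓ : ZMod q) * (l * u) = l * ((ℓ : ZMod q) * u) by ring, ← nsmul_eq_mul ℓ u,
        ← hu', addOrderOf_nsmul_eq_zero, mul_zero, e_zero, sub_self, hu'] at h1
      split_ifs with h
      · rw [hS, Finset.mem_filter] at h
        simp [h.2, e_zero]
      · refine (mul_eq_zero.mp h1).resolve_right (sub_ne_zero.mpr fun he => h ?_)
        rw [hS, Finset.mem_filter]
        exact ⟨Finset.mem_univ _, (ZMod.isPrimitive_stdAddChar q).zmod_char_eq_one_iff q _
          |>.mp (congrArg Subtype.val he)⟩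
    have h2 : ∑ l : ZMod q, ∑ i ∈ Finset.range ℓ, e (l * u) ^ i = (q : O) := by
      rw [Finset.sum_comm, Finset.sum_eq_single 0]
      · simp [ZMod.card]
      · intro i hi hi0
        rw [Finset.mem_range] at hi
        rw [Finset.sum_congr rfl (g := fun l => e (l * ((i : ZMod q) * u))) (fun l _ => by
          rw [← e_nsmul]; congr 1; ring), sum_e, if_neg]
        rw [← nsmul_eq_mul]
        exact fun h => hi0 (Nat.eq_zero_of_dvd_of_lt (hu' ▸ addOrderOf_dvd_iff_nsmul_eq_zero.mpr h) hi)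
      · intro h; exact absurd (Finset.mem_range.mpr (by omega)) h
    rw [Finset.sum_congr rfl (fun l _ => key l), Finset.sum_ite_mem, Finset.univ_inter, Finset.sum_const,
      nsmul_eq_mul] at h2
    have : ((ℓ * S.card : ℕ) : O) = (q : O) := by push_cast; linear_combination h2
    exact_mod_cast this
  have h0S : (0 : ZMod q) ∈ S := by simp [hS]
  choose f hf using fun l : ZMod q => (show ∃ v : ℤ, ft R l = (v : O) ∧
      (l ∉ S → v = 0) ∧ (l ≠ 0 → v ^ 2 ≤ m ^ 2) ∧ (l = 0 → v = R.card) from by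
    by_cases hl : l = 0
    · exact ⟨R.card, by rw [hl, ft_zero, Int.cast_natCast], fun h => absurd (hl ▸ h0S) h,
        fun h => absurd hl h, fun _ => rfl⟩
    · obtain ⟨v, hv1, hv2⟩ := hv l hl
      refine ⟨v, hv1, fun h => ?_, fun _ => ?_, fun h => absurd h hl⟩
      · refine Int.cast_injective (α := O) ?_
        rw [← hv1, hvan l (by simpa [hS] using h), Int.cast_zero]
      · rcases hv2 with rfl | rfl | rfl <;> nlinarith [sq_nonneg m])
  have hP : ∑ l : ZMod q, f l ^ 2 = (q : ℤ) * R.card := by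
    refine Int.cast_injective (α := O) ?_
    push_cast
    rw [← parseval D.symm]
    exact Finset.sum_congr rfl fun l _ => by rw [(hf l).1]
  have hle : (q : ℤ) * R.card ≤ (R.card : ℤ) ^ 2 + ((S.card : ℤ) - 1) * m ^ 2 := by
    rw [← hP, ← Finset.sum_subset (Finset.subset_univ S) (fun l _ hl => by rw [(hf l).2.1 hl]; norm_num),
      ← Finset.add_sum_erase _ _ h0S, (hf 0).2.2.2 rfl]
    refine add_le_add le_rfl ((Finset.sum_le_card_nsmul _ _ (m ^ 2) fun l hl => ?_).trans (le_of_eq ?_))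
    · exact (hf l).2.2.1 (Finset.ne_of_mem_erase hl)
    · rw [Finset.card_erase_of_mem h0S, nsmul_eq_mul, Nat.cast_sub (Finset.one_le_card.mpr ⟨_, h0S⟩),
        Nat.cast_one]
  have hc := D.cross
  have hμ := D.mu_pos
  have hℓm' : (ℓ : ℤ) ≤ m := Int.le_of_dvd hm hdvd
  have hℓN : (ℓ : ℤ) * S.card = q := by exact_mod_cast hScard
  have hℓ3' : (3 : ℤ) ≤ ℓ := by exact_mod_cast hℓ3
  have ht0 : (0 : ℤ) ≤ T.card := Int.natCast_nonneg _
  have hρ0 : (0 : ℤ) ≤ R.card := Int.natCast_nonneg _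
  have htq : (T.card : ℤ) ≤ q := by exact_mod_cast D.t_lt.le
  have hρq : (R.card : ℤ) ≤ q := by
    have := Finset.card_le_univ R
    rw [ZMod.card] at this
    exact_mod_cast this
  have hN1 : (1 : ℤ) ≤ S.card := by exact_mod_cast Finset.one_le_card.mpr ⟨_, h0S⟩
  generalize (R.card : ℤ) = ρ, (T.card : ℤ) = t, (S.card : ℤ) = N, (q : ℤ) = Q, (ℓ : ℤ) = L at *
  exact arith hℓ3' hℓm' hm hℓN hN1 hρ0 hρq ht0 htq (by simpa using ha) (by simpa using hc) hle

/-- A strongly regular dihedrant is imprimitive. -/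
theorem contra (hodd : Odd q) (hq1 : 1 < q) {R T : Finset (ZMod q)} {d K d' K' : ℤ}
    (D : Data R T d K) (D' : Data (Rᶜ.erase 0) Tᶜ d' K') : False := by
  classical
  set u : ZMod q := ((q / q.minFac : ℕ) : ZMod q)
  by_cases hu : u ∈ R
  · have hRR : ((Rᶜ.erase 0)ᶜ.erase 0) = R := by
      ext z
      by_cases hz : z = 0
      · subst hz; simp [D.zero_notMem]
      · simp [hz]
    refine contra_aux hodd hq1 D' (by rw [hRR, compl_compl]; exact D) fun ℓ _ _ h => ?_
    subst h
    simp [u, hu] at *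
  · exact contra_aux hodd hq1 D D' fun ℓ _ _ h => by subst h; exact hu

end Cfsg.Agent.Lib.Perm.PrimeHalf.Dihedrant
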