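import Cfsg.Agent.Lib.Perm.PrimeHalf.Srg
import Mathlib.GroupTheory.Perm.Cycle.Type
import Mathlib.GroupTheory.GroupAction.Basic

/-!
The strongly regular graph on the points outside a pair, refuting the four-orbit case.
-/

set_option autoImplicit false

open MulAction

namespace Cfsg.Agent.Lib.Perm.PrimeHalf

variable {X : Type*} [Group X] {Ω : Type*} [MulAction X Ω]

/-- The sign of an involution with two fixed points, or of any permutation squaring to the identity. -/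
theorem sign_of_sq_eq_one [Fintype Ω] [DecidableEq Ω] {π : Equiv.Perm Ω} (h : π * π = 1) :
    ∃ n, π.support.card = 2 * n ∧ Equiv.Perm.sign π = (-1) ^ n := by
  haveI : Fact (Nat.Prime 2) := ⟨Nat.prime_two⟩
  have h2 : π ^ 2 = 1 := by rw [sq, h]
  have hall : ∀ c ∈ π.cycleType, c = 2 := (Equiv.Perm.pow_prime_eq_one_iff).mp h2
  have hsum : π.cycleType.sum = 2 * Multiset.card π.cycleType := by
    conv_lhs => rw [Multiset.eq_replicate_card.mpr hall]
    simp [mul_comm]
  refine ⟨Multiset.card π.cycleType, by rw [← Equiv.Perm.sum_cycleType, hsum], ?_⟩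
  rw [Equiv.Perm.sign_of_cycleType, hsum, pow_add, pow_mul, neg_one_sq, one_pow, one_mul]

/-- A multiplication by a generator of the units, fixing the two other points, is odd. -/
theorem sign_of_mult [Fintype Ω] [DecidableEq Ω] {p : ℕ} [hp : Fact p.Prime] (hΩ : Fintype.card Ω = p + 1)
    (hp2 : p ≠ 2) {π : Equiv.Perm Ω} (o : Ω) (e : ZMod p → Ω) (he : Function.Injective e)
    (hr : ∀ x, x ≠ o → ∃ j, e j = x) (heo : ∀ j, e j ≠ o) (ho : π o = o) (g : (ZMod p)ˣ)
    (hg : ∀ u, u ∈ Subgroup.zpowers g) (hπ : ∀ j, π (e j) = e ((g : ZMod p) * j)) :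
    Equiv.Perm.sign π = -1 := by
  have hg1 : (g : ZMod p) ≠ 1 := by
    intro h
    rw [Units.val_eq_one] at h
    have h2 := hg (-1)
    rw [h, Subgroup.zpowers_one_eq_bot, Subgroup.mem_bot] at h2
    have h3 : (-1 : ZMod p) = 1 := congrArg Units.val h2
    haveI : Fact (2 < p) := ⟨by have := hp.out.two_le; omega⟩
    exact ZMod.neg_one_ne_one h3
  have hpow : ∀ (n : ℕ) (j : ZMod p), (π ^ n) (e j) = e ((g : ZMod p) ^ n * j) := by
    intro n
    induction n with
    | zero => intro j; simp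
    | succ n ih => intro j; rw [pow_succ, Equiv.Perm.mul_apply, hπ, ih, pow_succ, mul_assoc]
  have hmove : ∀ j, π (e j) ≠ e j ↔ j ≠ 0 := by
    intro j
    rw [hπ, he.ne_iff]
    constructor
    · rintro h rfl; exact h (mul_zero _)
    · intro hj h
      exact hg1 (by simpa [hj] using (mul_eq_right₀ hj).mp h)
  have hsupp : π.support = ({o, e 0} : Finset Ω)ᶜ := by
    ext x
    rw [Equiv.Perm.mem_support, Finset.mem_compl, Finset.mem_insert, Finset.mem_singleton]
    rcases eq_or_ne x o with rfl | hx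
    · simp [ho]
    obtain ⟨j, rfl⟩ := hr x hx
    rw [hmove, he.eq_iff]
    simp [hx]
  have hc : π.IsCycle := by
    refine ⟨e 1, (hmove 1).mpr one_ne_zero, fun y hy => ?_⟩
    have hyo : y ≠ o := fun h => hy (h ▸ ho)
    obtain ⟨j, rfl⟩ := hr y hyo
    have hj := (hmove j).mp hy
    obtain ⟨n, hn⟩ := mem_powers_iff_mem_zpowers.mpr (hg (Units.mk0 j hj))
    refine ⟨(n : ℤ), ?_⟩
    rw [zpow_natCast, hpow, mul_one, ← Units.val_pow_eq_pow_val, show g ^ n = Units.mk0 j hj from hn,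
      Units.val_mk0]
  rw [hc.sign, hsupp, Finset.card_compl, Finset.card_pair (heo 0).symm, hΩ]
  obtain ⟨k, hk⟩ := hp.out.odd_of_ne_two hp2
  rw [show p + 1 - 2 = 2 * k by omega, pow_mul, neg_one_sq, one_pow]

/-- `g` moves `z` to `w` and fixes the three points. -/
def Orb (X : Type*) [Group X] {Ω : Type*} [MulAction X Ω] (o z₀ y z w : Ω) : Prop :=
  ∃ g : X, g • o = o ∧ g • z₀ = z₀ ∧ g • y = y ∧ g • z = w

theorem Orb.refl (o z₀ y z : Ω) : Orb X o z₀ y z z := ⟨1, by simp, by simp, by simp, by simp⟩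

theorem Orb.symm {o z₀ y z w : Ω} (h : Orb X o z₀ y z w) : Orb X o z₀ y w z := by
  obtain ⟨g, h1, h2, h3, h4⟩ := h
  exact ⟨g⁻¹, inv_smul_eq_iff.mpr h1.symm, inv_smul_eq_iff.mpr h2.symm, inv_smul_eq_iff.mpr h3.symm,
    inv_smul_eq_iff.mpr h4.symm⟩

theorem Orb.trans {o z₀ y z w u : Ω} (h : Orb X o z₀ y z w) (h' : Orb X o z₀ y w u) :
    Orb X o z₀ y z u := by
  obtain ⟨g, h1, h2, h3, h4⟩ := h
  obtain ⟨g', h1', h2', h3', h4'⟩ := h'
  exact ⟨g' * g, by rw [mul_smul, h1, h1'], by rw [mul_smul, h2, h2'], by rw [mul_smul, h3, h3'],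
    by rw [mul_smul, h4, h4']⟩

theorem Orb.map {o z₀ y z w : Ω} (h : Orb X o z₀ y z w) {t : X}
    (ht : (t • o = o ∧ t • z₀ = z₀) ∨ (t • o = z₀ ∧ t • z₀ = o)) :
    Orb X o z₀ (t • y) (t • z) (t • w) := by
  obtain ⟨g, h1, h2, h3, h4⟩ := h
  have hfix : ∀ x : Ω, g • x = x → (t * g * t⁻¹) • t • x = t • x := fun x hx => by
    rw [mul_smul, inv_smul_smul, mul_smul, hx]
  refine ⟨t * g * t⁻¹, ?_, ?_, hfix y h3, by rw [mul_smul, inv_smul_smul, mul_smul, h4]⟩
  · rcases ht with ⟨t1, -⟩ | ⟨-, t2⟩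
    · simpa [t1] using hfix o h1
    · simpa [t2] using hfix z₀ h2
  · rcases ht with ⟨-, t2⟩ | ⟨t1, -⟩
    · simpa [t2] using hfix z₀ h2
    · simpa [t1] using hfix o h1

/-- The points outside `o, z₀` and `y`. -/
def Rest (o z₀ y z : Ω) : Prop := z ≠ o ∧ z ≠ z₀ ∧ z ≠ y

theorem four_orbits_false [Finite X] [FaithfulSMul X Ω] [Fintype Ω] [DecidableEq Ω] {p q : ℕ} [hp : Fact p.Prime]
    (hΩ : Fintype.card Ω = p + 1) (hpq : 2 * q + 1 = p) (hqodd : Odd q) (hq1 : 1 < q)
    (heven : ∀ x : X, Equiv.Perm.sign (MulAction.toPerm x : Equiv.Perm Ω) = 1)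
    (o : Ω) (e : ZMod p → Ω) (he : Function.Injective e) (hr : ∀ x, x ≠ o → ∃ j, e j = x)
    (heo : ∀ j, e j ≠ o) (h : X) (k : (ZMod p)ˣ) (hho : h • o = o)
    (hh : ∀ j, h • e j = e ((k : ZMod p) * j)) (hk : orderOf k = q)
    (w : X) (hwo : w • o = e 0) (hw0 : w • e 0 = o) (hw2 : w * w = 1) (hwh : w * h * w = h⁻¹)
    (hpair : ∀ a b c d : Ω, a ≠ o → b ≠ o → c ≠ o → d ≠ o → a ≠ b → c ≠ d →
      ∃ g : X, g • o = o ∧ g • a = c ∧ g • b = d)
    (htwo : ∀ y, y ≠ o → y ≠ e 0 → ∃ z u, Rest o (e 0) y z ∧ Rest o (e 0) y u ∧ ¬ Orb X o (e 0) y z u)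
    (hthree : ∀ y, y ≠ o → y ≠ e 0 → ∀ z u v, Rest o (e 0) y z → Rest o (e 0) y u → Rest o (e 0) y v →
      Orb X o (e 0) y z u ∨ Orb X o (e 0) y z v ∨ Orb X o (e 0) y u v)
    (hblock : ∀ (B : Set Ω) (β β' γ : Ω), β ∈ B → β' ∈ B → β' ≠ β → γ ∉ B → γ ≠ o → γ ≠ e 0 →
      (∀ v ∈ B, v ≠ o ∧ v ≠ e 0) →
      (∀ g : X, g • o = o → g • e 0 = e 0 → ∀ u ∈ B, g • u ∈ B → ∀ v ∈ B, g • v ∈ B) → False) :
    False := by
  classical
  haveI : NeZero q := ⟨by omega⟩
  haveI := Fintype.ofFinite X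
  set z₀ := e 0 with hz₀
  have hz0o : z₀ ≠ o := heo 0
  let Sw : X → Prop := fun t => (t • o = o ∧ t • z₀ = z₀) ∨ (t • o = z₀ ∧ t • z₀ = o)
  have hswinv : ∀ t, Sw t → Sw t⁻¹ := by
    rintro t (⟨h1, h2⟩ | ⟨h1, h2⟩)
    · exact Or.inl ⟨inv_smul_eq_iff.mpr h1.symm, inv_smul_eq_iff.mpr h2.symm⟩
    · exact Or.inr ⟨inv_smul_eq_iff.mpr h2.symm, inv_smul_eq_iff.mpr h1.symm⟩
  let V : Ω → Prop := fun y => y ≠ o ∧ y ≠ z₀
  have hrest : ∀ {t y z}, Sw t → Rest o z₀ y z → Rest o z₀ (t • y) (t • z) := by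
    rintro t y z (⟨h1, h2⟩ | ⟨h1, h2⟩) ⟨a, b, c⟩
    · exact ⟨h1 ▸ (smul_left_cancel_iff t).not.mpr a, h2 ▸ (smul_left_cancel_iff t).not.mpr b,
        (smul_left_cancel_iff t).not.mpr c⟩
    · exact ⟨h2 ▸ (smul_left_cancel_iff t).not.mpr b, h1 ▸ (smul_left_cancel_iff t).not.mpr a,
        (smul_left_cancel_iff t).not.mpr c⟩
  -- sizes of suborbits
  let O : Ω → Ω → Finset Ω := fun y z => Finset.univ.filter fun u => Orb X o z₀ y z u
  have hO : ∀ {y z u}, u ∈ O y z ↔ Orb X o z₀ y z u := fun {y z u} => by simp [O]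
  have hOcard : ∀ {t y z}, Sw t → (O (t • y) (t • z)).card = (O y z).card := by
    intro t y z ht
    refine (Finset.card_bij (fun u _ => t • u) (fun u hu => hO.mpr ((hO.mp hu).map ht))
      (fun a _ b _ hab => smul_left_cancel t hab) fun u hu => ⟨t⁻¹ • u, hO.mpr ?_, smul_inv_smul t u⟩).symm
    have := (hO.mp hu).map (hswinv t ht)
    rwa [inv_smul_smul, inv_smul_smul] at this
  have htrans : ∀ {y y'}, V y → V y' → ∃ t : X, (t • o = o ∧ t • z₀ = z₀) ∧ t • y = y' := by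
    intro y y' hy hy'
    obtain ⟨g, h1, h2, h3⟩ := hpair z₀ y z₀ y' hz0o hy.1 hz0o hy'.1 hy.2.symm hy'.2.symm
    exact ⟨g, ⟨h1, h2⟩, h3⟩
  have hdiff : ∀ {y z u}, V y → Rest o z₀ y z → Rest o z₀ y u → ¬ Orb X o z₀ y z u →
      (O y z).card ≠ (O y u).card := by
    intro y z u hy hz hu hzu heq
    have hdisj : Disjoint (O y z) (O y u) := Finset.disjoint_left.mpr fun x h1 h2 =>
      hzu ((hO.mp h1).trans (hO.mp h2).symm)
    have hcov : O y z ∪ O y u = ({o, z₀, y} : Finset Ω)ᶜ := by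
      ext x
      simp only [Finset.mem_union, hO, Finset.mem_compl, Finset.mem_insert, Finset.mem_singleton, not_or]
      constructor
      · intro hx
        have key : ∀ s, Rest o z₀ y s → Orb X o z₀ y s x → ¬ x = o ∧ ¬ x = z₀ ∧ ¬ x = y := by
          rintro s hs ⟨g, g1, g2, g3, rfl⟩
          have := hrest (Or.inl ⟨g1, g2⟩) hs
          rw [g3] at this
          exact this
        rcases hx with hx | hx
        · exact key z hz hx
        · exact key u hu hx
      · rintro hx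
        rcases hthree y hy.1 hy.2 z u x hz hu hx with h1 | h1 | h1
        · exact absurd h1 hzu
        · exact Or.inl h1
        · exact Or.inr h1
    have hc := Finset.card_union_of_disjoint hdisj
    rw [hcov, Finset.card_compl, hΩ, heq] at hc
    rw [show ({o, z₀, y} : Finset Ω).card = 3 by
      rw [Finset.card_insert_of_notMem (by simp [hz0o.symm, hy.1.symm]), Finset.card_pair hy.2.symm]] at hc
    omega
  have hV1 : V (e 1) := ⟨heo 1, fun h => one_ne_zero (he h)⟩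
  obtain ⟨z₁, u₁, hz₁, hu₁, hzu₁⟩ := htwo (e 1) hV1.1 hV1.2
  set a := (O (e 1) z₁).card with ha
  have hex : ∀ y, V y → (∃ z, Rest o z₀ y z ∧ (O y z).card = a) ∧ (∃ z, Rest o z₀ y z ∧ (O y z).card ≠ a) := by
    intro y hy
    obtain ⟨t, ht, hty⟩ := htrans hV1 hy
    refine ⟨⟨t • z₁, hty ▸ hrest (Or.inl ht) hz₁, ?_⟩, ⟨t • u₁, hty ▸ hrest (Or.inl ht) hu₁, ?_⟩⟩
    · rw [← hty, hOcard (Or.inl ht)]
    · rw [← hty, hOcard (Or.inl ht)]
      exact (hdiff hV1 hz₁ hu₁ hzu₁).symm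
  let A : Ω → Ω → Prop := fun y z => V y ∧ Rest o z₀ y z ∧ (O y z).card = a
  have hclass : ∀ {y z u}, V y → Rest o z₀ y z → Rest o z₀ y u → (A y z ↔ A y u) → Orb X o z₀ y z u := by
    intro y z u hy hz hu hiff
    by_contra hzu
    have hne := hdiff hy hz hu hzu
    by_cases hAz : A y z
    · exact hne (hAz.2.2.trans (hiff.mp hAz).2.2.symm)
    · have hzc : (O y z).card ≠ a := fun h => hAz ⟨hy, hz, h⟩
      have huc : (O y u).card ≠ a := fun h => hAz (hiff.mpr ⟨hy, hu, h⟩)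
      obtain ⟨v, hv, hvc⟩ := (hex y hy).1
      have key : ∀ s, Rest o z₀ y s → Orb X o z₀ y s v → (O y s).card = a := by
        intro s hs hsv
        rw [← hvc]
        congr 1
        ext x
        rw [hO, hO]
        exact ⟨fun h => hsv.symm.trans h, fun h => hsv.trans h⟩
      rcases hthree y hy.1 hy.2 z u v hz hu hv with h1 | h1 | h1
      · exact hzu h1
      · exact hzc (key z hz h1)
      · exact huc (key u hu h1)
  have hVmap : ∀ {t y}, Sw t → V y → V (t • y) := by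
    rintro t y (⟨h1, h2⟩ | ⟨h1, h2⟩) ⟨b, c⟩
    · exact ⟨h1 ▸ (smul_left_cancel_iff t).not.mpr b, h2 ▸ (smul_left_cancel_iff t).not.mpr c⟩
    · exact ⟨h2 ▸ (smul_left_cancel_iff t).not.mpr c, h1 ▸ (smul_left_cancel_iff t).not.mpr b⟩
  have hAmap : ∀ {t}, Sw t → ∀ {y z}, A (t • y) (t • z) ↔ A y z := by
    have one : ∀ {t}, Sw t → ∀ {y z}, A y z → A (t • y) (t • z) := by
      rintro t ht y z ⟨hy, hz, hc⟩
      exact ⟨hVmap ht hy, hrest ht hz, by rw [hOcard ht, hc]⟩
    intro t ht y z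
    refine ⟨fun h => ?_, one ht⟩
    have := one (hswinv t ht) h
    rwa [inv_smul_smul, inv_smul_smul] at this
  have hV2 : ∀ {y z}, Rest o z₀ y z → V z := fun hz => ⟨hz.1, hz.2.1⟩
  have hflip : ∀ {y z}, V y → Rest o z₀ y z → (O y z).card = (O z y).card := by
    intro y z hy hz
    let M : Ω → Finset X := fun s => Finset.univ.filter fun g => g • o = o ∧ g • z₀ = z₀ ∧ g • s = s
    let N : Ω → Ω → Finset X := fun s s' => Finset.univ.filter fun g => g • o = o ∧ g • z₀ = z₀ ∧ g • s = s ∧ g • s' = s'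
    have hMN : ∀ s s', (M s).card = (O s s').card * (N s s').card := by
      intro s s'
      rw [Finset.card_eq_sum_card_fiberwise (f := fun g : X => g • s') (t := O s s') (fun g hg => by
        simp only [M, Finset.coe_filter, Finset.mem_univ, true_and, Set.mem_setOf_eq] at hg
        exact Finset.mem_coe.mpr (hO.mpr ⟨g, hg.1, hg.2.1, hg.2.2, rfl⟩))]
      rw [Finset.sum_const_nat fun u hu => ?_]
      obtain ⟨t, t1, t2, t3, t4⟩ := hO.mp hu
      refine Finset.card_bij (fun g _ => t⁻¹ * g) (fun g hg => ?_) (fun a _ b _ hab => mul_left_cancel hab)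
        (fun g hg => ⟨t * g, ?_, inv_mul_cancel_left t g⟩)
      · simp only [M, N, Finset.mem_filter, Finset.mem_univ, true_and, mul_smul, inv_smul_eq_iff] at hg ⊢
        obtain ⟨⟨g1, g2, g3⟩, g4⟩ := hg
        exact ⟨g1.trans t1.symm, g2.trans t2.symm, g3.trans t3.symm, g4.trans t4.symm⟩
      · simp only [M, N, Finset.mem_filter, Finset.mem_univ, true_and, mul_smul] at hg ⊢
        obtain ⟨g1, g2, g3, g4⟩ := hg
        exact ⟨⟨by rw [g1, t1], by rw [g2, t2], by rw [g3, t3]⟩, by rw [g4, t4]⟩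
    obtain ⟨t, ⟨t1, t2⟩, t3⟩ := htrans hy (hV2 hz)
    have hMM : (M y).card = (M z).card := by
      refine Finset.card_bij (fun g _ => t * g * t⁻¹) (fun g hg => ?_) (fun a _ b _ hab => by simpa using hab)
        (fun g hg => ⟨t⁻¹ * g * t, ?_, by group⟩)
      · simp only [M, Finset.mem_filter, Finset.mem_univ, true_and, mul_smul] at hg ⊢
        rw [inv_smul_eq_iff.mpr t1.symm, inv_smul_eq_iff.mpr t2.symm, inv_smul_eq_iff.mpr t3.symm, hg.1, hg.2.1,
          hg.2.2, t1, t2, t3]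
        exact ⟨rfl, rfl, rfl⟩
      · simp only [M, Finset.mem_filter, Finset.mem_univ, true_and, mul_smul] at hg ⊢
        rw [t1, t2, t3, hg.1, hg.2.1, hg.2.2, inv_smul_eq_iff.mpr t1.symm, inv_smul_eq_iff.mpr t2.symm,
          inv_smul_eq_iff.mpr t3.symm]
        exact ⟨rfl, rfl, rfl⟩
    have hNN : N y z = N z y := by
      ext g; simp only [N, Finset.mem_filter, and_congr_right_iff]; exact fun _ _ _ => And.comm
    rw [hMN y z, hMN z y, hNN] at hMM
    exact Nat.eq_of_mul_eq_mul_right (Finset.card_pos.mpr ⟨1, by simp [N]⟩) hMM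
  have hAs : ∀ {y z}, A y z → A z y := by
    rintro y z ⟨hy, hz, hc⟩
    exact ⟨hV2 hz, ⟨hy.1, hy.2, fun h => hz.2.2 h.symm⟩, (hflip hy hz).symm.trans hc⟩
  -- the two witnesses
  have witness : ∀ E : Ω → Ω → Prop, (∀ y z, E y z → V y ∧ Rest o z₀ y z) → (∀ y z, E y z → E z y) →
      (∀ t : X, t • o = o ∧ t • z₀ = z₀ → ∀ y z, E y z → E (t • y) (t • z)) →
      (∃ z, E (e 1) z) → (∃ z, Rest o z₀ (e 1) z ∧ ¬ E (e 1) z) →
      ∃ u v x, E v u ∧ E v x ∧ u ≠ x ∧ ¬ E u x := by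
    intro E hEV hEs hEt ⟨β', hβ'⟩ ⟨γ, hγ, hγ'⟩
    by_contra hno
    push Not at hno
    let Q : Ω → Ω → Prop := fun y z => z = y ∨ E y z
    have hQs : ∀ {y z}, Q y z → Q z y := by
      rintro y z (rfl | h)
      · exact Or.inl rfl
      · exact Or.inr (hEs _ _ h)
    have hQt : ∀ {y z u}, Q y z → Q z u → Q y u := by
      rintro y z u (rfl | h1) (rfl | h2)
      · exact Or.inl rfl
      · exact Or.inr h2
      · exact Or.inr h1
      · by_cases hyu : u = y
        · exact Or.inl hyu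
        · exact Or.inr (hno y z u (hEs _ _ h1) h2 (Ne.symm hyu))
    refine hblock {v | Q (e 1) v} (e 1) β' γ (Or.inl rfl) (Or.inr hβ') (hEV _ _ hβ').2.2.2
      (fun hQ => hQ.elim hγ.2.2 hγ') hγ.1 hγ.2.1 ?_ ?_
    · rintro v (rfl | hv)
      · exact hV1
      · exact hV2 (hEV _ _ hv).2
    · intro g g1 g2 u hu hgu v hv
      refine hQt hgu ?_
      rcases (hQt (hQs hu) hv) with rfl | hE
      · exact Or.inl rfl
      · exact Or.inr (hEt g ⟨g1, g2⟩ _ _ hE)
  obtain ⟨u, v, x, hvu, hvx, hux, hnux⟩ := witness A (fun y z h => ⟨h.1, h.2.1⟩) (fun y z => hAs)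
    (fun t ht y z => (hAmap (Or.inl ht)).mpr) ⟨z₁, hV1, hz₁, rfl⟩
    (by obtain ⟨z, hz, hc⟩ := (hex _ hV1).2; exact ⟨z, hz, fun h => hc h.2.2⟩)
  obtain ⟨u', v', x', hvu', hvx', hux', hnux'⟩ := witness (fun y z => V y ∧ Rest o z₀ y z ∧ ¬ A y z)
    (fun y z h => ⟨h.1, h.2.1⟩)
    (fun y z h => ⟨hV2 h.2.1, ⟨h.1.1, h.1.2, fun e' => h.2.1.2.2 e'.symm⟩, fun h' => h.2.2 (hAs h')⟩)
    (fun t ht y z h => ⟨hVmap (Or.inl ht) h.1, hrest (Or.inl ht) h.2.1, fun h' => h.2.2 ((hAmap (Or.inl ht)).mp h')⟩)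
    (by obtain ⟨z, hz, hc⟩ := (hex _ hV1).2; exact ⟨z, hV1, hz, fun h => hc h.2.2⟩)
    ⟨z₁, hz₁, fun h => h.2.2 ⟨hV1, hz₁, rfl⟩⟩
  -- coordinates
  have hhq : ∀ n : ℕ, ∀ j, h ^ n • e j = e ((k : ZMod p) ^ n * j) := by
    intro n
    induction n with
    | zero => intro j; simp
    | succ n ih => intro j; rw [pow_succ, mul_smul, hh, ih, pow_succ, mul_assoc]
  have hho' : ∀ n : ℕ, h ^ n • o = o := by
    intro n
    induction n with
    | zero => simp
    | succ n ih => rw [pow_succ, mul_smul, hho, ih]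
  have hhz : ∀ n : ℕ, h ^ n • z₀ = z₀ := fun n => by rw [hz₀, hhq, mul_zero]
  have hhSw : ∀ n : ℕ, Sw (h ^ n) := fun n => Or.inl ⟨hho' n, hhz n⟩
  have hwSw : Sw w := Or.inr ⟨hwo, hw0⟩
  have hq0 : h ^ q = 1 := by
    refine eq_of_smul_eq_smul (α := Ω) fun x => ?_
    rw [one_smul]
    rcases eq_or_ne x o with rfl | hx
    · exact hho' q
    obtain ⟨j, rfl⟩ := hr x hx
    rw [hhq, ← Units.val_pow_eq_pow_val, ← hk, pow_orderOf_eq_one, Units.val_one, one_mul]
  let sh : ZMod q → X := fun z => h ^ z.val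
  have hsh : ∀ z x, sh (z + x) = sh z * sh x := by
    intro z x
    show h ^ (z + x).val = h ^ z.val * h ^ x.val
    rw [← pow_add, ZMod.val_add, ← pow_eq_pow_mod _ hq0]
  have hsh0 : sh 0 = 1 := by simp [sh]
  have hfree : ∀ {z x : ZMod q} {y}, V y → sh z • y = sh x • y → z = x := by
    intro z x y hy hzx
    obtain ⟨j, rfl⟩ := hr y hy.1
    have hj : j ≠ 0 := fun h => hy.2 (by rw [h])
    simp only [sh, hhq, he.eq_iff] at hzx
    have h1 : k ^ z.val = k ^ x.val := Units.ext (by simpa using mul_right_cancel₀ hj hzx)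
    rw [pow_eq_pow_iff_modEq, hk] at h1
    rw [← ZMod.natCast_zmod_val z, ← ZMod.natCast_zmod_val x, ZMod.natCast_eq_natCast_iff]
    exact h1
  have hshw : ∀ z, w * sh z = sh (-z) * w := by
    intro z
    have hwi : w⁻¹ = w := inv_eq_of_mul_eq_one_right hw2
    have h1 : w * sh z * w = (h⁻¹) ^ z.val := by
      have := conj_pow (a := w) (b := h) (i := z.val)
      rw [hwi, hwh] at this
      exact this.symm
    have h2 : sh (-z) * sh z = 1 := by rw [← hsh, neg_add_cancel, hsh0]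
    rw [eq_inv_of_mul_eq_one_left h2]
    show w * sh z = (h ^ z.val)⁻¹ * w
    rw [← inv_pow, ← h1, mul_assoc, hw2, mul_one]
  set y₀ := e 1 with hy₀
  have hout : ∀ c : ZMod q, w • y₀ ≠ sh c • y₀ := by
    intro c hc
    set t := sh (-c) * w with ht
    have hty : t • y₀ = y₀ := by rw [ht, mul_smul, hc, ← mul_smul, ← hsh, neg_add_cancel, hsh0, one_smul]
    have htt : t * t = 1 := by
      rw [ht, mul_assoc, ← mul_assoc w, hshw, neg_neg, mul_assoc, hw2, mul_one, ← hsh, neg_add_cancel, hsh0]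
    have hto : t • o = z₀ := by rw [ht, mul_smul, hwo]; exact hhz _
    have htz : t • z₀ = o := by rw [ht, mul_smul, hw0]; exact hho' _
    have hflipx : ∀ x : ZMod q, ∀ y : Ω, t • y = y → t • sh x • y = sh (-x) • y := by
      intro x y hy
      rw [smul_smul, show t * sh x = sh (-x) * t by
        rw [ht, mul_assoc, hshw, ← mul_assoc, ← mul_assoc, ← hsh, ← hsh, add_comm], mul_smul, hy]
    have hsingle : ∀ x : ZMod q, ∀ y : Ω, V y → t • y = y → t • sh x • y = sh x • y → x = 0 := by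
      intro x y hy h1 h2
      rw [hflipx x y h1] at h2
      have h3 := hfree hy h2
      by_contra hx
      have h4 : ((2 : ℕ) : ZMod q) * x = 0 := by push_cast; linear_combination -h3
      have hu : IsUnit ((2 : ℕ) : ZMod q) := (ZMod.isUnit_iff_coprime 2 q).mpr
        (Nat.coprime_two_left.mpr hqodd)
      exact hx (hu.mul_right_eq_zero.mp h4)
    set Fx := Finset.univ.filter fun y : Ω => t • y = y with hFx
    have hFV : ∀ y ∈ Fx, V y := by
      intro y hy
      rw [hFx, Finset.mem_filter] at hy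
      refine ⟨?_, ?_⟩ <;> rintro rfl
      · exact hz0o (hto.symm.trans hy.2)
      · exact hz0o (hy.2.symm.trans htz)
    have hcard2 : Fx.card ≤ 2 := by
      by_contra h3
      obtain ⟨y₁, hy₁, y₂, hy₂, y₃, hy₃, h12, h13, h23⟩ := Finset.two_lt_card.mp (by omega : 2 < Fx.card)
      -- two of three fixed points lie in one orbit of `h`
      have hrep : ∀ y, V y → (∃ x, sh x • y₁ = y) ∨ (∃ x, sh x • y₂ = y) := by
        intro y hy
        by_contra hno
        push Not at hno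
        let f : ZMod q × Fin 3 → Ω := fun zi => sh zi.1 • ![y₁, y₂, y] zi.2
        have hd : ∀ a b : Ω, V b → ∀ x x', sh x • a = sh x' • b → sh (-x' + x) • a = b := fun a b _ x x' hxx => by
          rw [hsh, mul_smul, hxx, ← mul_smul, ← hsh, neg_add_cancel, hsh0, one_smul]
        have h12' : ∀ x, sh x • y₁ ≠ y₂ := by
          intro x hx
          have := hsingle x y₁ (hFV _ hy₁) (Finset.mem_filter.mp hy₁).2 (by
            rw [hx]; exact (Finset.mem_filter.mp hy₂).2)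
          rw [this, hsh0, one_smul] at hx
          exact h12 hx
        have hinj : Function.Injective f := by
          rintro ⟨x, i⟩ ⟨x', i'⟩ hf
          simp only [f] at hf
          fin_cases i <;> fin_cases i' <;>
            simp only [Matrix.cons_val_zero, Matrix.cons_val_one, Matrix.cons_val] at hf
          · rw [hfree (hFV _ hy₁) hf]
          · exact absurd (hd _ _ (hFV _ hy₂) _ _ hf) (h12' _)
          · exact absurd (hd _ _ hy _ _ hf) (hno.1 _)
          · exact absurd (hd _ _ (hFV _ hy₂) _ _ hf.symm) (h12' _)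
          · rw [hfree (hFV _ hy₂) hf]
          · exact absurd (hd _ _ hy _ _ hf) (hno.2 _)
          · exact absurd (hd _ _ hy _ _ hf.symm) (hno.1 _)
          · exact absurd (hd _ _ hy _ _ hf.symm) (hno.2 _)
          · rw [hfree hy hf]
        have := Fintype.card_le_of_injective f hinj
        simp only [Fintype.card_prod, ZMod.card, Fintype.card_fin, hΩ] at this
        have := Nat.odd_iff.mp hqodd; omega
      rcases hrep y₃ (hFV _ hy₃) with ⟨x, hx⟩ | ⟨x, hx⟩
      · have := hsingle x y₁ (hFV _ hy₁) (Finset.mem_filter.mp hy₁).2 (by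
          rw [hx]; exact (Finset.mem_filter.mp hy₃).2)
        rw [this, hsh0, one_smul] at hx
        exact h13 hx
      · have := hsingle x y₂ (hFV _ hy₂) (Finset.mem_filter.mp hy₂).2 (by
          rw [hx]; exact (Finset.mem_filter.mp hy₃).2)
        rw [this, hsh0, one_smul] at hx
        exact h23 hx
    have hcard1 : 1 ≤ Fx.card := Finset.card_pos.mpr ⟨y₀, Finset.mem_filter.mpr ⟨Finset.mem_univ _, hty⟩⟩
    obtain ⟨n, hn, hsign⟩ := sign_of_sq_eq_one (π := (MulAction.toPermHom X Ω t))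
      (by rw [← map_mul, htt, map_one])
    have hsupp : (MulAction.toPermHom X Ω t).support = Fxᶜ := by
      ext y; simp [hFx, Equiv.Perm.mem_support]
    rw [hsupp, Finset.card_compl, hΩ] at hn
    have := heven t
    rw [show (MulAction.toPerm t : Equiv.Perm Ω) = MulAction.toPermHom X Ω t from rfl, hsign] at this
    have hne : n = q := by omega
    rw [hne, hqodd.neg_one_pow] at this
    exact absurd this (by decide)
  set φ : ZMod q × Bool → Ω := fun zi => sh zi.1 • (if zi.2 then w • y₀ else y₀) with hφ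
  have hy1V : V (w • y₀) := hVmap hwSw hV1
  have hφinj : Function.Injective φ := by
    rintro ⟨z, i⟩ ⟨x, j⟩ hzx
    cases i <;> cases j <;> simp only [hφ, if_true, if_false, Bool.false_eq_true] at hzx
    · rw [hfree hV1 hzx]
    · refine absurd ?_ (hout (-x + z))
      rw [hsh, mul_smul, hzx, ← mul_smul, ← hsh, neg_add_cancel, hsh0, one_smul]
    · refine absurd ?_ (hout (-z + x))
      rw [hsh, mul_smul, ← hzx, ← mul_smul, ← hsh, neg_add_cancel, hsh0, one_smul]
    · rw [hfree hy1V hzx]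
  have hφV : ∀ zi, V (φ zi) := by
    rintro ⟨z, i⟩
    refine hVmap (hhSw _) ?_
    cases i
    · exact hV1
    · exact hy1V
  have hφsurj : ∀ y, V y → ∃ zi, φ zi = y := by
    intro y hy
    have hsub : Finset.univ.image φ ⊆ ({o, z₀} : Finset Ω)ᶜ := by
      intro s hs
      obtain ⟨zi, -, rfl⟩ := Finset.mem_image.mp hs
      simpa using hφV zi
    have := Finset.eq_of_subset_of_card_le hsub (le_of_eq (by
      rw [Finset.card_image_of_injective _ hφinj, Finset.card_compl, Finset.card_pair hz0o.symm, hΩ]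
      simp
      omega))
    have hy' : y ∈ Finset.univ.image φ := by rw [this]; simpa using hy
    obtain ⟨zi, -, hzi⟩ := Finset.mem_image.mp hy'
    exact ⟨zi, hzi⟩
  have hcount : ∀ P : Ω → Prop, ∀ [DecidablePred P], (∀ y, P y → V y) →
      (Finset.univ.filter fun zi => P (φ zi)).card = (Finset.univ.filter P).card := by
    intro P _ hP
    refine Finset.card_bij (fun zi _ => φ zi) (fun zi hzi => by simpa using hzi) (fun a _ b _ hab => hφinj hab) ?_
    intro y hy
    rw [Finset.mem_filter] at hy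
    obtain ⟨zi, rfl⟩ := hφsurj y (hP y hy.2)
    exact ⟨zi, by simpa using hy.2, rfl⟩
  have hnbr : ∀ y, V y → (Finset.univ.filter fun z => A y z).card = a := by
    intro y hy
    obtain ⟨z, hz, hc⟩ := (hex y hy).1
    refine Eq.trans ?_ hc
    congr 1
    ext x
    simp only [Finset.mem_filter, Finset.mem_univ, true_and, hO]
    constructor
    · intro hx
      exact hclass hy hz hx.2.1 (iff_of_true ⟨hy, hz, hc⟩ hx)
    · rintro ⟨g, g1, g2, g3, rfl⟩
      have := (hAmap (Or.inl ⟨g1, g2⟩)).mpr (show A y z from ⟨hy, hz, hc⟩)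
      rwa [g3] at this
  have hconst : ∀ {y z y' z'}, V y → Rest o z₀ y z → V y' → Rest o z₀ y' z' → (A y z ↔ A y' z') →
      (Finset.univ.filter fun u => A y u ∧ A z u).card = (Finset.univ.filter fun u => A y' u ∧ A z' u).card := by
    intro y z y' z' hy hz hy' hz' hiff
    obtain ⟨t, ht, hty⟩ := htrans hy hy'
    have h1 : Rest o z₀ y' (t • z) := hty ▸ hrest (Or.inl ht) hz
    have h2 : A y' (t • z) ↔ A y' z' := by rw [← hiff, ← hty, hAmap (Or.inl ht)]
    obtain ⟨g, g1, g2, g3, g4⟩ := hclass hy' h1 hz' h2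
    have hs : Sw (g * t) := Or.inl ⟨by rw [mul_smul, ht.1, g1], by rw [mul_smul, ht.2, g2]⟩
    refine Finset.card_bij (fun u _ => (g * t) • u) (fun u hu => ?_) (fun a _ b _ hab => smul_left_cancel _ hab)
      (fun u hu => ⟨(g * t)⁻¹ • u, ?_, smul_inv_smul _ u⟩)
    · simp only [Finset.mem_filter, Finset.mem_univ, true_and] at hu ⊢
      have e1 : (g * t) • y = y' := by rw [mul_smul, hty, g3]
      have e2 : (g * t) • z = z' := by rw [mul_smul, g4]
      rw [← e1, ← e2]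
      exact ⟨(hAmap hs).mpr hu.1, (hAmap hs).mpr hu.2⟩
    · simp only [Finset.mem_filter, Finset.mem_univ, true_and] at hu ⊢
      rw [← hAmap hs, ← hAmap hs (y := z), smul_inv_smul, mul_smul, hty, g3, mul_smul, g4]
      exact hu
  let A' : ZMod q × Bool → ZMod q × Bool → Prop := fun s s' => A (φ s) (φ s')
  have hne : ∀ {s s'}, s ≠ s' → Rest o z₀ (φ s) (φ s') := fun {s s'} hss =>
    ⟨(hφV s').1, (hφV s').2, fun h => hss (hφinj h.symm)⟩
  have hshift : ∀ z i x j, A' (z, i) (z + x, j) ↔ A' (0, i) (x, j) := by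
    intro z i x j
    simp only [A', hφ, hsh, hsh0, one_smul, mul_smul]
    exact hAmap (hhSw _)
  obtain ⟨u0, hu0, hu0c⟩ := (hex y₀ hV1).2
  refine Dihedrant.srg_false hqodd hq1 A' (fun s s' => hAs) (fun s hs => hs.2.1.2.2 rfl) hshift ?_
    (k := a) (lam := (Finset.univ.filter fun z => A (e 1) z ∧ A z₁ z).card)
    (μ := (Finset.univ.filter fun z => A (e 1) z ∧ A u0 z).card) ?_ ?_ ?_ ?_ ?_
  · intro x
    have h1 : sh x • w • y₀ = w • sh (-x) • y₀ := by
      rw [smul_smul, smul_smul, hshw, neg_neg]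
    simp only [A', hφ, hsh0, one_smul, if_true, if_false, Bool.false_eq_true, h1, hAmap hwSw]
    constructor
    · intro hA
      have := hAs ((hAmap (hhSw x.val)).mpr hA)
      rwa [show h ^ x.val = sh x from rfl, smul_smul, ← hsh, add_neg_cancel, hsh0, one_smul] at this
    · intro hA
      have := hAs ((hAmap (hhSw (-x).val)).mpr hA)
      rwa [show h ^ (-x).val = sh (-x) from rfl, smul_smul, ← hsh, neg_add_cancel, hsh0, one_smul] at this
  · intro s
    rw [show (Finset.univ.filter fun v => A' s v) = Finset.univ.filter fun v => A (φ s) (φ v) from rfl,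
      hcount (fun y => A (φ s) y) (fun y hy => hV2 hy.2.1), hnbr _ (hφV s)]
  · intro s s' hss
    rw [show (Finset.univ.filter fun z => A' s z ∧ A' s' z) = Finset.univ.filter fun v => A (φ s) (φ v) ∧ A (φ s') (φ v) from rfl,
      hcount (fun y => A (φ s) y ∧ A (φ s') y) (fun y hy => hV2 hy.1.2.1)]
    exact hconst (hφV s) hss.2.1 hV1 hz₁ (iff_of_true hss ⟨hV1, hz₁, rfl⟩)
  · intro s s' hss hns
    rw [show (Finset.univ.filter fun z => A' s z ∧ A' s' z) = Finset.univ.filter fun v => A (φ s) (φ v) ∧ A (φ s') (φ v) from rfl,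
      hcount (fun y => A (φ s) y ∧ A (φ s') y) (fun y hy => hV2 hy.1.2.1)]
    exact hconst (hφV s) (hne hss) hV1 hu0 (iff_of_false hns fun h => hu0c h.2.2)
  · obtain ⟨su, rfl⟩ := hφsurj u (hV2 hvu.2.1)
    obtain ⟨sv, rfl⟩ := hφsurj v hvu.1
    obtain ⟨sx, rfl⟩ := hφsurj x (hV2 hvx.2.1)
    exact ⟨su, sv, sx, hvu, hvx, fun h => hux (h ▸ rfl), hnux⟩
  · obtain ⟨su, rfl⟩ := hφsurj u' (hV2 hvu'.2.1)
    obtain ⟨sv, rfl⟩ := hφsurj v' hvu'.1
    obtain ⟨sx, rfl⟩ := hφsurj x' (hV2 hvx'.2.1)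
    refine ⟨su, sv, sx, fun h => hvu'.2.1.2.2 (h ▸ rfl), hvu'.2.2, fun h => hvx'.2.1.2.2 (h ▸ rfl), hvx'.2.2, ?_⟩
    by_contra hA
    exact hnux' ⟨hφV su, hne (fun h => hux' (h ▸ rfl)), hA⟩

end Cfsg.Agent.Lib.Perm.PrimeHalf
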