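import Cfsg.Agent.Lib.Perm.PrimeHalf.Primitive
import Mathlib.GroupTheory.GroupAction.Jordan
import Mathlib.GroupTheory.SpecificGroups.Cyclic
import Mathlib.NumberTheory.Wilson
import Mathlib.Combinatorics.Enumerative.DoubleCounting

/-!
Prime degree `p = q + 2` with a half normalizer: five-fold transitivity.
-/

set_option autoImplicit false

open MulAction
open scoped commutatorElement

namespace Cfsg.Agent.Lib.Perm.PrimeHalf

section
variable {G : Type*} [Group G] {Ω : Type*} [MulAction G Ω]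

theorem three_transitive_of_mod_four [Finite G] [FaithfulSMul G Ω] [Fintype Ω] {p : ℕ}
    [hp : Fact p.Prime] (hΩ : Fintype.card Ω = p) [IsPretransitive G Ω]
    (hins : ¬ Group.IsSolvable G) (P : Sylow p G)
    (hN : 2 * Nat.card ↥(Subgroup.normalizer ((P : Subgroup G) : Set G)) = p * (p - 1))
    (hp4 : p % 4 = 1) : IsMultiplyPretransitive G Ω 3 := by
  classical
  set φ := MulAction.toPermHom G Ω with hφ
  have hinj : Function.Injective φ := MulAction.toPerm_injective
  haveI : IsPretransitive φ.range Ω := ⟨fun x y => by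
    obtain ⟨g, hg⟩ := MulAction.exists_smul_eq G x y
    exact ⟨⟨φ g, g, rfl⟩, hg⟩⟩
  let e : G ≃* φ.range := MonoidHom.ofInjective hinj
  have hins' : ¬ Group.IsSolvable φ.range := fun h => by
    haveI := h
    exact hins (Group.isSolvable_of_isSolvable_injective (f := e.toMonoidHom) e.injective)
  let P' : Sylow p φ.range := P.mapSurjective (f := e.toMonoidHom) e.surjective
  have hP' : Subgroup.normalizer ((P' : Subgroup φ.range) : Set φ.range) =
      (Subgroup.normalizer ((P : Subgroup G) : Set G)).map e.toMonoidHom :=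
    (Subgroup.map_equiv_normalizer_eq (P : Subgroup G) e).symm
  have heven : Even (Nat.card ↥(Subgroup.normalizer ((P' : Subgroup φ.range) : Set φ.range))) := by
    rw [show Nat.card ↥(Subgroup.normalizer ((P' : Subgroup φ.range) : Set φ.range)) =
      Nat.card ↥(Subgroup.normalizer ((P : Subgroup G) : Set G)) by
        rw [hP']; exact Subgroup.card_map_of_injective e.injective, even_iff_two_dvd]
    have h4 : 4 ∣ p * (p - 1) := (show 4 ∣ p - 1 by omega).mul_left p
    omega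
  have h3 := Lib.Perm.three_transitive_of_even_normalizer hΩ φ.range hins' P' heven
  refine ⟨fun x y => ?_⟩
  obtain ⟨⟨_, g, rfl⟩, hg⟩ := h3.exists_smul_eq x y
  exact ⟨g, hg⟩

theorem exists_triple (h : IsMultiplyPretransitive G Ω 3) {a b c a' b' c' : Ω} (hab : a ≠ b)
    (hac : a ≠ c) (hbc : b ≠ c) (hab' : a' ≠ b') (hac' : a' ≠ c') (hbc' : b' ≠ c') :
    ∃ g : G, g • a = a' ∧ g • b = b' ∧ g • c = c' := by
  let x : Fin 3 ↪ Ω := ⟨![a, b, c], fun i j hij => by
    fin_cases i <;> fin_cases j <;> simp_all [eq_comm]⟩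
  let y : Fin 3 ↪ Ω := ⟨![a', b', c'], fun i j hij => by
    fin_cases i <;> fin_cases j <;> simp_all [eq_comm]⟩
  obtain ⟨g, hg⟩ := h.exists_smul_eq x y
  exact ⟨g, DFunLike.congr_fun hg 0, DFunLike.congr_fun hg 1, DFunLike.congr_fun hg 2⟩

/-- A solvable transitive group of prime degree is metacyclic. -/
theorem card_of_solvable [Finite G] [FaithfulSMul G Ω] [Fintype Ω] {q : ℕ} [hq : Fact q.Prime]
    (hΩ : Fintype.card Ω = q) [IsPretransitive G Ω] (hs : Group.IsSolvable G) :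
    ∃ d, Nat.card G = q * d ∧ d ∣ q - 1 := by
  classical
  have hc : Nat.card Ω = q := by rw [Nat.card_eq_fintype_card, hΩ]
  obtain ⟨n, hn, hn'⟩ : ∃ n, derivedSeries G n ≠ ⊥ ∧ derivedSeries G (n + 1) = ⊥ := by
    obtain ⟨m, hm⟩ := (isSolvable_def G).mp hs
    induction m with
    | zero =>
      exfalso
      rw [derivedSeries_zero] at hm
      obtain ⟨a, b, hab⟩ := Fintype.exists_pair_of_one_lt_card (hΩ ▸ hq.out.one_lt)
      obtain ⟨g, hg⟩ := exists_smul_eq G a b
      have : g = 1 := Subgroup.mem_bot.mp (hm ▸ Subgroup.mem_top g)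
      rw [this, one_smul] at hg
      exact hab hg
    | succ m ih =>
      by_cases h : derivedSeries G m = ⊥
      · exact ih h
      · exact ⟨m, h, hm⟩
  set N := derivedSeries G n with hN
  haveI : N.Normal := derivedSeries_normal G n
  have hNab : ∀ a ∈ N, ∀ b ∈ N, a * b = b * a := fun a ha b hb => by
    have h : ⁅a, b⁆ ∈ derivedSeries G (n + 1) := by
      rw [derivedSeries_succ]; exact Subgroup.commutator_mem_commutator ha hb
    rw [hn', Subgroup.mem_bot] at h
    exact commutatorElement_eq_one_iff_mul_comm.mp h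
  haveI : IsPreprimitive G Ω := IsPreprimitive.of_prime_card (hc ▸ hq.out)
  haveI : IsPretransitive N Ω := IsQuasiPreprimitive.isPretransitive_of_normal fun h => hn (by
    rw [Subgroup.eq_bot_iff_forall]
    intro g hg
    refine eq_of_smul_eq_smul (α := Ω) fun x => ?_
    have hx : x ∈ fixedPoints N Ω := by rw [h]; trivial
    rw [one_smul]
    exact hx ⟨g, hg⟩)
  obtain ⟨c⟩ : Nonempty Ω := Fintype.card_pos_iff.mp (hΩ ▸ hq.out.pos)
  have hfree : ∀ g : G, (∀ a ∈ N, g * a = a * g) → g • c = c → g = 1 := by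
    intro g hg hgc
    refine eq_of_smul_eq_smul (α := Ω) fun x => ?_
    obtain ⟨⟨a, ha⟩, rfl⟩ := exists_smul_eq N c x
    rw [one_smul]
    show g • a • c = a • c
    rw [smul_smul, hg a ha, mul_smul, hgc]
  have hcardN : Nat.card N = q := by
    rw [← Subgroup.card_mul_index (stabilizer N c), index_stabilizer_of_transitive, hc]
    have : stabilizer N c = ⊥ := by
      rw [Subgroup.eq_bot_iff_forall]
      rintro ⟨a, ha⟩ hac
      exact Subtype.ext (hfree a (fun b hb => hNab a ha b hb) hac)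
    rw [this, Subgroup.card_bot, one_mul]
  haveI : IsCyclic N := isCyclic_of_prime_card hcardN
  refine ⟨Nat.card (stabilizer G c), ?_, ?_⟩
  · rw [← Subgroup.card_mul_index (stabilizer G c), index_stabilizer_of_transitive, hc, mul_comm]
  · let f : stabilizer G c →* MulAut N := (MulAut.conjNormal).comp (stabilizer G c).subtype
    have hf : Function.Injective f := by
      rw [← MonoidHom.ker_eq_bot_iff, Subgroup.eq_bot_iff_forall]
      rintro ⟨g, hg⟩ hgk
      refine Subtype.ext (hfree g (fun a ha => ?_) hg)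
      have := congrArg Subtype.val (DFunLike.congr_fun (MonoidHom.mem_ker.mp hgk) ⟨a, ha⟩)
      simp [f] at this
      exact eq_mul_inv_iff_mul_eq.mp this.symm |>.symm
    have h := Subgroup.card_dvd_of_injective f hf
    rwa [Nat.card_congr (IsCyclic.mulAutMulEquiv N).toEquiv, hcardN,
      Nat.card_eq_fintype_card (α := (ZMod q)ˣ),
      ZMod.card_units_eq_totient, Nat.totient_prime hq.out] at h

/-- With four orbits of a two-point stabilizer, their sizes are not coprime. -/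
theorem three_transitive_of_twin [Finite G] [FaithfulSMul G Ω] [Fintype Ω] {p q : ℕ}
    [hp : Fact p.Prime] (hΩ : Fintype.card Ω = p) [IsPretransitive G Ω]
    (hins : ¬ Group.IsSolvable G) (P : Sylow p G)
    (hN : 2 * Nat.card ↥(Subgroup.normalizer ((P : Subgroup G) : Set G)) = p * (p - 1))
    (hq : q.Prime) (hpq : p = q + 2) (hp7 : 7 < p) : IsMultiplyPretransitive G Ω 3 := by
  classical
  by_cases hp4 : p % 4 = 1
  · exact three_transitive_of_mod_four hΩ hins P hN hp4
  replace hp4 : p % 4 = 3 := by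
    obtain ⟨k, hk⟩ := hp.out.odd_of_ne_two (by omega)
    omega
  obtain ⟨C⟩ := exists_coords hΩ P hN
  refine (three_transitive_or hΩ hins (by omega) C).resolve_right fun h4 => ?_
  obtain ⟨α, β, hab⟩ := Fintype.exists_pair_of_one_lt_card (hΩ ▸ hp.out.one_lt)
  set H := stabilizer G α ⊓ stabilizer G β with hH
  set R := Finset.univ.filter (fun z : Ω => z ≠ α ∧ z ≠ β) with hR
  have hRc : R.card = q := by
    have : R = ({α, β} : Finset Ω)ᶜ := by ext z; simp [hR]
    rw [this, Finset.card_compl, Finset.card_pair hab, hΩ]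
    omega
  obtain ⟨u, hu⟩ : R.Nonempty := Finset.card_pos.mp (hRc ▸ hq.pos)
  have hu' : u ≠ α ∧ u ≠ β := by simpa [hR] using hu
  have hfix : ∀ g ∈ H, g • α = α ∧ g • β = β := fun g hg => ⟨hg.1, hg.2⟩
  have hRst : ∀ g ∈ H, ∀ z ∈ R, g • z ∈ R := by
    intro g hg z hz
    simp only [hR, Finset.mem_filter, Finset.mem_univ, true_and] at hz ⊢
    exact ⟨fun e => hz.1 (smul_left_cancel g (e.trans (hfix g hg).1.symm)),
      fun e => hz.2 (smul_left_cancel g (e.trans (hfix g hg).2.symm))⟩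
  set A₁ := R.filter (fun z => ∃ g ∈ H, g • u = z) with hA₁
  have hA₁st : ∀ g ∈ H, ∀ z ∈ A₁, g • z ∈ A₁ := by
    intro g hg z hz
    obtain ⟨hzR, k, hk, rfl⟩ := Finset.mem_filter.mp hz
    exact Finset.mem_filter.mpr ⟨hRst g hg _ hzR, g * k, mul_mem hg hk, mul_smul _ _ _⟩
  obtain ⟨v, hv⟩ : ∃ v, v ∈ R ∧ v ∉ A₁ := by
    by_contra hall
    push Not at hall
    let f : Fin 3 → orbitRel.Quotient ↥H Ω := fun i => Quotient.mk'' (![α, β, u] i)
    have hf : Function.Surjective f := by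
      intro z
      induction z using Quotient.inductionOn' with
      | h z =>
        by_cases hz : z = α
        · exact ⟨0, by simp [f, hz]⟩
        by_cases hz' : z = β
        · exact ⟨1, by simp [f, hz']⟩
        obtain ⟨-, g, hg, rfl⟩ := Finset.mem_filter.mp (hall z (by simp [hR, hz, hz']))
        refine ⟨2, ?_⟩
        show (Quotient.mk'' u : orbitRel.Quotient ↥H Ω) = Quotient.mk'' (g • u)
        exact Quotient.sound' (show (orbitRel ↥H Ω) u (g • u) from ⟨⟨g⁻¹, inv_mem hg⟩, inv_smul_smul g u⟩)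
    have := Nat.card_le_card_of_surjective f hf
    rw [h4 α β hab, Nat.card_fin] at this
    omega
  have htrans : ∀ z, z ∈ R → z ∉ A₁ → ∀ z', z' ∈ R → z' ∉ A₁ → ∃ g ∈ H, g • z = z' := by
    intro z hz hz1 z' hz' hz1'
    obtain ⟨g, hg, h | h | h⟩ := two_orbits hab (h4 α β hab) hu'
      (show z ≠ α ∧ z ≠ β by simpa [hR] using hz) (show z' ≠ α ∧ z' ≠ β by simpa [hR] using hz')
    · exact absurd (Finset.mem_filter.mpr ⟨hz, g, hg, h⟩) hz1
    · exact absurd (Finset.mem_filter.mpr ⟨hz', g, hg, h⟩) hz1'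
    · exact ⟨g, hg, h⟩
  have hin : ∀ z ∈ A₁, ∀ z' ∈ A₁, ∃ g ∈ H, g • z = z' := by
    intro z hz z' hz'
    obtain ⟨-, g, hg, rfl⟩ := Finset.mem_filter.mp hz
    obtain ⟨-, k, hk, rfl⟩ := Finset.mem_filter.mp hz'
    exact ⟨k * g⁻¹, mul_mem hk (inv_mem hg), by rw [mul_smul, inv_smul_smul]⟩
  have hA₁R : A₁ ⊆ R := Finset.filter_subset _ _
  -- the smaller orbit
  obtain ⟨A, A', hAne, hA'ne, hdisj, hun, hlt, hAst, hA't, hAt⟩ :
      ∃ A A' : Finset Ω, A.Nonempty ∧ A'.Nonempty ∧ Disjoint A A' ∧ A ∪ A' = R ∧ A.card < A'.card ∧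
        (∀ g ∈ H, ∀ z ∈ A, g • z ∈ A) ∧ (∀ z ∈ A', ∀ z' ∈ A', ∃ g ∈ H, g • z = z') ∧
        (∀ z ∈ A, ∀ z' ∈ A, ∃ g ∈ H, g • z = z') := by
    have hu1 : u ∈ A₁ := Finset.mem_filter.mpr ⟨hu, 1, one_mem _, one_smul _ _⟩
    have hv2 : v ∈ R \ A₁ := Finset.mem_sdiff.mpr hv
    have hsum : A₁.card + (R \ A₁).card = q := by
      rw [add_comm, Finset.card_sdiff_add_card_eq_card hA₁R, hRc]
    have hout : ∀ z ∈ R \ A₁, ∀ z' ∈ R \ A₁, ∃ g ∈ H, g • z = z' := fun z hz z' hz' => by
      rw [Finset.mem_sdiff] at hz hz'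
      exact htrans z hz.1 hz.2 z' hz'.1 hz'.2
    rcases lt_trichotomy A₁.card (R \ A₁).card with h | h | h
    · exact ⟨A₁, R \ A₁, ⟨u, hu1⟩, ⟨v, hv2⟩, Finset.disjoint_sdiff,
        Finset.union_sdiff_of_subset hA₁R, h, hA₁st, hout, hin⟩
    · exfalso
      obtain ⟨k, hk⟩ := hp.out.odd_of_ne_two (by omega)
      omega
    · refine ⟨R \ A₁, A₁, ⟨v, hv2⟩, ⟨u, hu1⟩, Finset.sdiff_disjoint,
        Finset.sdiff_union_of_subset hA₁R, h, fun g hg z hz => ?_, hin, hout⟩
      rw [Finset.mem_sdiff] at hz ⊢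
      refine ⟨hRst g hg z hz.1, fun e => hz.2 ?_⟩
      simpa using hA₁st g⁻¹ (inv_mem hg) _ e
  have hAR : ∀ z ∈ A, z ≠ α ∧ z ≠ β := fun z hz => by
    have : z ∈ R := hun ▸ Finset.mem_union_left _ hz
    simpa [hR] using this
  let N : Ω → Finset Ω := fun y => Finset.univ.filter fun z =>
    ∃ g : G, g • α = α ∧ g • β = y ∧ g⁻¹ • z ∈ A
  have hmem : ∀ {y z}, z ∈ N y ↔ ∃ g : G, g • α = α ∧ g • β = y ∧ g⁻¹ • z ∈ A := fun {y z} => by
    simp [N]
  have hequiv : ∀ (g : G) (y : Ω), g • α = α → ∀ z ∈ N y, g • z ∈ N (g • y) := by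
    intro g y hg z hz
    obtain ⟨k, k1, k2, k3⟩ := hmem.mp hz
    exact hmem.mpr ⟨g * k, by rw [mul_smul, k1, hg], by rw [mul_smul, k2],
      by rw [mul_inv_rev, mul_smul, inv_smul_smul]; exact k3⟩
  have hNβ : N β = A := by
    ext z
    rw [hmem]
    exact ⟨fun ⟨g, g1, g2, g3⟩ => by simpa using hAst g ⟨g1, g2⟩ _ g3,
      fun hz => ⟨1, one_smul _ _, one_smul _ _, by simpa using hz⟩⟩
  have hNy : ∀ g : G, g • α = α → N (g • β) = A.image (g • ·) := by
    intro g hg
    ext z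
    rw [Finset.mem_image]
    constructor
    · intro hz
      have := hequiv g⁻¹ _ (by rw [inv_smul_eq_iff, hg]) z hz
      rw [inv_smul_smul, hNβ] at this
      exact ⟨_, this, smul_inv_smul _ _⟩
    · rintro ⟨w, hw, rfl⟩
      exact hequiv g β hg w (hNβ.symm ▸ hw)
  have hgen : ∀ y, y ≠ α → ∃ g : G, g • α = α ∧ g • β = y := fun y hy =>
    exists_pair hΩ hins hab hy.symm
  have hNcard : ∀ y, y ≠ α → (N y).card = A.card ∧ ∀ z ∈ N y, z ≠ α ∧ z ≠ y := by
    intro y hy
    obtain ⟨g, g1, rfl⟩ := hgen y hy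
    refine ⟨by rw [hNy g g1, Finset.card_image_of_injective _ (MulAction.injective g)], ?_⟩
    intro z hz
    rw [hNy g g1, Finset.mem_image] at hz
    obtain ⟨w, hw, rfl⟩ := hz
    exact ⟨fun e => (hAR w hw).1 (smul_left_cancel g (e.trans g1.symm)),
      fun e => (hAR w hw).2 (smul_left_cancel g e)⟩
  -- no edge from `A` to `A'`
  have hzero : ∀ w ∈ A, ∀ z ∈ A', z ∉ N w := by
    obtain ⟨w₀, hw₀⟩ := hAne
    obtain ⟨z₀, hz₀⟩ := hA'ne
    set x := (A'.filter (fun z => z ∈ N w₀)).card with hx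
    have hxw : ∀ w ∈ A, (A'.filter (fun z => z ∈ N w)).card = x := by
      intro w hw
      obtain ⟨g, hg, rfl⟩ := hAt w₀ hw₀ w hw
      refine (Finset.card_bij' (fun z _ => g • z) (fun z _ => g⁻¹ • z) ?_ ?_ (by simp) (by simp)).symm
      all_goals intro z hz
      all_goals rw [Finset.mem_filter] at hz ⊢
      · refine ⟨?_, hequiv g w₀ hg.1 z hz.2⟩
        have h1 : g • z ∈ R := hRst g hg z (hun ▸ Finset.mem_union_right _ hz.1)
        rw [← hun, Finset.mem_union] at h1
        refine h1.resolve_left fun h => Finset.disjoint_left.mp hdisj ?_ hz.1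
        simpa using hAst g⁻¹ (inv_mem hg) _ h
      · refine ⟨?_, by simpa using hequiv g⁻¹ _ (inv_mem hg : g⁻¹ ∈ H).1 z hz.2⟩
        have h1 : g⁻¹ • z ∈ R := hRst g⁻¹ (inv_mem hg) z (hun ▸ Finset.mem_union_right _ hz.1)
        rw [← hun, Finset.mem_union] at h1
        refine h1.resolve_left fun h => Finset.disjoint_left.mp hdisj ?_ hz.1
        simpa using hAst g hg _ h
    set y := (A.filter (fun w => z₀ ∈ N w)).card with hy
    have hyz : ∀ z ∈ A', (A.filter (fun w => z ∈ N w)).card = y := by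
      intro z hz
      obtain ⟨g, hg, rfl⟩ := hA't z₀ hz₀ z hz
      refine (Finset.card_bij' (fun w _ => g • w) (fun w _ => g⁻¹ • w) ?_ ?_ (by simp) (by simp)).symm
      all_goals intro w hw
      all_goals rw [Finset.mem_filter] at hw ⊢
      · exact ⟨hAst g hg w hw.1, hequiv g w hg.1 z₀ hw.2⟩
      · exact ⟨hAst g⁻¹ (inv_mem hg) w hw.1,
          by simpa using hequiv g⁻¹ w (inv_mem hg : g⁻¹ ∈ H).1 _ hw.2⟩
    have hdc : A.card * x = A'.card * y := by
      exact Finset.card_mul_eq_card_mul (fun w z => z ∈ N w) hxw hyz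
    have hcop : A'.card.Coprime A.card := by
      have hs : A.card + A'.card = q := by rw [← Finset.card_union_of_disjoint hdisj, hun, hRc]
      have h0 : 0 < A.card := Finset.card_pos.mpr ⟨w₀, hw₀⟩
      have : Nat.Coprime q A.card := hq.coprime_iff_not_dvd.mpr fun hd => by
        have := Nat.le_of_dvd h0 hd; omega
      rw [← hs] at this
      simpa using this
    have hdx : A'.card ∣ x := hcop.dvd_of_dvd_mul_left ⟨y, hdc⟩
    have hxle : x ≤ A.card := by
      rw [← (hNcard w₀ (hAR w₀ hw₀).1).1, hx]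
      exact Finset.card_le_card fun z hz => (Finset.mem_filter.mp hz).2
    have hx0 : x = 0 := Nat.eq_zero_of_dvd_of_lt hdx (by omega)
    intro w hw z hz hzw
    have := hxw w hw
    rw [hx0, Finset.card_eq_zero] at this
    exact Finset.notMem_empty z (this ▸ Finset.mem_filter.mpr ⟨hz, hzw⟩)
  set B := insert β A with hB
  have hclique : ∀ z ∈ B, insert z (N z) = B := by
    intro z hz
    rcases Finset.mem_insert.mp hz with rfl | hzA
    · rw [hNβ]
    have hsub : N z ⊆ B.erase z := by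
      intro w hw
      obtain ⟨w1, w2⟩ := (hNcard z (hAR z hzA).1).2 w hw
      refine Finset.mem_erase.mpr ⟨w2, Finset.mem_insert.mpr ?_⟩
      by_cases hwb : w = β
      · exact Or.inl hwb
      refine Or.inr ((Finset.mem_union.mp (hun ▸ (show w ∈ R by simp [hR, w1, hwb]))).resolve_right
        fun h => hzero z hzA w h hw)
    have hc : (B.erase z).card = A.card := by
      rw [Finset.card_erase_of_mem hz, hB,
        Finset.card_insert_of_notMem (fun h => (hAR β h).2 rfl)]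
      omega
    rw [Finset.eq_of_subset_of_card_le hsub (by rw [hc, (hNcard z (hAR z hzA).1).1]),
      Finset.insert_erase hz]
  obtain ⟨a0, ha0⟩ := hAne
  obtain ⟨z0, hz0⟩ := hA'ne
  have hz0R : z0 ∈ R := hun ▸ Finset.mem_union_right _ hz0
  simp only [hR, Finset.mem_filter, Finset.mem_univ, true_and] at hz0R
  refine block_trivial hΩ hins C hp7 hp4 h4 (α := α) (β := β) (β' := a0) (γ := z0) (↑B : Set Ω)
    ?_ ?_ ?_ (hAR a0 ha0).2 hz0R.1 ?_ ?_
  · simp only [hB, Finset.mem_coe, Finset.mem_insert, not_or]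
    exact ⟨hab, fun h => (hAR α h).1 rfl⟩
  · simp [hB]
  · simp [hB, ha0]
  · simp only [hB, Finset.mem_coe, Finset.mem_insert, not_or]
    exact ⟨hz0R.2, fun h => Finset.disjoint_left.mp hdisj h hz0⟩
  · intro g hg w hw hgw z hz
    rw [Finset.mem_coe] at hw hgw hz ⊢
    rw [← hclique w hw, Finset.mem_insert] at hz
    rw [← hclique _ hgw]
    rcases hz with rfl | hz
    · exact Finset.mem_insert_self _ _
    · exact Finset.mem_insert_of_mem (hequiv g w hg z hz)

end

section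
variable {G : Type*} [Group G] [Finite G] {Ω : Type*} [MulAction G Ω] [FaithfulSMul G Ω]
  [Fintype Ω] {p : ℕ} [hp : Fact p.Prime]

theorem five_transitive_twin (hΩ : Fintype.card Ω = p) [IsPretransitive G Ω]
    (hins : ¬ Group.IsSolvable G) (P : Sylow p G)
    (hN : 2 * Nat.card ↥(Subgroup.normalizer ((P : Subgroup G) : Set G)) = p * (p - 1))
    {q : ℕ} [hq : Fact q.Prime] (hq5 : 5 < q) (hpq : p = q + 2) :
    IsMultiplyPretransitive G Ω 5 := by
  classical
  have h3 := three_transitive_of_twin hΩ hins P hN hq.out hpq (by omega)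
  obtain ⟨a, b, hab⟩ := Fintype.exists_pair_of_one_lt_card (hΩ ▸ hp.out.one_lt)
  set H := stabilizer G a ⊓ stabilizer G b with hH
  -- the order of `H`
  have hcard : Nat.card G = p * (p - 1) * Nat.card H := by
    have h1 : Nat.card G = p * Nat.card (stabilizer G a) := by
      rw [← Subgroup.card_mul_index (stabilizer G a), index_stabilizer_of_transitive,
        Nat.card_eq_fintype_card (α := Ω), hΩ, mul_comm]
    have h2 : Nat.card (orbit ↥(stabilizer G a) b) = p - 1 := by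
      have : orbit ↥(stabilizer G a) b = ({a} : Set Ω)ᶜ := by
        ext x
        constructor
        · rintro ⟨⟨g, hg⟩, rfl⟩ e
          exact hab (smul_left_cancel g ((show g • a = a from hg).trans (Set.mem_singleton_iff.mp e).symm))
        · intro hx
          obtain ⟨g, g1, g2⟩ := exists_pair hΩ hins hab (Ne.symm hx)
          exact ⟨⟨g, g1⟩, g2⟩
      rw [this, Nat.card_coe_set_eq, Set.ncard_compl, Set.ncard_singleton, Nat.card_eq_fintype_card, hΩ]
    have h4 : Nat.card (stabilizer G a) = (p - 1) * Nat.card H := by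
      rw [← Subgroup.card_mul_index (stabilizer ↥(stabilizer G a) b), index_stabilizer, ← h2, mul_comm,
        ← Nat.card_coe_set_eq]
      congr 1
      exact Nat.card_congr
        { toFun := fun g => ⟨(g.1 : G), Subgroup.mem_inf.mpr ⟨g.1.2, g.2⟩⟩
          invFun := fun g => ⟨⟨g.1, (Subgroup.mem_inf.mp g.2).1⟩, (Subgroup.mem_inf.mp g.2).2⟩
          left_inv := fun _ => rfl
          right_inv := fun _ => rfl }
    rw [h1, h4, mul_assoc]
  have hmod : (2 * (Nat.card H : ZMod p)) = 1 := by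
    have h1 : Nat.card (Sylow p G) * Nat.card ↥(Subgroup.normalizer ((P : Subgroup G) : Set G)) =
        Nat.card G := by
      rw [Sylow.card_eq_index_normalizer P]
      exact (Subgroup.normalizer ((P : Subgroup G) : Set G)).index_mul_card
    have h2 : Nat.card (Sylow p G) = 2 * Nat.card H := by
      rw [hcard] at h1
      apply Nat.eq_of_mul_eq_mul_left (show 0 < p * (p - 1) from Nat.mul_pos hp.out.pos (by omega))
      rw [← hN, show 2 * Nat.card ↥(Subgroup.normalizer ((P : Subgroup G) : Set G)) * Nat.card (Sylow p G) =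
        2 * (Nat.card (Sylow p G) * Nat.card ↥(Subgroup.normalizer ((P : Subgroup G) : Set G))) by ring,
        h1, ← hN]
      ring
    have h := (ZMod.natCast_eq_natCast_iff _ _ p).mpr (card_sylow_modEq_one p G)
    rw [h2] at h
    simpa using h
  -- the action on the remaining `q` points
  let Y := {z : Ω // z ≠ a ∧ z ≠ b}
  have hYc : Fintype.card Y = q := by
    rw [Fintype.card_subtype]
    have : (Finset.univ.filter fun z : Ω => z ≠ a ∧ z ≠ b) = ({a, b} : Finset Ω)ᶜ := by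
      ext z; simp
    rw [this, Finset.card_compl, Finset.card_pair hab, hΩ]
    omega
  let K : Subgroup G :=
    { carrier := {g | g • a = a ∧ g • b = b ∨ g • a = b ∧ g • b = a}
      one_mem' := Or.inl ⟨one_smul _ _, one_smul _ _⟩
      mul_mem' := fun {g h} hg hh => by
        simp only [Set.mem_setOf_eq, mul_smul] at *
        rcases hg with ⟨e1, e2⟩ | ⟨e1, e2⟩ <;> rcases hh with ⟨f1, f2⟩ | ⟨f1, f2⟩ <;>
          simp [e1, e2, f1, f2]
      inv_mem' := fun {g} hg => by
        simp only [Set.mem_setOf_eq, inv_smul_eq_iff] at *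
        rcases hg with ⟨e1, e2⟩ | ⟨e1, e2⟩
        · exact Or.inl ⟨e1.symm, e2.symm⟩
        · exact Or.inr ⟨e2.symm, e1.symm⟩ }
  have hK : ∀ {g : G}, g ∈ K ↔ (g • a = a ∧ g • b = b ∨ g • a = b ∧ g • b = a) := Iff.rfl
  have hKY : ∀ (g : K) (z : Ω), ((g : G) • z ≠ a ∧ (g : G) • z ≠ b) ↔ (z ≠ a ∧ z ≠ b) := by
    rintro ⟨g, hg⟩ z
    rcases hK.mp hg with ⟨e1, e2⟩ | ⟨e1, e2⟩
    · show (g • z ≠ a ∧ g • z ≠ b) ↔ _
      have h1 : g • z = a ↔ z = a :=
        ⟨fun h => smul_left_cancel g (h.trans e1.symm), fun h => h.symm ▸ e1⟩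
      have h2 : g • z = b ↔ z = b :=
        ⟨fun h => smul_left_cancel g (h.trans e2.symm), fun h => h.symm ▸ e2⟩
      simp only [ne_eq, h1, h2]
    · show (g • z ≠ a ∧ g • z ≠ b) ↔ _
      have h1 : g • z = a ↔ z = b :=
        ⟨fun h => smul_left_cancel g (h.trans e2.symm), fun h => h.symm ▸ e2⟩
      have h2 : g • z = b ↔ z = a :=
        ⟨fun h => smul_left_cancel g (h.trans e1.symm), fun h => h.symm ▸ e1⟩
      simp only [ne_eq, h1, h2, and_comm]
  let θ : K →* Equiv.Perm Y :=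
    { toFun := fun g => (MulAction.toPerm (g : G)).subtypePerm (hKY g)
      map_one' := by ext z; simp
      map_mul' := fun g h => Equiv.ext fun z => Subtype.ext (mul_smul (g : G) (h : G) (z : Ω)) }
  have hθ : ∀ (g : K) (z : Y), ((θ g z : Y) : Ω) = (g : G) • (z : Ω) := fun g z => rfl
  have hnoswap : ∀ g : G, g • a = b → g • b = a → (∀ z : Y, g • (z : Ω) = z) → False := by
    intro g e1 e2 e3
    have hsw : MulAction.toPermHom G Ω g = Equiv.swap a b := by
      ext z
      show g • z = _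
      by_cases hza : z = a
      · rw [hza, Equiv.swap_apply_left, e1]
      by_cases hzb : z = b
      · rw [hzb, Equiv.swap_apply_right, e2]
      rw [Equiv.swap_apply_of_ne_of_ne hza hzb]
      exact e3 ⟨z, hza, hzb⟩
    set φ := MulAction.toPermHom G Ω with hφ
    haveI : IsPretransitive φ.range Ω := ⟨fun x y => by
      obtain ⟨g, hg⟩ := MulAction.exists_smul_eq G x y
      exact ⟨⟨φ g, g, rfl⟩, hg⟩⟩
    have htop : φ.range = ⊤ := Equiv.Perm.subgroup_eq_top_of_isPreprimitive_of_isSwap_mem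
      (IsPreprimitive.of_prime_card (by rw [Nat.card_eq_fintype_card, hΩ]; exact hp.out))
      _ ⟨a, b, hab, rfl⟩ ⟨g, hsw⟩
    have h1 : Nat.card G = p.factorial := by
      have h := Nat.card_congr (MonoidHom.ofInjective (f := φ) MulAction.toPerm_injective).toEquiv
      rwa [htop, Subgroup.card_top, Nat.card_perm, Nat.card_eq_fintype_card (α := Ω), hΩ] at h
    have h2 : Nat.card H = (p - 2).factorial := by
      rw [hcard, ← Nat.mul_factorial_pred hp.out.pos.ne',
        ← Nat.mul_factorial_pred (show p - 1 ≠ 0 by omega), ← mul_assoc] at h1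
      exact Nat.eq_of_mul_eq_mul_left (Nat.mul_pos hp.out.pos (by omega)) h1
    have h5 := ZMod.wilsons_lemma p
    rw [← Nat.mul_factorial_pred (show p - 1 ≠ 0 by omega), Nat.cast_mul,
      Nat.cast_sub (by omega : 1 ≤ p), ZMod.natCast_self, show p - 1 - 1 = p - 2 by omega, ← h2,
      Nat.cast_one, zero_sub, neg_one_mul, neg_inj] at h5
    rw [h5] at hmod
    exact one_ne_zero (show (1 : ZMod p) = 0 by linear_combination hmod)
  have hθinj : Function.Injective θ := by
    rw [← MonoidHom.ker_eq_bot_iff, Subgroup.eq_bot_iff_forall]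
    rintro ⟨g, hg⟩ hgk
    have e3 : ∀ z : Y, g • (z : Ω) = z := fun z => by
      rw [← hθ ⟨g, hg⟩ z, MonoidHom.mem_ker.mp hgk]; rfl
    rcases hK.mp hg with ⟨e1, e2⟩ | ⟨e1, e2⟩
    · refine Subtype.ext (eq_of_smul_eq_smul (α := Ω) fun z => ?_)
      show g • z = (1 : G) • z
      rw [one_smul]
      by_cases hza : z = a
      · rw [hza, e1]
      by_cases hzb : z = b
      · rw [hzb, e2]
      exact e3 ⟨z, hza, hzb⟩
    · exact (hnoswap g e1 e2 e3).elim
  have hHK : H ≤ K := fun g hg => hK.mpr (Or.inl ⟨hg.1, hg.2⟩)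
  let θ₂ : H →* Equiv.Perm Y := θ.comp (Subgroup.inclusion hHK)
  have hθ₂inj : Function.Injective θ₂ := hθinj.comp (Subgroup.inclusion_injective hHK)
  have hHtr : ∀ u v : Y, ∃ g ∈ H, g • (u : Ω) = v := by
    intro u v
    obtain ⟨g, g1, g2, g3⟩ := exists_triple h3 hab u.2.1.symm u.2.2.symm hab v.2.1.symm v.2.2.symm
    exact ⟨g, Subgroup.mem_inf.mpr ⟨g1, g2⟩, g3⟩
  haveI : IsPretransitive θ₂.range Y := ⟨fun u v => by
    obtain ⟨g, hg, e⟩ := hHtr u v
    exact ⟨⟨θ₂ ⟨g, hg⟩, ⟨g, hg⟩, rfl⟩, Subtype.ext e⟩⟩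
  have hins₂ : ¬ Group.IsSolvable θ₂.range := by
    intro hs
    obtain ⟨d, hd, hdq⟩ := card_of_solvable (G := θ₂.range) hYc hs
    rw [← Nat.card_congr (MonoidHom.ofInjective hθ₂inj).toEquiv] at hd
    rw [hd, Nat.cast_mul, show (q : ZMod p) = -2 by
      have : ((q + 2 : ℕ) : ZMod p) = 0 := by rw [← hpq, ZMod.natCast_self]
      push_cast at this
      linear_combination this] at hmod
    have hdvd : p ∣ 4 * d + 1 := (ZMod.natCast_eq_zero_iff _ p).mp (by
      push_cast; linear_combination -hmod)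
    obtain ⟨k, hk⟩ := hdvd
    obtain ⟨l, hl⟩ := hdq
    have hd0 : 0 < d := Nat.pos_of_ne_zero fun h => by
      rw [h, zero_mul] at hl; omega
    have hdle : d ≤ q - 1 := Nat.le_of_dvd (by omega) ⟨l, hl⟩
    have hk4 : k < 4 := by
      by_contra h
      have : p * 4 ≤ p * k := Nat.mul_le_mul_left p (by omega)
      omega
    interval_cases k
    · omega
    · -- `4 * d = p - 1` and `d ∣ p - 3` force `d ∣ 2`
      have h : d * l + 2 = 4 * d := by omega
      have : d ∣ 2 := (Nat.dvd_add_right (Dvd.intro l rfl)).mp (h ▸ Dvd.intro_left 4 rfl)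
      have := Nat.le_of_dvd two_pos this
      have hp9 : p ≠ 9 := fun h9 => absurd hp.out (h9 ▸ by decide)
      omega
    · omega
    · rcases Nat.lt_or_ge l 2 with h | h
      · interval_cases l
        · omega
        · -- here `p = 11`
          have h9 : q = 9 := by omega
          rw [h9] at hq
          exact absurd hq.out (by decide)
      · have : d * 2 ≤ d * l := Nat.mul_le_mul_left d h
        omega
  have hY2 := two_transitive_of_not_solvable hYc θ₂.range hins₂
  -- the setwise stabilizer is triply transitive on `Y`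
  set R : Subgroup (Equiv.Perm Y) := θ.range with hR
  haveI : IsPretransitive R Y := ⟨fun u v => by
    obtain ⟨g, hg, e⟩ := hHtr u v
    exact ⟨⟨θ ⟨g, hHK hg⟩, ⟨g, hHK hg⟩, rfl⟩, Subtype.ext e⟩⟩
  let e : K ≃* R := MonoidHom.ofInjective hθinj
  have hinsR : ¬ Group.IsSolvable R := fun h => by
    haveI := h
    haveI : Group.IsSolvable K :=
      Group.isSolvable_of_isSolvable_injective (f := e.toMonoidHom) e.injective
    haveI : Group.IsSolvable H := Group.isSolvable_of_isSolvable_injective (Subgroup.inclusion_injective hHK)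
    exact hins₂ (Group.isSolvable_of_surjective θ₂.rangeRestrict_surjective)
  set H' : Subgroup K := H.subgroupOf K with hH'
  have hsq : ∀ g : G, g ∈ K → g ∉ H → ∀ g' : G, g' ∈ K → g' ∉ H → g * g' ∈ H := by
    intro g hg hgH g' hg' hg'H
    obtain ⟨e1, e2⟩ := (hK.mp hg).resolve_left fun h => hgH h
    obtain ⟨f1, f2⟩ := (hK.mp hg').resolve_left fun h => hg'H h
    exact Subgroup.mem_inf.mpr ⟨show (g * g') • a = a by rw [mul_smul, f1, e2],
      show (g * g') • b = b by rw [mul_smul, f2, e1]⟩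
  haveI hnorm : H'.Normal := ⟨fun x hx g => by
    rw [Subgroup.mem_subgroupOf, Subgroup.coe_mul, Subgroup.coe_mul, Subgroup.coe_inv] at *
    by_cases hg : (g : G) ∈ H
    · exact mul_mem (mul_mem hg hx) (inv_mem hg)
    · exact hsq _ (K.mul_mem g.2 x.2) (fun h => hg (by simpa using mul_mem h (inv_mem hx))) _
        (K.inv_mem g.2) (fun h => hg (inv_mem_iff.mp h))⟩
  obtain ⟨Q⟩ : Nonempty (Sylow q K) := inferInstance
  have hQH : (Q : Subgroup K) ≤ H' := by
    intro x hx
    obtain ⟨i, hi⟩ := Q.isPGroup' ⟨x, hx⟩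
    have hi' : x ^ (q ^ i) = 1 := congrArg Subtype.val hi
    by_contra hxH
    have hodd : Odd (q ^ i) := (hq.out.odd_of_ne_two (by omega)).pow
    obtain ⟨j, hj⟩ := hodd
    have h2 : x * x ∈ H' := hsq _ x.2 hxH _ x.2 hxH
    rw [hj, pow_succ, pow_mul, sq] at hi'
    refine hxH ?_
    rw [eq_inv_of_mul_eq_one_right hi']
    exact inv_mem (pow_mem h2 j)
  obtain ⟨s, s1, s2⟩ := exists_pair hΩ hins hab hab.symm
  have hsK : s ∈ K := hK.mpr (Or.inr ⟨s1, s2⟩)
  have hsH : (⟨s, hsK⟩ : K) ∉ H' := fun h => hab ((Subgroup.mem_inf.mp h).1.symm.trans s1)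
  obtain ⟨x, hxN, hxH⟩ : ∃ x ∈ Subgroup.normalizer ((Q : Subgroup K) : Set K), x ∉ H' := by
    by_contra hall
    push Not at hall
    have h := Sylow.normalizer_sup_eq_top' Q hQH
    rw [sup_eq_right.mpr (fun y hy => hall y hy)] at h
    exact hsH (h ▸ Subgroup.mem_top _)
  have heven : Even (Nat.card ↥(Subgroup.normalizer ((Q : Subgroup K) : Set K))) := by
    rw [← Nat.not_odd_iff_even]
    intro hodd
    have h1 : x ^ Nat.card ↥(Subgroup.normalizer ((Q : Subgroup K) : Set K)) = 1 :=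
      congrArg Subtype.val (pow_card_eq_one' (x := (⟨x, hxN⟩ : ↥(Subgroup.normalizer ((Q : Subgroup K) : Set K)))))
    obtain ⟨j, hj⟩ := hodd
    rw [hj, pow_succ, pow_mul, sq] at h1
    refine hxH ?_
    rw [eq_inv_of_mul_eq_one_right h1]
    exact inv_mem (pow_mem (hsq _ x.2 hxH _ x.2 hxH : x * x ∈ H') j)
  let Q' : Sylow q R := Q.mapSurjective (f := e.toMonoidHom) e.surjective
  have hQ' : Subgroup.normalizer ((Q' : Subgroup R) : Set R) =
      (Subgroup.normalizer ((Q : Subgroup K) : Set K)).map e.toMonoidHom :=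
    (Subgroup.map_equiv_normalizer_eq (Q : Subgroup K) e).symm
  have hR3 := Lib.Perm.three_transitive_of_even_normalizer hYc R hinsR Q' (by
    rw [hQ', Subgroup.card_map_of_injective (f := e.toMonoidHom) e.injective]; exact heven)
  -- `H` is triply transitive on `Y`
  have hH2 : ∀ u v u' v' : Y, u ≠ v → u' ≠ v' →
      ∃ g ∈ H, g • (u : Ω) = u' ∧ g • (v : Ω) = v' := by
    intro u v u' v' huv huv'
    obtain ⟨⟨_, ⟨g, hg⟩, rfl⟩, e1, e2⟩ := exists_smul_eq_pair hY2 huv huv'
    exact ⟨g, hg, congrArg Subtype.val e1, congrArg Subtype.val e2⟩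
  have hH3 : ∀ c d u v : Y, c ≠ d → u ≠ c → u ≠ d → v ≠ c → v ≠ d →
      ∃ g ∈ H, g • (c : Ω) = c ∧ g • (d : Ω) = d ∧ g • (u : Ω) = v := by
    intro c d u v hcd huc hud hvc hvd
    by_contra hno
    have hK3 : ∀ w : Y, w ≠ c → w ≠ d → ∀ w' : Y, w' ≠ c → w' ≠ d →
        ∃ g ∈ K, g • (c : Ω) = c ∧ g • (d : Ω) = d ∧ g • (w : Ω) = w' := by
      intro w w1 w2 w' w1' w2'
      obtain ⟨⟨_, ⟨g, hg⟩, rfl⟩, e1, e2, e3⟩ :=
        exists_triple hR3 hcd w1.symm w2.symm hcd w1'.symm w2'.symm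
      exact ⟨g, hg, congrArg Subtype.val e1, congrArg Subtype.val e2, congrArg Subtype.val e3⟩
    obtain ⟨x, hx, x1, x2, x3⟩ := hK3 u huc hud v hvc hvd
    have hxH : x ∉ H := fun h => hno ⟨x, h, x1, x2, x3⟩
    have hinvfix : ∀ {g : G} {z : Ω}, g • z = z → g⁻¹ • z = z := fun {g z} h => by
      rw [inv_smul_eq_iff, h]
    let S : Y → Finset Y := fun w₀ => Finset.univ.filter fun w =>
      ∃ g ∈ H, g • (c : Ω) = c ∧ g • (d : Ω) = d ∧ g • (w₀ : Ω) = w
    have hS : ∀ {w₀ w}, w ∈ S w₀ ↔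
        ∃ g ∈ H, g • (c : Ω) = c ∧ g • (d : Ω) = d ∧ g • (w₀ : Ω) = w := fun {w₀ w} => by simp [S]
    have hun : S u ∪ S v = ({c, d} : Finset Y)ᶜ := by
      ext w
      rw [Finset.mem_union, Finset.mem_compl, Finset.mem_insert, Finset.mem_singleton, not_or]
      constructor
      · intro hw
        obtain ⟨w₀, hw0, g, hg, g1, g2, g3⟩ :
            ∃ w₀ : Y, (w₀ ≠ c ∧ w₀ ≠ d) ∧ ∃ g ∈ H, g • (c : Ω) = c ∧ g • (d : Ω) = d ∧
              g • (w₀ : Ω) = w := by
          rcases hw with hw | hw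
          · exact ⟨u, ⟨huc, hud⟩, hS.mp hw⟩
          · exact ⟨v, ⟨hvc, hvd⟩, hS.mp hw⟩
        constructor
        · intro e
          exact hw0.1 (Subtype.ext (smul_left_cancel g (by rw [g3, g1, e])))
        · intro e
          exact hw0.2 (Subtype.ext (smul_left_cancel g (by rw [g3, g2, e])))
      · rintro ⟨w1, w2⟩
        obtain ⟨z, hz, z1, z2, z3⟩ := hK3 u huc hud w w1 w2
        by_cases hzH : z ∈ H
        · exact Or.inl (hS.mpr ⟨z, hzH, z1, z2, z3⟩)
        · refine Or.inr (hS.mpr ⟨z * x⁻¹, hsq z hz hzH x⁻¹ (inv_mem hx)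
            (fun h => hxH (inv_mem_iff.mp h)), ?_, ?_, ?_⟩)
          · rw [mul_smul, hinvfix x1, z1]
          · rw [mul_smul, hinvfix x2, z2]
          · rw [mul_smul, ← x3, inv_smul_smul, z3]
    have hdisj : Disjoint (S u) (S v) := Finset.disjoint_left.mpr fun w hw hw' => by
      obtain ⟨g, hg, g1, g2, g3⟩ := hS.mp hw
      obtain ⟨k, hk, k1, k2, k3⟩ := hS.mp hw'
      exact hno ⟨k⁻¹ * g, mul_mem (inv_mem hk) hg, by rw [mul_smul, g1, hinvfix k1],
        by rw [mul_smul, g2, hinvfix k2], by rw [mul_smul, g3, ← k3, inv_smul_smul]⟩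
    have hconj : ∀ g ∈ H, x * g * x⁻¹ ∈ H ∧ x⁻¹ * g * x ∈ H := fun g hg =>
      ⟨hsq _ (K.mul_mem hx (hHK hg)) (fun h => hxH (by simpa using mul_mem h (inv_mem hg))) _
        (inv_mem hx) (fun h => hxH (inv_mem_iff.mp h)),
       hsq _ (K.mul_mem (inv_mem hx) (hHK hg))
        (fun h => hxH (inv_mem_iff.mp (by simpa using mul_mem h (inv_mem hg)))) _ hx hxH⟩
    have hcard : (S u).card = (S v).card := by
      refine Finset.card_bij' (fun w _ => θ ⟨x, hx⟩ w) (fun w _ => (θ ⟨x, hx⟩).symm w) ?_ ?_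
        (by simp) (by simp)
      · intro w hw
        obtain ⟨g, hg, g1, g2, g3⟩ := hS.mp hw
        refine hS.mpr ⟨x * g * x⁻¹, (hconj g hg).1, ?_, ?_, ?_⟩
        · rw [mul_smul, mul_smul, hinvfix x1, g1, x1]
        · rw [mul_smul, mul_smul, hinvfix x2, g2, x2]
        · rw [mul_smul, mul_smul, ← x3, inv_smul_smul, g3, hθ]
      · intro w hw
        obtain ⟨g, hg, g1, g2, g3⟩ := hS.mp hw
        have hw' : ((θ ⟨x, hx⟩).symm w : Ω) = x⁻¹ • (w : Ω) := by
          rw [eq_inv_smul_iff, ← hθ ⟨x, hx⟩, Equiv.apply_symm_apply]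
        refine hS.mpr ⟨x⁻¹ * g * x, (hconj g hg).2, ?_, ?_, ?_⟩
        · rw [mul_smul, mul_smul, x1, g1, hinvfix x1]
        · rw [mul_smul, mul_smul, x2, g2, hinvfix x2]
        · rw [mul_smul, mul_smul, x3, g3, hw']
    have htot := congrArg Finset.card hun
    rw [Finset.card_union_of_disjoint hdisj, hcard, Finset.card_compl, Finset.card_pair hcd, hYc]
      at htot
    obtain ⟨j, hj⟩ := hq.out.odd_of_ne_two (by omega)
    omega
  refine ⟨fun x y => ?_⟩
  have hne : ∀ (z : Fin 5 ↪ Ω) (i j : Fin 5), i ≠ j → z i ≠ z j := fun z i j h he => h (z.injective he)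
  obtain ⟨g, g0, g1⟩ := exists_pair hΩ hins (hne x 0 1 (by decide)) hab
  obtain ⟨k, k0, k1⟩ := exists_pair hΩ hins (hne y 0 1 (by decide)) hab
  have m : ∀ (z : Fin 5 ↪ Ω) (w : G), w • z 0 = a → w • z 1 = b → ∀ i, i ≠ 0 → i ≠ 1 →
      w • z i ≠ a ∧ w • z i ≠ b := fun z w h0 h1 i i0 i1 =>
    ⟨fun h => hne z i 0 i0 (smul_left_cancel w (h.trans h0.symm)),
     fun h => hne z i 1 i1 (smul_left_cancel w (h.trans h1.symm))⟩
  let X : ∀ i : Fin 5, i ≠ 0 ∧ i ≠ 1 → Y := fun i hi => ⟨g • x i, m x g g0 g1 i hi.1 hi.2⟩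
  let Z : ∀ i : Fin 5, i ≠ 0 ∧ i ≠ 1 → Y := fun i hi => ⟨k • y i, m y k k0 k1 i hi.1 hi.2⟩
  have hXne : ∀ (i j : Fin 5) (hi : i ≠ 0 ∧ i ≠ 1) (hj : j ≠ 0 ∧ j ≠ 1), i ≠ j → X i hi ≠ X j hj := fun i j hi hj h e =>
    hne x i j h (smul_left_cancel g (congrArg Subtype.val e))
  have hZne : ∀ (i j : Fin 5) (hi : i ≠ 0 ∧ i ≠ 1) (hj : j ≠ 0 ∧ j ≠ 1), i ≠ j → Z i hi ≠ Z j hj := fun i j hi hj h e =>
    hne y i j h (smul_left_cancel k (congrArg Subtype.val e))
  obtain ⟨h₁, h₁H, e2, e3⟩ := hH2 (X 2 (by decide)) (X 3 (by decide)) (Z 2 (by decide)) (Z 3 (by decide))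
    (hXne 2 3 (by decide) (by decide) (by decide)) (hZne 2 3 (by decide) (by decide) (by decide))
  have hw : h₁ • (g • x 4) ≠ a ∧ h₁ • (g • x 4) ≠ b :=
    (hKY ⟨h₁, hHK h₁H⟩ _).mpr (m x g g0 g1 4 (by decide) (by decide))
  have hw4 : ∀ i (hi : i ≠ 0 ∧ i ≠ 1), i ≠ 4 → h₁ • ((X i hi : Y) : Ω) = (Z i hi : Y) →
      (⟨_, hw⟩ : Y) ≠ Z i hi := by
    intro i hi hi4 he e
    have e' := congrArg Subtype.val e
    rw [← he] at e'
    exact hne x 4 i hi4.symm (smul_left_cancel g (smul_left_cancel h₁ e'))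
  obtain ⟨h₂, h₂H, f2, f3, f4⟩ := hH3 (Z 2 (by decide)) (Z 3 (by decide)) ⟨_, hw⟩ (Z 4 (by decide))
    (hZne 2 3 (by decide) (by decide) (by decide)) (hw4 2 (by decide) (by decide) e2)
    (hw4 3 (by decide) (by decide) e3) (hZne 4 2 (by decide) (by decide) (by decide))
    (hZne 4 3 (by decide) (by decide) (by decide))
  refine ⟨k⁻¹ * h₂ * h₁ * g, Function.Embedding.ext fun i => ?_⟩
  rw [Function.Embedding.smul_apply, mul_smul, mul_smul, mul_smul, inv_smul_eq_iff]
  fin_cases i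
  · show h₂ • h₁ • g • x 0 = k • y 0
    rw [g0, k0, show h₁ • a = a from (Subgroup.mem_inf.mp h₁H).1]
    exact (Subgroup.mem_inf.mp h₂H).1
  · show h₂ • h₁ • g • x 1 = k • y 1
    rw [g1, k1, show h₁ • b = b from (Subgroup.mem_inf.mp h₁H).2]
    exact (Subgroup.mem_inf.mp h₂H).2
  · show h₂ • h₁ • g • x 2 = k • y 2
    rw [show h₁ • g • x 2 = k • y 2 from e2]; exact f2
  · show h₂ • h₁ • g • x 3 = k • y 3
    rw [show h₁ • g • x 3 = k • y 3 from e3]; exact f3
  · exact f4

end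

end Cfsg.Agent.Lib.Perm.PrimeHalf
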