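import Cfsg.Agent.Lib.Perm.PrimeHalf.LineGraph
import Cfsg.Agent.Lib.Perm.PrimeHalf.Twin
import Cfsg.Agent.Lib.Geometry.Dickson.FourGroups

/-!
Even overgroups of `PSL(2,p)` on the projective line are four-fold transitive.
-/

set_option autoImplicit false

open MulAction

namespace Cfsg.Agent.Lib.Perm.PrimeHalf

theorem le_normalizer_of_card_lt {G : Type*} [Group G] [Finite G] {p : ℕ} [hp : Fact p.Prime] (P S : Subgroup G)
    (hP : Nat.card P = p) (hPS : P ≤ S) (hS : Nat.card S < p ^ 2) :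
    S ≤ Subgroup.normalizer (P : Set G) := by
  have key : ∀ g ∈ S, ∀ x ∈ P, g * x * g⁻¹ ∈ P := by
    intro g hg x hx
    set Q := P.map (MulAut.conj g).toMonoidHom with hQ
    have hQc : Nat.card Q = p :=
      (Subgroup.card_map_of_injective (MulAut.conj g).injective).trans hP
    have hQS : Q ≤ S := by
      rintro _ ⟨y, hy, rfl⟩
      exact S.mul_mem (S.mul_mem hg (hPS hy)) (S.inv_mem hg)
    haveI : Fact (Nat.card Q).Prime := ⟨hQc.symm ▸ hp.out⟩
    rcases Subgroup.eq_bot_or_eq_top_of_prime_card (P.subgroupOf Q) with h | h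
    · exfalso
      rw [Subgroup.subgroupOf_eq_bot] at h
      have h2 := Nat.card_le_card_of_injective (α := P × Q) (β := S)
        (fun xy => ⟨xy.1 * xy.2, S.mul_mem (hPS xy.1.2) (hQS xy.2.2)⟩)
        (fun a b hab => Subgroup.mul_injective_of_disjoint h (congrArg Subtype.val hab))
      rw [Nat.card_prod, hP, hQc] at h2
      rw [pow_two] at hS
      omega
    · exact Subgroup.subgroupOf_eq_top.mp h ⟨x, hx, rfl⟩
  intro g hg
  rw [Subgroup.mem_normalizer_iff]
  refine fun x => ⟨key g hg x, fun hx => ?_⟩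
  have := key g⁻¹ (S.inv_mem hg) _ hx
  simpa [mul_assoc] using this

/-- Normalising a regular cyclic group gives an affine map. -/
theorem affine_of_normalizes {G Ω : Type*} [Group G] [MulAction G Ω] {p : ℕ} [hp : Fact p.Prime]
    (e : ZMod p ≃ Ω) (τ : G) (he : ∀ j, τ • e j = e (j + 1)) {g : G} {k : ℕ} (hk : g * τ * g⁻¹ = τ ^ k) :
    (k : ZMod p) ≠ 0 ∧ ∀ j, g • e j = e (e.symm (g • e 0) + (k : ZMod p) * j) := by
  have hpow : ∀ (n : ℕ) j, τ ^ n • e j = e (j + n) := by
    intro n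
    induction n with
    | zero => intro j; simp
    | succ n ih => intro j; rw [pow_succ', mul_smul, ih, he, Nat.cast_succ, add_assoc]
  set c := e.symm (g • e 0) with hc
  have hn : ∀ n : ℕ, g • e (n : ZMod p) = e (c + k * n) := by
    intro n
    induction n with
    | zero => simp [hc]
    | succ n ih =>
      rw [Nat.cast_succ, ← he, smul_smul, show g * τ = τ ^ k * g by rw [← hk]; group, mul_smul, ih, hpow]
      congr 1
      ring
  have hall : ∀ j, g • e j = e (c + (k : ZMod p) * j) := fun j => by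
    conv_lhs => rw [← ZMod.natCast_zmod_val j]
    rw [hn, ZMod.natCast_zmod_val]
  refine ⟨fun h0 => ?_, hall⟩
  have h01 : g • e 0 = g • e 1 := by rw [hall, hall, h0, zero_mul, zero_mul]
  exact zero_ne_one (e.injective (smul_left_cancel g h01))

theorem even_overgroup_four_transitive {X Ω : Type*} [Group X] [Finite X] [MulAction X Ω] [FaithfulSMul X Ω]
    [Fintype Ω] [DecidableEq Ω] (p : ℕ) [hp : Fact p.Prime] (hp7 : 7 < p) (hΩ : Fintype.card Ω = p + 1)
    (heven : ∀ x : X, Equiv.Perm.sign (MulAction.toPerm x : Equiv.Perm Ω) = 1)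
    (L : Subgroup X) (hL : Nonempty (↥L ≃* Matrix.ProjectiveSpecialLinearGroup (Fin 2) (ZMod p)))
    (hLt : MulAction.IsMultiplyPretransitive ↥L Ω 2) (hLX : L ≠ ⊤) :
    MulAction.IsMultiplyPretransitive X Ω 4 := by
  classical
  obtain ⟨eL⟩ := hL
  have hodd : p % 2 = 1 := Nat.odd_iff.mp (hp.out.odd_of_ne_two (by omega))
  obtain ⟨q, hpq⟩ : ∃ q, 2 * q + 1 = p := ⟨p / 2, by omega⟩
  -- the order of `L`
  have hLcard : Nat.card L = (p + 1) * (p * q) := by
    have h := Geometry.Dickson.card_PSL2_odd (F := ZMod p) (by rw [ZMod.card]; exact hodd)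
    rw [← Nat.card_congr eL.toEquiv, ZMod.card, ← hpq] at h
    have : (2 * q + 1) ^ 2 - 1 = (2 * q + 1 + 1) * (2 * q) := by
      apply Nat.sub_eq_of_eq_add; ring
    rw [this] at h
    rw [← hpq]
    linarith
  obtain ⟨o⟩ : Nonempty Ω := Fintype.card_pos_iff.mp (by omega)
  haveI hL1 : IsPretransitive L Ω := isPretransitive_of_is_two_pretransitive
  haveI hX1 : IsPretransitive X Ω := ⟨fun a b => by
    obtain ⟨g, hg⟩ := MulAction.exists_smul_eq L a b
    exact ⟨g, hg⟩⟩
  have hpairL : ∀ a b c d : Ω, a ≠ b → c ≠ d → ∃ l : L, l • a = c ∧ l • b = d := fun a b c d hab hcd =>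
    (is_two_pretransitive_iff.mp hLt) hab hcd
  let S := SubMulAction.ofStabilizer X o
  let G := stabilizer X o
  haveI : Fintype ↥S := Fintype.ofFinite _
  haveI : FaithfulSMul ↥G ↥S := ⟨fun {g g'} h => Subtype.ext (eq_of_smul_eq_smul (α := Ω) fun x => by
    rcases eq_or_ne x o with rfl | hx
    · exact g.2.trans g'.2.symm
    · exact congrArg Subtype.val (h ⟨x, hx⟩))⟩
  have hS : Fintype.card ↥S = p := by
    have h1 : Nat.card ↥S + 1 = Nat.card Ω := SubMulAction.nat_card_ofStabilizer_add_one_eq (G := X) o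
    rw [Nat.card_eq_fintype_card, Nat.card_eq_fintype_card, hΩ] at h1
    omega
  have hGX : Nat.card X = (p + 1) * Nat.card G := by
    rw [← Subgroup.card_mul_index G, index_stabilizer_of_transitive X o, Nat.card_eq_fintype_card (α := Ω), hΩ, mul_comm]
  haveI : IsPretransitive ↥G ↥S := ⟨fun a b => by
    obtain ⟨l, l1, l2⟩ := hpairL o a.1 o b.1 (Ne.symm (show a.1 ≠ o from a.2)) (Ne.symm (show b.1 ≠ o from b.2))
    exact ⟨⟨(l : X), l1⟩, Subtype.ext l2⟩⟩
  -- the image of `L` in `G`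
  let fL : ↥(stabilizer L o) →* ↥G :=
    { toFun := fun l => ⟨((l : L) : X), l.2⟩
      map_one' := rfl
      map_mul' := fun _ _ => rfl }
  set R := fL.range with hR
  have hRcard : Nat.card R = p * q := by
    have h1 : Nat.card ↥(stabilizer L o) = p * q := by
      have h := Subgroup.card_mul_index (stabilizer L o)
      rw [index_stabilizer_of_transitive L o, Nat.card_eq_fintype_card (α := Ω), hΩ, hLcard, mul_comm] at h
      exact Nat.eq_of_mul_eq_mul_left (by omega) h
    rw [← h1]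
    exact (Nat.card_congr (MonoidHom.ofInjective (f := fL) (fun a b h =>
      Subtype.ext (Subtype.ext (Subtype.ext_iff.mp h :)))).toEquiv).symm
  obtain ⟨⟨τ, hτR⟩, hτ'⟩ := exists_prime_orderOf_dvd_card' (G := R) p (hRcard ▸ dvd_mul_right p q)
  have hτ : orderOf τ = p := by rwa [Subgroup.orderOf_mk] at hτ'
  obtain ⟨P, hP⟩ := (IsPGroup.of_card (p := p) (n := 1) (by rw [Nat.card_zpowers, hτ, pow_one]) :
    IsPGroup p (Subgroup.zpowers τ)).exists_le_sylow
  have hPcard : Nat.card (P : Subgroup ↥G) = p := by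
    obtain ⟨n, hn⟩ := IsPGroup.iff_card.mp P.isPGroup'
    have h1 : p ∣ Nat.card (P : Subgroup ↥G) := by
      have := Subgroup.card_dvd_of_le hP
      rwa [Nat.card_zpowers, hτ] at this
    have h2 : ¬ p ^ 2 ∣ Nat.card ↥G := by
      intro h
      have h3 : Nat.card ↥G ∣ p.factorial := by
        have := Subgroup.card_dvd_of_injective (MulAction.toPermHom ↥G ↥S) MulAction.toPerm_injective
        rwa [Nat.card_perm, Nat.card_eq_fintype_card (α := ↥S), hS] at this
      have h4 := h.trans h3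
      obtain ⟨p', rfl⟩ : ∃ p', p = p' + 1 := ⟨p - 1, by omega⟩
      rw [Nat.factorial_succ, pow_two] at h4
      have := (Nat.Prime.dvd_factorial hp.out).mp (Nat.dvd_of_mul_dvd_mul_left (by omega) h4)
      omega
    match n, hn with
    | 0, hn => rw [hn, pow_zero, Nat.dvd_one] at h1; exact absurd h1 hp.out.ne_one
    | 1, hn => rw [hn, pow_one]
    | n + 2, hn =>
      exact absurd (((pow_dvd_pow p (by omega : 2 ≤ n + 2)).trans (dvd_of_eq hn.symm)).trans
        (Subgroup.card_subgroup_dvd_card _)) h2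
  have hPeq : Subgroup.zpowers τ = (P : Subgroup ↥G) :=
    Subgroup.eq_of_le_of_card_ge hP (by rw [hPcard, Nat.card_zpowers, hτ])
  obtain ⟨e, he'⟩ := Cfsg.Agent.Lib.Perm.exists_coord_of_orderOf hS (MulAction.toPermHom ↥G ↥S τ)
    (by rw [orderOf_injective _ MulAction.toPerm_injective, hτ])
  have he : ∀ j, τ • e j = e (j + 1) := he'
  set N := Subgroup.normalizer ((P : Subgroup ↥G) : Set ↥G) with hNdef
  have hPR : (P : Subgroup ↥G) ≤ R := hPeq ▸ (Subgroup.zpowers_le.mpr hτR)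
  have hRN : R ≤ N := le_normalizer_of_card_lt (P : Subgroup ↥G) R hPcard hPR (by rw [hRcard, pow_two]; gcongr; omega)
  have haff : ∀ g ∈ N, ∃ k : ZMod p, k ≠ 0 ∧ ∀ j, g • e j = e (e.symm (g • e 0) + k * j) := by
    intro g hg
    obtain ⟨k, hk⟩ : ∃ k : ℕ, g * τ * g⁻¹ = τ ^ k := by
      have h1 : g * τ * g⁻¹ ∈ (P : Subgroup ↥G) :=
        (Subgroup.mem_normalizer_iff.mp hg τ).mp (hPeq ▸ Subgroup.mem_zpowers τ)
      rw [← hPeq, ← mem_powers_iff_mem_zpowers] at h1
      obtain ⟨k, hk⟩ := h1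
      exact ⟨k, hk.symm⟩
    exact ⟨k, affine_of_normalizes e τ he hk⟩
  choose! mul hmul0 hmul using haff
  have hNinj : Function.Injective fun g : ↥N => (Units.mk0 (mul g.1) (hmul0 _ g.2), e.symm (g.1 • e 0)) := by
    intro g g' h
    simp only [Prod.mk.injEq] at h
    have h1 : mul g.1 = mul g'.1 := congrArg Units.val h.1
    refine Subtype.ext (eq_of_smul_eq_smul (α := ↥S) fun x => ?_)
    obtain ⟨j, rfl⟩ := e.surjective x
    rw [hmul _ g.2, hmul _ g'.2, h1, h.2]
  have hcardprod : Nat.card ((ZMod p)ˣ × ZMod p) = 2 * (p * q) := by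
    rw [Nat.card_prod, Nat.card_zmod, Nat.card_eq_fintype_card, ZMod.card_units]
    rw [show p - 1 = 2 * q by omega]; ring
  have hNcard : Nat.card N = p * q := by
    obtain ⟨i, hi⟩ := hRcard ▸ Subgroup.card_dvd_of_le hRN
    have hle := Nat.card_le_card_of_injective _ hNinj
    have hi0 : i ≠ 0 := by
      rintro rfl
      rw [mul_zero] at hi
      exact Nat.card_pos.ne' hi
    by_contra hne
    have hi2 : 2 ≤ i := by
      rcases Nat.lt_or_ge i 2 with h | h
      · exact absurd (by rw [hi, show i = 1 by omega, mul_one]) hne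
      · exact h
    obtain ⟨u, hu⟩ := (inferInstance : IsCyclic (ZMod p)ˣ).exists_generator
    have hsurj := (Function.Injective.bijective_of_nat_card_le hNinj (by
      rw [hcardprod, hi]; calc 2 * (p * q) = (p * q) * 2 := by ring
        _ ≤ _ := Nat.mul_le_mul le_rfl hi2)).2
    obtain ⟨g, hg⟩ := hsurj (u, 0)
    simp only [Prod.mk.injEq] at hg
    have hg1 : mul g.1 = (u : ZMod p) := congrArg Units.val hg.1
    have hgj : ∀ j, (((g : ↥G) : X)) • ((e j : ↥S) : Ω) = ((e ((u : ZMod p) * j) : ↥S) : Ω) := fun j => by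
      have h := hmul _ g.2 j
      rw [hg.2, zero_add, hg1] at h
      exact congrArg Subtype.val h
    have := sign_of_mult (π := (MulAction.toPerm ((g : ↥G) : X) : Equiv.Perm Ω)) hΩ (by omega) o
      (fun j => ((e j : ↥S) : Ω)) (Subtype.val_injective.comp e.injective)
      (fun x hx => ⟨e.symm ⟨x, hx⟩, congrArg Subtype.val (e.apply_symm_apply _)⟩) (fun j => (e j).2)
      (g : ↥G).2 u hu hgj
    rw [heven] at this
    exact absurd this (by decide)
  have hNhalf : 2 * Nat.card N = p * (p - 1) := by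
    rw [hNcard, show p - 1 = 2 * q by omega]; ring
  have hins : ¬ Group.IsSolvable ↥G := by
    intro hs
    obtain ⟨d, hd, hd'⟩ := card_of_solvable hS hs
    have hd2 : d ≤ p - 1 := Nat.le_of_dvd (by omega) hd'
    have htop := le_normalizer_of_card_lt (P : Subgroup ↥G) ⊤ hPcard le_top (by
      rw [Subgroup.card_top, hd, pow_two]; exact Nat.mul_lt_mul_of_pos_left (by omega) hp.out.pos)
    have hGc : Nat.card ↥G = p * q := by
      rw [← hNcard, hNdef, top_le_iff.mp htop, Subgroup.card_top]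
    exact hLX (Subgroup.eq_top_of_card_eq L (by rw [hLcard, hGX, hGc]))
  have four : IsMultiplyPretransitive ↥G ↥S 3 → IsMultiplyPretransitive X Ω 4 := fun h =>
    SubMulAction.ofStabilizer.isMultiplyPretransitive.mpr h
  by_cases hp4 : p % 4 = 3
  swap
  · exact four (three_transitive_of_mod_four hS hins P hNhalf (by omega))
  obtain ⟨C⟩ := exists_coords hS P hNhalf
  rcases three_transitive_or hS hins (by omega) C with h3 | h4
  · exact four h3
  exfalso
  have hqodd : Odd q := Nat.odd_iff.mpr (by omega)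
  let ee : ZMod p → Ω := fun j => ((e j : ↥S) : Ω)
  have hee : Function.Injective ee := Subtype.val_injective.comp e.injective
  have heo : ∀ j, ee j ≠ o := fun j => (e j).2
  have hrr : ∀ x, x ≠ o → ∃ j, ee j = x := fun x hx =>
    ⟨e.symm ⟨x, hx⟩, congrArg Subtype.val (e.apply_symm_apply _)⟩
  -- the stabilizer of the pair in `L`
  let x₂ : Fin 2 ↪ Ω := ⟨![o, ee 0], fun i j hij => by
    fin_cases i <;> fin_cases j <;> first
      | rfl
      | exact absurd hij (heo 0).symm
      | exact absurd hij (heo 0)⟩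
  have hH : ∀ l : L, l ∈ stabilizer L x₂ ↔ l • o = o ∧ l • ee 0 = ee 0 := by
    intro l
    rw [mem_stabilizer_iff]
    constructor
    · intro h
      exact ⟨DFunLike.congr_fun h 0, DFunLike.congr_fun h 1⟩
    · rintro ⟨h1, h2⟩
      ext i
      fin_cases i
      · exact h1
      · exact h2
  have hHcard : Nat.card ↥(stabilizer L x₂) = q := by
    have h := Subgroup.card_mul_index (stabilizer L x₂)
    haveI hLt' : IsPretransitive (↥L) (Fin 2 ↪ Ω) := hLt
    rw [@index_stabilizer_of_transitive _ _ _ _ x₂ hLt', Nat.card_eq_fintype_card (α := Fin 2 ↪ Ω),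
      Fintype.card_embedding_eq, hΩ, Fintype.card_fin, hLcard] at h
    rw [show (p + 1).descFactorial 2 = (p + 1) * p by simp [Nat.descFactorial_succ]; ring] at h
    exact Nat.eq_of_mul_eq_mul_left (show 0 < (p + 1) * p by positivity) (by linarith)
  have hHmul : ∀ l : ↥(stabilizer L x₂), ∃ k : (ZMod p)ˣ, ∀ j, (((l : L) : X)) • ee j = ee ((k : ZMod p) * j) := by
    intro l
    have hl := (hH l).mp l.2
    have hmem : (fL ⟨l, hl.1⟩) ∈ N := hRN ⟨_, rfl⟩
    refine ⟨Units.mk0 _ (hmul0 _ hmem), fun j => ?_⟩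
    have h := hmul _ hmem j
    have h0 : fL ⟨l, hl.1⟩ • e 0 = e 0 := Subtype.ext hl.2
    rw [h0, e.symm_apply_apply, zero_add] at h
    exact congrArg Subtype.val h
  choose kk hkk using hHmul
  let φ : ↥(stabilizer L x₂) →* (ZMod p)ˣ := MonoidHom.mk' kk (fun a b => by
    have h1 := hkk (a * b) 1
    have h2 : (((a * b : ↥(stabilizer L x₂)) : L) : X) • ee 1 = ee ((kk a : ZMod p) * ((kk b : ZMod p) * 1)) := by
      rw [← hkk a, ← hkk b, ← mul_smul]; rfl
    have := hee (h1.symm.trans h2)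
    simp only [mul_one] at this
    exact Units.ext (by rw [this, Units.val_mul]))
  have hφinj : Function.Injective φ := by
    intro a b hab
    refine Subtype.ext (Subtype.ext (eq_of_smul_eq_smul (α := Ω) fun x => ?_))
    rcases eq_or_ne x o with rfl | hx
    · exact ((hH a).mp a.2).1.trans ((hH b).mp b.2).1.symm
    · obtain ⟨j, rfl⟩ := hrr x hx
      rw [hkk a, hkk b, show kk a = kk b from hab]
  haveI : IsCyclic ↥(stabilizer L x₂) := isCyclic_of_injective φ hφinj
  obtain ⟨γ, hγ⟩ := (inferInstance : IsCyclic ↥(stabilizer L x₂)).exists_generator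
  have hordγ : orderOf γ = q := by rw [orderOf_eq_card_of_forall_mem_zpowers hγ, hHcard]
  -- the involution
  obtain ⟨w₀, hw₀o, hw₀z⟩ := hpairL o (ee 0) (ee 0) o (heo 0).symm (heo 0)
  have hw₀2 : w₀ * w₀ ∈ stabilizer L x₂ := (hH _).mpr
    ⟨by rw [mul_smul, hw₀o, hw₀z], by rw [mul_smul, hw₀z, hw₀o]⟩
  set n := orderOf (w₀ * w₀) with hn
  have hnq : n ∣ q := by
    rw [← hHcard, hn, ← Subgroup.orderOf_mk (a := w₀ * w₀) (ha := hw₀2)]
    exact orderOf_dvd_natCard _
  obtain ⟨j₀, hj₀⟩ := hqodd.of_dvd_nat hnq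
  set w : L := w₀ ^ n with hw
  have hw2 : w * w = 1 := by
    rw [hw, ← (Commute.refl w₀).mul_pow, hn, pow_orderOf_eq_one]
  have hwsw : w • o = ee 0 ∧ w • ee 0 = o := by
    have h1 : (w₀ * w₀) ^ j₀ ∈ stabilizer L x₂ := Subgroup.pow_mem _ hw₀2 _
    have h2 := (hH _).mp h1
    have : w = w₀ * (w₀ * w₀) ^ j₀ := by
      rw [hw, hj₀, pow_succ', pow_mul, pow_two]
    rw [this, mul_smul, mul_smul, h2.1, h2.2, hw₀o, hw₀z]
    exact ⟨rfl, rfl⟩
  have hwne : w ≠ 1 := fun h => heo 0 (by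
    have := hwsw.1
    rw [h, one_smul] at this
    exact this.symm)
  have hworder : orderOf w = 2 := orderOf_eq_prime (by rw [pow_two, hw2]) hwne
  have hwi : w⁻¹ = w := inv_eq_of_mul_eq_one_right hw2
  have hconj : w * (γ : L) * w ∈ stabilizer L x₂ := (hH _).mpr (by
    have hg := (hH _).mp γ.2
    constructor
    · rw [mul_smul, mul_smul, hwsw.1, hg.2, hwsw.2]
    · rw [mul_smul, mul_smul, hwsw.2, hg.1, hwsw.1])
  have hinvert : w * (γ : L) * w = (γ : L)⁻¹ := by
    set c := (γ : L) * (w * (γ : L) * w) with hc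
    have hcH : c ∈ stabilizer L x₂ := Subgroup.mul_mem _ γ.2 hconj
    have hcomm : (γ : L) * (w * (γ : L) * w) = (w * (γ : L) * w) * (γ : L) := by
      letI := IsCyclic.commGroup (α := ↥(stabilizer L x₂))
      exact congrArg Subtype.val (mul_comm γ ⟨_, hconj⟩)
    have hcw : c * w = w * c := by
      calc c * w = (w * (γ : L) * w) * (γ : L) * w := by rw [hc, hcomm]
        _ = w * ((γ : L) * (w * (γ : L) * w)) := by simp only [mul_assoc]
        _ = w * c := by rw [hc]
    obtain ⟨m, hm2, -, hm, -, ⟨iso⟩⟩ := Geometry.Dickson.invol_data (F := ZMod p) (by rw [ZMod.card]; exact hodd)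
      (x := eL w) (by rw [MulEquiv.orderOf_eq, hworder])
    rw [ZMod.card] at hm
    have hm' : 2 * m = p + 1 := by
      rcases hm with h | h
      · omega
      · exact h
    have hcmem : eL c ∈ Subgroup.centralizer ({eL w} : Set (Matrix.ProjectiveSpecialLinearGroup (Fin 2) (ZMod p))) := by
      rw [Subgroup.mem_centralizer_singleton_iff, ← map_mul, ← map_mul, hcw]
    have h1 : orderOf c ∣ p + 1 := by
      have := orderOf_dvd_natCard (⟨eL c, hcmem⟩ : Subgroup.centralizer ({eL w} : Set (Matrix.ProjectiveSpecialLinearGroup (Fin 2) (ZMod p))))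
      rwa [Subgroup.orderOf_mk, MulEquiv.orderOf_eq, Nat.card_congr iso.toEquiv, DihedralGroup.nat_card, hm'] at this
    have h2 : orderOf c ∣ q := by
      rw [← hHcard, ← Subgroup.orderOf_mk (a := c) (ha := hcH)]
      exact orderOf_dvd_natCard _
    have h3 : orderOf c ∣ 2 := by
      have := Nat.dvd_sub h1 (h2.mul_left 2)
      rwa [show p + 1 - 2 * q = 2 by omega] at this
    have h4 : orderOf c = 1 := by
      rcases (Nat.dvd_prime Nat.prime_two).mp h3 with h | h
      · exact h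
      · rw [h] at h2
        exact absurd (even_iff_two_dvd.mpr h2) (Nat.not_even_iff_odd.mpr hqodd)
    rw [orderOf_eq_one_iff, hc] at h4
    exact eq_inv_of_mul_eq_one_right h4
  have hkord : orderOf (kk γ) = q := by
    rw [← hordγ, ← orderOf_injective φ hφinj γ]; rfl
  -- the orbit facts
  have hval : ∀ (g : ↥G) (x : ↥S), ((g • x : ↥S) : Ω) = (g : X) • (x : Ω) := fun _ _ => rfl
  have horb : ∀ (y z z' : ↥S), (Quotient.mk'' z : orbitRel.Quotient ↥(stabilizer ↥G (e 0) ⊓ stabilizer ↥G y) ↥S) =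
      Quotient.mk'' z' → Orb X o (ee 0) (y : Ω) (z : Ω) (z' : Ω) := by
    intro y z z' h
    obtain ⟨g, hg⟩ := (orbitRel_apply.mp (Quotient.exact' h.symm) : z' ∈ orbit _ z)
    exact ⟨((g : ↥G) : X), (g : ↥G).2, congrArg Subtype.val g.2.1, congrArg Subtype.val g.2.2,
      congrArg Subtype.val hg⟩
  have hfix : ∀ (y z : ↥S), (Quotient.mk'' z : orbitRel.Quotient ↥(stabilizer ↥G (e 0) ⊓ stabilizer ↥G y) ↥S) =
      Quotient.mk'' (e 0) → z = e 0 := by
    intro y z h
    obtain ⟨g, hg⟩ := (orbitRel_apply.mp (Quotient.exact' h) : z ∈ orbit _ (e 0))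
    exact hg.symm.trans g.2.1
  have hfix' : ∀ (y z : ↥S), (Quotient.mk'' z : orbitRel.Quotient ↥(stabilizer ↥G (e 0) ⊓ stabilizer ↥G y) ↥S) =
      Quotient.mk'' y → z = y := by
    intro y z h
    obtain ⟨g, hg⟩ := (orbitRel_apply.mp (Quotient.exact' h) : z ∈ orbit _ y)
    exact hg.symm.trans g.2.2
  have hcard4 : ∀ y : ↥S, (y : Ω) ≠ ee 0 →
      Nat.card (orbitRel.Quotient ↥(stabilizer ↥G (e 0) ⊓ stabilizer ↥G y) ↥S) = 4 := fun y hy =>
    h4 _ _ fun h => hy (congrArg Subtype.val h.symm)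
  refine four_orbits_false hΩ hpq hqodd (by omega) heven o ee hee hrr heo ((γ : L) : X) (kk γ)
    ((hH _).mp γ.2).1 (hkk γ) hkord (w : X) hwsw.1 hwsw.2 (congrArg Subtype.val hw2)
    (congrArg Subtype.val hinvert) ?_ ?_ ?_ ?_
  · intro a b c d ha hb hc hd hab hcd
    obtain ⟨g, g1, g2⟩ := exists_pair hS hins (a := (⟨a, ha⟩ : ↥S)) (b := ⟨b, hb⟩) (c := ⟨c, hc⟩) (d := ⟨d, hd⟩)
      (fun h => hab (congrArg Subtype.val h)) (fun h => hcd (congrArg Subtype.val h))
    exact ⟨g, g.2, congrArg Subtype.val g1, congrArg Subtype.val g2⟩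
  · intro y hyo hy0
    by_contra hno
    push Not at hno
    have hc := hcard4 ⟨y, hyo⟩ hy0
    obtain ⟨z, hz⟩ : ∃ z : Ω, z ∉ ({o, ee 0, y} : Finset Ω) := by
      by_contra h
      push Not at h
      have h1 := Finset.card_le_card (fun z (_ : z ∈ (Finset.univ : Finset Ω)) => h z)
      rw [Finset.card_univ, hΩ] at h1
      have h2 : ({o, ee 0, y} : Finset Ω).card ≤ 3 := Finset.card_le_three
      omega
    simp only [Finset.mem_insert, Finset.mem_singleton, not_or] at hz
    have hsurj : Function.Surjective (fun i : Fin 3 =>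
        (Quotient.mk'' (![e 0, ⟨y, hyo⟩, ⟨z, hz.1⟩] i) :
          orbitRel.Quotient ↥(stabilizer ↥G (e 0) ⊓ stabilizer ↥G (⟨y, hyo⟩ : ↥S)) ↥S)) := by
      intro Q
      induction Q using Quotient.inductionOn' with
      | h u =>
        by_cases hu0 : u = e 0
        · exact ⟨0, by rw [hu0]; rfl⟩
        by_cases huy : u = ⟨y, hyo⟩
        · exact ⟨1, by rw [huy]; rfl⟩
        refine ⟨2, Quotient.sound' ?_⟩
        obtain ⟨g, g1, g2, g3, g4⟩ := hno z u ⟨hz.1, hz.2.1, hz.2.2⟩
          ⟨u.2, fun h => hu0 (Subtype.ext h), fun h => huy (Subtype.ext h)⟩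
        refine (orbitRel_apply).mpr (mem_orbit_symm.mp ?_)
        exact ⟨⟨⟨g, g1⟩, ⟨Subtype.ext g2, Subtype.ext g3⟩⟩, Subtype.ext g4⟩
    have := Nat.card_le_card_of_surjective _ hsurj
    rw [hc, Nat.card_fin] at this
    omega
  · intro y hyo hy0 z u v hz hu hv
    by_contra hno
    push Not at hno
    have hc := hcard4 ⟨y, hyo⟩ hy0
    let pts : Fin 5 → ↥S := ![e 0, ⟨y, hyo⟩, ⟨z, hz.1⟩, ⟨u, hu.1⟩, ⟨v, hv.1⟩]
    have hinj : Function.Injective (fun i : Fin 5 => (Quotient.mk'' (pts i) :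
        orbitRel.Quotient ↥(stabilizer ↥G (e 0) ⊓ stabilizer ↥G (⟨y, hyo⟩ : ↥S)) ↥S)) := by
      have n0 : ∀ {s : Ω} (hs : s ≠ o), s ≠ ee 0 → (⟨s, hs⟩ : ↥S) ≠ e 0 := fun hs h h' => h (congrArg Subtype.val h')
      have n1 : ∀ {s : Ω} (hs : s ≠ o), s ≠ y → (⟨s, hs⟩ : ↥S) ≠ ⟨y, hyo⟩ := fun hs h h' => h (congrArg Subtype.val h')
      intro i i' h
      fin_cases i <;> fin_cases i' <;> simp only [pts] at h <;> try rfl
      all_goals exfalso
      · exact n0 hyo hy0 (hfix _ _ h.symm)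
      · exact n0 hz.1 hz.2.1 (hfix _ _ h.symm)
      · exact n0 hu.1 hu.2.1 (hfix _ _ h.symm)
      · exact n0 hv.1 hv.2.1 (hfix _ _ h.symm)
      · exact n0 hyo hy0 (hfix _ _ h)
      · exact n1 hz.1 hz.2.2 (hfix' _ _ h.symm)
      · exact n1 hu.1 hu.2.2 (hfix' _ _ h.symm)
      · exact n1 hv.1 hv.2.2 (hfix' _ _ h.symm)
      · exact n0 hz.1 hz.2.1 (hfix _ _ h)
      · exact n1 hz.1 hz.2.2 (hfix' _ _ h)
      · exact hno.1 (horb _ _ _ h)
      · exact hno.2.1 (horb _ _ _ h)
      · exact n0 hu.1 hu.2.1 (hfix _ _ h)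
      · exact n1 hu.1 hu.2.2 (hfix' _ _ h)
      · exact hno.1 (horb _ _ _ h).symm
      · exact hno.2.2 (horb _ _ _ h)
      · exact n0 hv.1 hv.2.1 (hfix _ _ h)
      · exact n1 hv.1 hv.2.2 (hfix' _ _ h)
      · exact hno.2.1 (horb _ _ _ h).symm
      · exact hno.2.2 (horb _ _ _ h).symm
    have := Nat.card_le_card_of_injective _ hinj
    rw [hc, Nat.card_fin] at this
    omega
  · intro B β β' δ hβ hβ' hne hδ hδo hδ0 hBV hblk
    refine block_trivial hS hins C hp7 hp4 h4 (α := e 0) (β := ⟨β, (hBV β hβ).1⟩) (β' := ⟨β', (hBV β' hβ').1⟩)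
      (γ := ⟨δ, hδo⟩) {x : ↥S | (x : Ω) ∈ B} (fun h => (hBV _ h).2 rfl) hβ hβ'
      (fun h => hne (congrArg Subtype.val h)) (fun h => hδ0 (congrArg Subtype.val h)) hδ ?_
    intro g hg u hu hgu v hv
    exact hblk (g : X) g.2 (congrArg Subtype.val hg) _ hu hgu _ hv

end Cfsg.Agent.Lib.Perm.PrimeHalf
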