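import Cfsg.Agent.Lib.Perm.PrimeHalf.Orbits
import Mathlib.NumberTheory.LegendreSymbol.Basic

/-!
No linear space on `ZMod p`, invariant under translations and square multipliers, has a triply
homogeneous group of automorphisms off its lines.
-/

set_option autoImplicit false

namespace Cfsg.Agent.Lib.Perm.PrimeHalf

variable {p : ℕ} [hp : Fact p.Prime]

theorem zmod_natCast_ne_zero {n : ℕ} (h0 : 0 < n) (hn : n < p) : (n : ZMod p) ≠ 0 := fun h =>
  absurd (Nat.le_of_dvd h0 ((ZMod.natCast_eq_zero_iff n p).mp h)) (by omega)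

theorem tournament_small {F : Type*} [DecidableEq F] (L : Finset F) (r : F → F → Prop)
    (htot : ∀ x ∈ L, ∀ y ∈ L, x ≠ y → r x y ∨ r y x)
    (huniq : ∀ x ∈ L, ∀ y ∈ L, ∀ z ∈ L, x ≠ y → x ≠ z → y ≠ z → r x y → r x z → False) :
    L.card ≤ 3 := by
  by_contra h
  obtain ⟨S, hSL, hS⟩ := Finset.exists_subset_card_eq (show 4 ≤ L.card by omega)
  obtain ⟨a, b, c, d, hab, hac, had, hbc, hbd, hcd, rfl⟩ := Finset.card_eq_four.mp hS
  simp only [Finset.insert_subset_iff, Finset.singleton_subset_iff] at hSL
  obtain ⟨ha, hb, hc, hd⟩ := hSL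
  rcases htot a ha b hb hab with h1 | h1 <;> rcases htot a ha c hc hac with h2 | h2 <;>
    rcases htot a ha d hd had with h3 | h3 <;> rcases htot b hb c hc hbc with h4 | h4 <;>
    rcases htot b hb d hd hbd with h5 | h5 <;> rcases htot c hc d hd hcd with h6 | h6 <;>
    first
      | exact huniq a ha b hb c hc hab hac hbc h1 h2
      | exact huniq a ha b hb d hd hab had hbd h1 h3
      | exact huniq a ha c hc d hd hac had hcd h2 h3
      | exact huniq b hb a ha c hc hab.symm hbc hac h1 h4
      | exact huniq b hb a ha d hd hab.symm hbd had h1 h5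
      | exact huniq b hb c hc d hd hbc hbd hcd h4 h5
      | exact huniq c hc a ha b hb hac.symm hbc.symm hab h2 h4
      | exact huniq c hc a ha d hd hac.symm hcd had h2 h6
      | exact huniq c hc b hb d hd hbc.symm hcd hbd h4 h6
      | exact huniq d hd a ha b hb had.symm hbd.symm hab h3 h5
      | exact huniq d hd a ha c hc had.symm hcd.symm hac h3 h6
      | exact huniq d hd b hb c hc hbd.symm hcd.symm hbc h5 h6

theorem third_contra (hp7 : 7 < p) (hp4 : p % 4 = 3) (t : ZMod p) (ht : t ^ 2 - t + 1 = 0)
    (hχt : quadraticChar (ZMod p) t = -1) (th : ZMod p → ZMod p → ZMod p)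
    (hsq : ∀ x y, quadraticChar (ZMod p) (y - x) = 1 → th x y = x + t * (y - x))
    (hns : ∀ x y, quadraticChar (ZMod p) (y - x) = -1 → th x y = x + (1 - t) * (y - x))
    (hinv : ∀ c c', c ≠ 0 → c ≠ 1 → c ≠ t → c' ≠ 0 → c' ≠ 1 → c' ≠ t →
      ∃ a : ZMod p → ZMod p, a 0 = 0 ∧ a 1 = 1 ∧ a t = t ∧ a c = c' ∧
        ∀ x y, a (th x y) = th (a x) (a y)) :
    False := by
  set χ := quadraticChar (ZMod p) with hχ
  have hn : ∀ n : ℕ, 0 < n → n < p → (n : ZMod p) ≠ 0 := fun n => zmod_natCast_ne_zero
  have h2 : (2 : ZMod p) ≠ 0 := by exact_mod_cast hn 2 (by omega) (by omega)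
  have h3 : (3 : ZMod p) ≠ 0 := by exact_mod_cast hn 3 (by omega) (by omega)
  have h7 : (7 : ZMod p) ≠ 0 := by exact_mod_cast hn 7 (by omega) (by omega)
  have hc1 : χ (-1) = -1 := by
    rw [hχ, quadraticChar_neg_one_iff_not_isSquare, ZMod.exists_sq_eq_neg_one_iff]
    omega
  have hneg : ∀ a, χ (-a) = -χ a := fun a => by rw [← neg_one_mul a, map_mul, hc1, neg_one_mul]
  have hct : χ (1 - t) = -1 := by
    have h : χ t * χ (1 - t) = 1 := by
      rw [← map_mul, show t * (1 - t) = 1 by linear_combination -ht, map_one]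
    rw [hχt] at h
    omega
  have ht1 : (1 : ZMod p) + t ≠ 0 := fun h => h3 (by linear_combination ht - (t - 2) * h)
  have hc3 : χ 3 = -1 := by
    have h : χ ((1 + t) ^ 2) = 1 := quadraticChar_sq_one' ht1
    rw [show (1 + t) ^ 2 = 3 * t by linear_combination ht, map_mul, hχt] at h
    omega
  have hd : ∀ a : ZMod p, a ≠ 0 → χ a = 1 ∨ χ a = -1 := fun a ha => quadraticChar_dichotomy ha
  have hS : ∀ (x y r : ZMod p), χ (y - x) = 1 → x + t * (y - x) = r → th x y = r :=
    fun x y r h h' => (hsq x y h).trans h'
  have hN : ∀ (x y r : ZMod p), χ (y - x) = -1 → x + (1 - t) * (y - x) = r → th x y = r :=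
    fun x y r h h' => (hns x y h).trans h'
  have key : ∀ (f : ZMod p → ZMod p), (∀ a : ZMod p → ZMod p, a 0 = 0 → a 1 = 1 → a t = t →
        (∀ x y, a (th x y) = th (a x) (a y)) → ∀ c, a (f c) = f (a c)) →
      ∀ c c', c ≠ 0 → c ≠ 1 → c ≠ t → c' ≠ 0 → c' ≠ 1 → c' ≠ t → f c = c → f c' = c' := by
    intro f hf c c' a1 a2 a3 b1 b2 b3 h
    obtain ⟨a, e0, e1, et, ec, he⟩ := hinv c c' a1 a2 a3 b1 b2 b3
    rw [← ec, ← hf a e0 e1 et he c, h]
  rcases hd 2 h2 with hc2 | hc2
  · have hfix : th t (th 1 (th 0 (-t))) = -t := by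
      rw [hS 0 (-t) (1 - t) (by rw [sub_zero, hneg, hχt]; rfl) (by linear_combination -ht),
        hS 1 (1 - t) (2 - t) (by rw [show (1 : ZMod p) - t - 1 = -t by ring, hneg, hχt]; rfl)
          (by linear_combination -ht)]
      exact hN t (2 - t) (-t)
        (by rw [show (2 : ZMod p) - t - t = 2 * (1 - t) by ring, map_mul, hc2, hct]; rfl)
        (by linear_combination 2 * ht)
    have hne := key (fun c => th t (th 1 (th 0 c))) (fun a e0 e1 et he c => by simp [he, e0, e1, et])
      (-t) (1 - t) (fun h => h3 (by linear_combination 3 * ht + (3 * t - 3) * h))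
      (fun h => h3 (by linear_combination ht + (t - 2) * h))
      (fun h => h3 (by
        have h' : t = 0 := (mul_eq_zero.mp (show (2 : ZMod p) * t = 0 by linear_combination -h)).resolve_left h2
        linear_combination 3 * ht - (3 * t - 3) * h'))
      (fun h => h3 (by linear_combination 3 * ht + 3 * t * h))
      (fun h => h3 (by linear_combination 3 * ht + (3 * t - 3) * h))
      (fun h => h3 (by linear_combination 4 * ht + (2 * t - 1) * h)) hfix
    have s0 : th 0 (1 - t) = -t :=
      hN _ _ _ (by rw [sub_zero]; exact hct) (by linear_combination ht)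
    simp only [s0] at hne
    rcases hd _ ht1 with he | he
    · rw [hN 1 (-t) (t - 1) (by rw [show -t - 1 = -(1 + t) by ring, hneg, he])
          (by linear_combination ht),
        hN t (t - 1) (2 * t - 1) (by rw [show t - 1 - t = -1 by ring]; exact hc1)
          (by ring)] at hne
      exact h7 (by linear_combination 9 * ht - (3 * t - 1) * hne)
    · rw [hS 1 (-t) (2 - 2 * t) (by rw [show -t - 1 = -(1 + t) by ring, hneg, he]; rfl)
          (by linear_combination -ht)] at hne
      by_cases h0 : (2 : ZMod p) - 2 * t - t = 0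
      · exact h7 (by linear_combination 9 * ht + (3 * t - 1) * h0)
      rcases hd _ h0 with h | h
      · rw [hS t (2 - 2 * t) 3 h (by linear_combination -3 * ht)] at hne
        exact h7 (by linear_combination ht - (t - 3) * hne)
      · rw [hN t (2 - 2 * t) (-1 - t) h (by linear_combination 3 * ht)] at hne
        exact h2 (by linear_combination -hne)
  · have h3' : ∀ a b : ZMod p, 3 * a = b → χ a = -χ b := fun a b h => by
      rw [← h, map_mul, hc3]; ring
    have h30 : ∀ {a b : ZMod p}, 3 * a = 3 * b → a = b := fun h => mul_left_cancel₀ h3 h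
    rcases hd _ ht1 with he | he
    · set f := fun c => th 1 (th 0 (th 1 (th 0 (th 1 (th 0 c))))) with hf
      have hfix : f (1 - t) = 1 - t := by
        simp only [hf]
        rw [hN 0 (1 - t) (-t) (by rw [sub_zero]; exact hct) (by linear_combination ht),
          hN 1 (-t) (t - 1) (by rw [show -t - 1 = -(1 + t) by ring, hneg, he])
            (by linear_combination ht),
          hS 0 (t - 1) (-1) (by rw [sub_zero, show t - 1 = -(1 - t) by ring, hneg, hct]; rfl)
            (by linear_combination ht),
          hS 1 (-1) (1 - 2 * t) (by rw [show (-1 : ZMod p) - 1 = -2 by ring, hneg, hc2]; rfl)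
            (by ring),
          hS 0 (1 - 2 * t) (2 - t)
            (by rw [sub_zero, show (1 : ZMod p) - 2 * t = -(t * (1 + t)) by linear_combination ht,
              hneg, map_mul, hχt, he]; rfl)
            (by linear_combination -2 * ht)]
        exact hN 1 (2 - t) (1 - t)
          (by rw [show (2 : ZMod p) - t - 1 = 1 - t by ring]; exact hct) (by linear_combination ht)
      set c' : ZMod p := (-2 + 4 * t) / 3 with hc'
      have h' : 3 * c' = -2 + 4 * t := by rw [hc']; field_simp
      have hne := key f (fun a e0 e1 _ he c => by simp [hf, he, e0, e1]) (1 - t) c'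
        (fun h => h3 (by linear_combination 3 * ht + 3 * t * h))
        (fun h => h3 (by linear_combination 3 * ht + (3 * t - 3) * h))
        (fun h => h3 (by linear_combination 4 * ht + (2 * t - 1) * h))
        (fun h => h3 (by
          have : (2 * t - 1) * 2 = 0 := by linear_combination -h' + 3 * h
          have h'' := (mul_eq_zero.mp this).resolve_right h2
          linear_combination 4 * ht - (2 * t - 1) * h''))
        (fun h => by
          have h'' : 4 * t - 5 = 0 := by linear_combination -h' + 3 * h
          have : (21 : ZMod p) = 0 := by linear_combination 16 * ht - (4 * t + 1) * h''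
          rcases mul_eq_zero.mp (show (3 : ZMod p) * 7 = 0 by linear_combination this) with h | h
          · exact h3 h
          · exact h7 h)
        (fun h => h3 (by
          have h'' : t - 2 = 0 := by linear_combination -h' + 3 * h
          linear_combination ht - (t + 1) * h'')) hfix
      simp only [hf] at hne
      set y₁ : ZMod p := (2 + 2 * t) / 3 with hy₁
      have e₁ : 3 * y₁ = 2 + 2 * t := by rw [hy₁]; field_simp
      set y₂ : ZMod p := (1 + t) / 3 with hy₂
      have e₂ : 3 * y₂ = 1 + t := by rw [hy₂]; field_simp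
      set y₃ : ZMod p := (2 - t) / 3 with hy₃
      have e₃ : 3 * y₃ = 2 - t := by rw [hy₃]; field_simp
      set y₄ : ZMod p := (4 - 2 * t) / 3 with hy₄
      have e₄ : 3 * y₄ = 4 - 2 * t := by rw [hy₄]; field_simp
      set y₅ : ZMod p := (2 - 4 * t) / 3 with hy₅
      have e₅ : 3 * y₅ = 2 - 4 * t := by rw [hy₅]; field_simp
      rw [hN 0 c' y₁
          (by rw [sub_zero, h3' c' (2 * (t * (1 + t))) (by linear_combination h' - 2 * ht),
            map_mul, map_mul, hc2, hχt, he]; rfl)
          (h30 (by linear_combination (1 - t) * h' - e₁ - 4 * ht)),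
        hS 1 y₁ y₂
          (by rw [h3' (y₁ - 1) (t * (1 + t)) (by linear_combination e₁ - ht), map_mul, hχt, he]; rfl)
          (h30 (by linear_combination t * e₁ - e₂ + 2 * ht)),
        hN 0 y₂ y₃ (by rw [sub_zero, h3' y₂ _ e₂, he])
          (h30 (by linear_combination (1 - t) * e₂ - e₃ - ht)),
        hS 1 y₃ y₄
          (by rw [h3' (y₃ - 1) (-(1 + t)) (by linear_combination e₃), hneg, he]; rfl)
          (h30 (by linear_combination t * e₃ - e₄ - ht)),
        hN 0 y₄ y₅
          (by rw [sub_zero, h3' y₄ (2 * ((1 + t) * (1 - t))) (by linear_combination e₄ + 2 * ht),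
            map_mul, map_mul, hc2, hct, he]; rfl)
          (h30 (by linear_combination (1 - t) * e₄ - e₅ + 2 * ht))] at hne
      by_cases h0 : y₅ - 1 = 0
      · have h'' : 4 * t + 1 = 0 := by linear_combination e₅ - 3 * h0
        rcases mul_eq_zero.mp (show (3 : ZMod p) * 7 = 0 by
          linear_combination 16 * ht - (4 * t - 5) * h'') with h | h
        · exact h3 h
        · exact h7 h
      rcases hd _ h0 with h | h
      · rw [hsq 1 y₅ h] at hne
        have h'' : 9 * (1 - t) = 0 := by
          linear_combination 3 * hne + h' - t * e₅ + 4 * ht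
        exact h3 (((mul_eq_zero.mp (show (3 : ZMod p) * 3 = 0 by
          linear_combination 9 * ht + t * h'')).elim id id))
      · rw [hns 1 y₅ h] at hne
        have h'' : 3 * t = 0 := by linear_combination -3 * hne - h' + (1 - t) * e₅ + 4 * ht
        exact h3 (by linear_combination 3 * ht - (t - 1) * h'')
    · set f := fun c => th t (th 0 (th t (th 0 (th t (th 0 c))))) with hf
      have hfix : f (-1) = -1 := by
        simp only [hf]
        rw [hN 0 (-1) (-1 + t) (by rw [sub_zero]; exact hc1) (by ring),
          hN t (-1 + t) (-1 + 2 * t) (by rw [show -1 + t - t = -1 by ring]; exact hc1) (by ring),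
          hS 0 (-1 + 2 * t) (-2 + t)
            (by rw [sub_zero, show -1 + 2 * t = t * (1 + t) by linear_combination -ht, map_mul,
              hχt, he]; rfl)
            (by linear_combination 2 * ht),
          hS t (-2 + t) (-t) (by rw [show -2 + t - t = -2 by ring, hneg, hc2]; rfl) (by ring),
          hS 0 (-t) (1 - t) (by rw [sub_zero, hneg, hχt]; rfl) (by linear_combination -ht)]
        exact hN t (1 - t) (-1)
          (by rw [show 1 - t - t = -(t * (1 + t)) by linear_combination ht, hneg, map_mul, hχt,
            he]; rfl)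
          (by linear_combination 2 * ht)
      set c' : ZMod p := (4 - 2 * t) / 3 with hc'
      have h' : 3 * c' = 4 - 2 * t := by rw [hc']; field_simp
      have hne := key f (fun a e0 _ et he c => by simp [hf, he, e0, et]) (-1) c'
        (fun h => h3 (by linear_combination -3 * h))
        (fun h => h2 (by linear_combination -h))
        (fun h => h3 (by linear_combination ht + (t - 2) * h))
        (fun h => h3 (by
          have h'' := (mul_eq_zero.mp (show (2 : ZMod p) * (t - 2) = 0 by
            linear_combination h' - 3 * h)).resolve_left h2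
          linear_combination ht - (t + 1) * h''))
        (fun h => h3 (by
          have h'' : 2 * t - 1 = 0 := by linear_combination h' - 3 * h
          linear_combination 4 * ht - (2 * t - 1) * h''))
        (fun h => by
          have h'' : 5 * t - 4 = 0 := by linear_combination h' - 3 * h
          rcases mul_eq_zero.mp (show (3 : ZMod p) * 7 = 0 by
            linear_combination 25 * ht - (5 * t - 1) * h'') with h | h
          · exact h3 h
          · exact h7 h) hfix
      simp only [hf] at hne
      set y₁ : ZMod p := (2 + 2 * t) / 3 with hy₁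
      have e₁ : 3 * y₁ = 2 + 2 * t := by rw [hy₁]; field_simp
      set y₂ : ZMod p := (1 + t) / 3 with hy₂
      have e₂ : 3 * y₂ = 1 + t := by rw [hy₂]; field_simp
      set y₃ : ZMod p := (-1 + 2 * t) / 3 with hy₃
      have e₃ : 3 * y₃ = -1 + 2 * t := by rw [hy₃]; field_simp
      set y₄ : ZMod p := (-2 + 4 * t) / 3 with hy₄
      have e₄ : 3 * y₄ = -2 + 4 * t := by rw [hy₄]; field_simp
      set y₅ : ZMod p := (-4 + 2 * t) / 3 with hy₅
      have e₅ : 3 * y₅ = -4 + 2 * t := by rw [hy₅]; field_simp
      rw [hS 0 c' y₁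
          (by rw [sub_zero, h3' c' (2 * ((1 + t) * (1 - t))) (by linear_combination h' + 2 * ht),
            map_mul, map_mul, hc2, hct, he]; rfl)
          (h30 (by linear_combination t * h' - e₁ - 2 * ht)),
        hN t y₁ y₂
          (by rw [h3' (y₁ - t) ((1 + t) * (1 - t)) (by linear_combination e₁ + ht), map_mul, hct,
            he]; rfl)
          (h30 (by linear_combination (1 - t) * e₁ - e₂ + ht)),
        hS 0 y₂ y₃ (by rw [sub_zero, h3' y₂ _ e₂, he]; rfl)
          (h30 (by linear_combination t * e₂ - e₃ + ht)),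
        hN t y₃ y₄
          (by rw [h3' (y₃ - t) (-(1 + t)) (by linear_combination e₃), hneg, he]; rfl)
          (h30 (by linear_combination (1 - t) * e₃ - e₄ + ht)),
        hS 0 y₄ y₅
          (by rw [sub_zero, h3' y₄ (2 * (t * (1 + t))) (by linear_combination e₄ - 2 * ht),
            map_mul, map_mul, hc2, hχt, he]; rfl)
          (h30 (by linear_combination t * e₄ - e₅ + 4 * ht))] at hne
      by_cases h0 : y₅ - t = 0
      · have h'' : t + 4 = 0 := by linear_combination e₅ - 3 * h0
        rcases mul_eq_zero.mp (show (3 : ZMod p) * 7 = 0 by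
          linear_combination ht - (t - 5) * h'') with h | h
        · exact h3 h
        · exact h7 h
      rcases hd _ h0 with h | h
      · rw [hsq t y₅ h] at hne
        exact h3 (by linear_combination -3 * hne - h' + t * e₅ - ht)
      · rw [hns t y₅ h] at hne
        have h'' : 9 * (1 - t) = 0 := by
          linear_combination -3 * hne - h' + (1 - t) * e₅ + ht
        exact h3 (((mul_eq_zero.mp (show (3 : ZMod p) * 3 = 0 by
          linear_combination 9 * ht + t * h'')).elim id id))

theorem lines_contra (hp7 : 7 < p) (hp4 : p % 4 = 3) (O : ZMod p → ZMod p → Finset (ZMod p))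
    (hirr : ∀ x y, x ≠ y → x ∉ O x y ∧ y ∉ O x y) (hsymm : ∀ x y, x ≠ y → O x y = O y x)
    (hne : (O 0 1).Nonempty) (hnf : (O 0 1).card + 2 < p)
    (hline : ∀ x y, x ≠ y → ∀ z ∈ O x y,
      insert x (insert z (O x z)) = insert x (insert y (O x y)))
    (haff : ∀ s c : ZMod p, quadraticChar (ZMod p) s = 1 → ∀ x y, x ≠ y →
      O (s * x + c) (s * y + c) = (O x y).image (fun z => s * z + c))
    (hinv : ∀ c c', c ≠ 0 → c ≠ 1 → c ∉ O 0 1 → c' ≠ 0 → c' ≠ 1 → c' ∉ O 0 1 →
      ∃ a : ZMod p → ZMod p, Function.Injective a ∧ a 0 = 0 ∧ a 1 = 1 ∧ a c = c' ∧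
        ∀ x y, x ≠ y → O (a x) (a y) = (O x y).image a) :
    False := by
  classical
  set χ := quadraticChar (ZMod p) with hχ
  have hd : ∀ a : ZMod p, a ≠ 0 → χ a = 1 ∨ χ a = -1 := fun a ha => quadraticChar_dichotomy ha
  have hc1 : χ (-1) = -1 := by
    rw [hχ, quadraticChar_neg_one_iff_not_isSquare, ZMod.exists_sq_eq_neg_one_iff]
    omega
  have hneg : ∀ a, χ (-a) = -χ a := fun a => by rw [← neg_one_mul a, map_mul, hc1, neg_one_mul]
  set L : ZMod p → ZMod p → Finset (ZMod p) := fun x y => insert x (insert y (O x y)) with hL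
  have hLs : ∀ x y, x ≠ y → L x y = L y x := fun x y h => by
    simp only [hL, hsymm x y h, Finset.insert_comm]
  have hL1 : ∀ x y, x ≠ y → ∀ z ∈ L x y, z ≠ x → L x z = L x y := by
    intro x y h z hz hzx
    rcases Finset.mem_insert.mp hz with rfl | hz
    · exact absurd rfl hzx
    rcases Finset.mem_insert.mp hz with rfl | hz
    · rfl
    · exact hline x y h z hz
  have hL2 : ∀ x y, x ≠ y → ∀ z ∈ L x y, ∀ u ∈ L x y, z ≠ u → L z u = L x y := by
    intro x y h z hz u hu hzu
    by_cases hzx : z = x
    · subst hzx; exact hL1 z y h u hu hzu.symm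
    have h1 : L z x = L x y := (hLs z x hzx).trans (hL1 x y h z hz hzx)
    rw [← h1]
    exact hL1 z x hzx u (h1 ▸ hu) hzu.symm
  have himg : ∀ x y, χ (y - x) = 1 →
      O x y = (O 0 1).image (fun z => (y - x) * z + x) := fun x y h => by
    have := haff (y - x) x h 0 1 zero_ne_one
    rwa [mul_zero, zero_add, mul_one, sub_add_cancel] at this
  have hLimg : ∀ x y, χ (y - x) = 1 → L x y = (L 0 1).image (fun z => (y - x) * z + x) := by
    intro x y h
    simp only [hL, Finset.image_insert, himg x y h, mul_zero, zero_add, mul_one, sub_add_cancel]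
  set n := (L 0 1).card with hn
  set T := ∑ z ∈ L 0 1, z with hT
  have hn3 : n = (O 0 1).card + 2 := by
    obtain ⟨h0, h1⟩ := hirr 0 1 zero_ne_one
    rw [hn]
    simp only [hL]
    rw [Finset.card_insert_of_notMem (by simp [h0]), Finset.card_insert_of_notMem h1]
  have hn0 : (n : ZMod p) ≠ 0 := zmod_natCast_ne_zero (by omega) (by omega)
  have hsum : ∀ x y, χ (y - x) = 1 → ∑ z ∈ L x y, z = (y - x) * T + n * x := by
    intro x y h
    rw [hLimg x y h, Finset.sum_image, Finset.sum_add_distrib, ← Finset.mul_sum, Finset.sum_const,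
      nsmul_eq_mul, ← hn, ← hT]
    intro a _ b _ hab
    have hne' : y - x ≠ 0 := fun h0 => by rw [h0, MulChar.map_zero] at h; exact absurd h (by decide)
    exact mul_left_cancel₀ hne' (add_right_cancel hab)
  have hsum' : ∀ x y, χ (y - x) = -1 → ∑ z ∈ L x y, z = n * x + (y - x) * (n - T) := by
    intro x y h
    have hxy : x ≠ y := fun e => by rw [e, sub_self, MulChar.map_zero] at h; exact absurd h (by decide)
    rw [hLs x y hxy, hsum y x (by rw [← neg_sub, hneg, h]; rfl)]
    ring
  have hline0 : ∀ z ∈ L 0 1, ∀ u ∈ L 0 1, z ≠ u → ∑ v ∈ L z u, v = T := fun z hz u hu h => by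
    rw [hL2 0 1 zero_ne_one z hz u hu h]
  have h3 : n ≤ 3 := by
    by_cases hT0 : T = 0
    · refine tournament_small (L 0 1) (fun x y => χ (y - x) = -1) (fun x _ y _ h => ?_)
        (fun x hx y hy z hz hxy hxz hyz h1 h2 => ?_)
      · rcases hd (y - x) (sub_ne_zero.mpr (Ne.symm h)) with e | e
        · exact Or.inr (by rw [← neg_sub, hneg, e])
        · exact Or.inl e
      · have e1 := hline0 x hx y hy hxy
        rw [hsum' x y h1] at e1
        have e2 := hline0 x hx z hz hxz
        rw [hsum' x z h2, hT0] at e2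
        rw [hT0] at e1
        exact hyz (mul_right_cancel₀ hn0 (show y * (n : ZMod p) = z * n by linear_combination e1 - e2))
    · refine tournament_small (L 0 1) (fun x y => χ (y - x) = 1) (fun x _ y _ h => ?_)
        (fun x hx y hy z hz hxy hxz hyz h1 h2 => ?_)
      · rcases hd (y - x) (sub_ne_zero.mpr (Ne.symm h)) with e | e
        · exact Or.inl e
        · exact Or.inr (by rw [← neg_sub, hneg, e]; rfl)
      · have e1 := hline0 x hx y hy hxy
        rw [hsum x y h1] at e1
        have e2 := hline0 x hx z hz hxz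
        rw [hsum x z h2] at e2
        exact hyz (mul_right_cancel₀ hT0 (show y * T = z * T by linear_combination e1 - e2))
  obtain ⟨t, ht⟩ : ∃ t, O 0 1 = {t} := Finset.card_eq_one.mp (by
    have := Finset.card_pos.mpr hne
    omega)
  obtain ⟨ht0, ht1⟩ : (0 : ZMod p) ≠ t ∧ (1 : ZMod p) ≠ t := by
    have := hirr 0 1 zero_ne_one
    rwa [ht, Finset.mem_singleton, Finset.mem_singleton] at this
  set th : ZMod p → ZMod p → ZMod p := fun x y =>
    if χ (y - x) = 1 then x + t * (y - x) else x + (1 - t) * (y - x) with hth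
  have hO : ∀ x y, x ≠ y → O x y = {th x y} := by
    intro x y h
    rcases hd (y - x) (sub_ne_zero.mpr (Ne.symm h)) with e | e
    · rw [himg x y e, ht, Finset.image_singleton]
      simp only [hth, e, if_true]
      congr 1
      ring
    · have e' : χ (x - y) = 1 := by rw [← neg_sub, hneg, e]; rfl
      rw [hsymm x y h, himg y x e', ht, Finset.image_singleton]
      simp only [hth, e, if_neg (show ¬((-1 : ℤ) = 1) by decide)]
      congr 1
      ring
  have h01 : th 0 t = 1 := by
    have h := hline 0 1 zero_ne_one t (by rw [ht]; exact Finset.mem_singleton_self t)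
    have h1 : (1 : ZMod p) ∈ insert (0 : ZMod p) (insert t (O 0 t)) := by rw [h]; simp
    rw [hO 0 t ht0, Finset.mem_insert, Finset.mem_insert, Finset.mem_singleton] at h1
    rcases h1 with h1 | h1 | h1
    · exact absurd h1 one_ne_zero
    · exact absurd h1 ht1
    · exact h1.symm
  have hχt : χ t = -1 := by
    refine (hd t ht0.symm).resolve_left fun e => ?_
    simp only [hth, sub_zero, zero_add, e, if_true] at h01
    rcases mul_eq_zero.mp (show (t - 1) * (t + 1) = 0 by linear_combination h01) with h | h
    · exact ht1 (sub_eq_zero.mp h).symm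
    · rw [eq_neg_of_add_eq_zero_left h, hc1] at e
      exact absurd e (by decide)
  have hrel : t ^ 2 - t + 1 = 0 := by
    simp only [hth, sub_zero, zero_add, hχt, if_neg (show ¬((-1 : ℤ) = 1) by decide)] at h01
    linear_combination -h01
  refine third_contra hp7 hp4 t hrel hχt th (fun x y e => if_pos e) (fun x y e => if_neg ?_)
    (fun c c' a1 a2 a3 b1 b2 b3 => ?_)
  · rw [e]; decide
  obtain ⟨a, hinj, e0, e1, ec, hOa⟩ := hinv c c' a1 a2 (by rw [ht]; simpa using a3) b1 b2
    (by rw [ht]; simpa using b3)
  refine ⟨a, e0, e1, ?_, ec, fun x y => ?_⟩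
  · have h := hOa 0 1 zero_ne_one
    rw [e0, e1, ht, Finset.image_singleton, Finset.singleton_inj] at h
    exact h.symm
  · by_cases h : x = y
    · subst h; simp [hth]
    have h' := hOa x y h
    rw [hO x y h, hO _ _ (hinj.ne h), Finset.image_singleton, Finset.singleton_inj] at h'
    exact h'.symm

end Cfsg.Agent.Lib.Perm.PrimeHalf
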