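import Cfsg.Agent.Lib.Perm.PrimeHalf.Twin
import Cfsg.Agent.Lib.Perm.Jordan
import Mathlib.GroupTheory.SpecificGroups.Alternating

/-!
A Sylow `r`-subgroup of a pointwise stabilizer with two or three orbits of size `r`: commutators in
its normalizer, raised to the power `r`, are supported on the fixed points.
-/

set_option autoImplicit false

open MulAction
open scoped commutatorElement Pointwise

namespace Cfsg.Agent.Lib.Perm.PrimeHalf

variable {G : Type*} [Group G] [Finite G] {Ω : Type*} [MulAction G Ω] [FaithfulSMul G Ω]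
  [Fintype Ω] [DecidableEq Ω]

theorem comm_of_cyclic_image {A B : Type*} [Group A] [Group B] (N : Subgroup G) (π : N →* A)
    (ψ : N →* B) (hker : ∀ c, π c = 1 → ∀ n, Commute (ψ c) (ψ n)) (C : Subgroup A) [IsCyclic C]
    (g₁ g₂ : N) (h₁ : π g₁ ∈ C) (h₂ : π g₂ ∈ C) :
    π ⁅g₁, g₂⁆ = 1 ∧ ψ ⁅g₁, g₂⁆ = 1 := by
  obtain ⟨g₀, hg₀⟩ := IsCyclic.exists_generator (α := ↥((π.range ⊓ C).subgroupOf C))
  obtain ⟨⟨x, hxC⟩, hx⟩ := g₀
  obtain ⟨⟨a, ha⟩, -⟩ := Subgroup.mem_inf.mp (Subgroup.mem_subgroupOf.mp hx)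
  have hdec : ∀ g : N, π g ∈ C → ∃ (i : ℤ) (c : N), π c = 1 ∧ g = a ^ i * c := by
    intro g hg
    obtain ⟨i, hi⟩ := hg₀ ⟨⟨π g, hg⟩, Subgroup.mem_subgroupOf.mpr ⟨⟨g, rfl⟩, hg⟩⟩
    have hi' : x ^ i = π g := by simpa using congrArg (fun t : ↥((π.range ⊓ C).subgroupOf C) => ((t : C) : A)) hi
    exact ⟨i, (a ^ i)⁻¹ * g, by rw [map_mul, map_inv, map_zpow, ha, hi', inv_mul_cancel],
      (mul_inv_cancel_left _ _).symm⟩
  obtain ⟨i, c, hc, rfl⟩ := hdec g₁ h₁
  obtain ⟨j, d, hd, rfl⟩ := hdec g₂ h₂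
  constructor
  · rw [map_commutatorElement, map_mul, map_mul, hc, hd, mul_one, mul_one, map_zpow, map_zpow]
    exact commutatorElement_eq_one_iff_commute.mpr (Commute.zpow_zpow (Commute.refl _) _ _)
  · rw [map_commutatorElement]
    apply commutatorElement_eq_one_iff_commute.mpr
    rw [map_mul, map_mul, map_zpow, map_zpow]
    refine Commute.mul_left (Commute.mul_right ?_ ?_) (Commute.mul_right ?_ ?_)
    · exact Commute.zpow_zpow (Commute.refl _) _ _
    · exact ((hker d hd a).symm.zpow_left i)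
    · exact (hker c hc a).zpow_right j
    · exact hker c hc d

theorem mem_normalizer_of_conj_le (R : Subgroup G) (g : G) (h : ∀ x ∈ R, g * x * g⁻¹ ∈ R) :
    g ∈ Subgroup.normalizer (R : Set G) := by
  let f : R → R := fun x => ⟨g * x * g⁻¹, h x x.2⟩
  have hf : Function.Surjective f := Finite.surjective_of_injective fun x y hxy =>
    Subtype.ext (mul_left_cancel (mul_right_cancel (congrArg Subtype.val hxy)))
  refine Subgroup.mem_normalizer_iff.mpr fun x => ⟨h x, fun hx => ?_⟩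
  obtain ⟨⟨y, hy⟩, e⟩ := hf ⟨_, hx⟩
  have e' : g * y * g⁻¹ = g * x * g⁻¹ := congrArg Subtype.val e
  rwa [mul_left_cancel (mul_right_cancel e')] at hy

/-- An `r`-group induces a group of order `r` on an orbit of size `r`. -/
theorem restriction_eq_pow (O : Finset Ω) (R : Subgroup G) {r : ℕ} (hr : r.Prime) (u : G)
    (hu : u ∈ R) {w : Ω} (hwO : w ∈ O) (hne : u • w ≠ w) (hO : O.card = r)
    (hst : ∀ g ∈ R, ∀ v ∈ O, g • v ∈ O)
    (hRp : IsPGroup r R) :
    ∀ g ∈ R, (∃ n : ℕ, ∀ v ∈ O, g • v = u ^ n • v) ∧ ∀ v ∈ O, g ^ r • v = v := by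
  haveI : Fact r.Prime := ⟨hr⟩
  let ρ : R →* Equiv.Perm O :=
    { toFun := fun g => (MulAction.toPerm (g : G)).subtypePerm (fun v =>
        ⟨fun h => by simpa using hst _ (inv_mem g.2) _ h, fun h => hst _ g.2 _ h⟩)
      map_one' := Equiv.ext fun v => Subtype.ext (one_smul _ _)
      map_mul' := fun g h => Equiv.ext fun v => Subtype.ext (mul_smul (g : G) (h : G) (v : Ω)) }
  have hρu : ρ ⟨u, hu⟩ ≠ 1 := fun h => hne (congrArg Subtype.val (Equiv.congr_fun h ⟨w, hwO⟩))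
  obtain ⟨j, hj⟩ := IsPGroup.iff_card.mp (hRp.of_surjective ρ.rangeRestrict ρ.rangeRestrict_surjective)
  have hdvd : r ^ j ∣ r.factorial := by
    rw [← hj]
    refine (Subgroup.card_subgroup_dvd_card _).trans ?_
    rw [Nat.card_eq_fintype_card, Fintype.card_perm, Fintype.card_coe, hO]
  have hj1 : j ≤ 1 := by
    by_contra h
    exact Lib.Perm.not_sq_dvd_factorial ((pow_dvd_pow r (by omega : 2 ≤ j)).trans hdvd)
  have hpw : ∀ g : R, ρ g ^ r = 1 := fun g => by
    refine orderOf_dvd_iff_pow_eq_one.mp ?_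
    refine (Subgroup.orderOf_dvd_natCard ρ.range ⟨g, rfl⟩).trans ?_
    rw [hj]
    exact (pow_dvd_pow r hj1).trans (pow_one r).dvd
  have hord : orderOf (ρ ⟨u, hu⟩) = r := orderOf_eq_prime (hpw _) hρu
  have heq : Subgroup.zpowers (ρ ⟨u, hu⟩) = ρ.range := by
    refine Subgroup.eq_of_le_of_card_ge (Subgroup.zpowers_le.mpr ⟨_, rfl⟩) ?_
    rw [Nat.card_zpowers, hord, hj]
    exact (Nat.pow_le_pow_right hr.pos hj1).trans (pow_one r).le
  intro g hg
  have hm : ρ ⟨g, hg⟩ ∈ Subgroup.zpowers (ρ ⟨u, hu⟩) := heq ▸ ⟨_, rfl⟩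
  obtain ⟨n, hn⟩ := mem_powers_iff_mem_zpowers.mpr hm
  refine ⟨⟨n, fun v hv => ?_⟩, fun v hv => ?_⟩
  swap
  · have := hpw ⟨g, hg⟩
    rw [← map_pow] at this
    exact congrArg Subtype.val (Equiv.congr_fun this ⟨v, hv⟩)
  change ρ ⟨u, hu⟩ ^ n = ρ ⟨g, hg⟩ at hn
  rw [← map_pow] at hn
  exact (congrArg Subtype.val (Equiv.congr_fun hn ⟨v, hv⟩)).symm

/-- The conclusion needed from the normalizer of a Sylow subgroup. -/
structure Local (G : Type*) [Group G] {Ω : Type*} [MulAction G Ω] (T : Finset Ω) (r k : ℕ) where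
  N : Subgroup G
  mem : ∀ g ∈ N, ∀ z ∈ T, g • z ∈ T
  full : ∀ σ : Equiv.Perm T, ∃ g ∈ N, ∀ z : T, g • (z : Ω) = σ z
  Orb : Type
  fin : Fintype Orb
  dec : DecidableEq Orb
  cardOrb : Fintype.card Orb = k
  π : N →* Equiv.Perm Orb
  kill : ∀ (C : Subgroup (Equiv.Perm Orb)) [IsCyclic C] (g₁ g₂ : N), π g₁ ∈ C → π g₂ ∈ C →
    ∀ z ∉ T, ((⁅g₁, g₂⁆ : N) : G) ^ r • z = z

theorem exists_local (hno : ¬ alternatingGroup Ω ≤ (MulAction.toPermHom G Ω).range)
    [IsPreprimitive G Ω] (T : Finset Ω) {r k : ℕ} [hr : Fact r.Prime] (hr5 : 5 ≤ r) (hk2 : 2 ≤ k)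
    (hk3 : k ≤ 3) (hT3 : 3 ≤ T.card) (hcard : Tᶜ.card = k * r)
    (htr : ∀ x y : Ω, x ∉ T → y ∉ T → ∃ g : G, (∀ z ∈ T, g • z = z) ∧ g • x = y)
    (hfull : ∀ σ : Equiv.Perm T, ∃ g : G, ∀ z : T, g • (z : Ω) = σ z) :
    Nonempty (Local G T r k) := by
  classical
  have hΩ : Fintype.card Ω = T.card + k * r := by rw [← hcard, Finset.card_add_card_compl]
  have hpr : IsPreprimitive (MulAction.toPermHom G Ω).range Ω := by
    let f : Ω →ₑ[(MulAction.toPermHom G Ω).rangeRestrict] Ω := ⟨id, fun g x => rfl⟩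
    exact IsPreprimitive.of_surjective (f := f) Function.surjective_id
  -- no element moves exactly one orbit
  have hsmall : ∀ g : G, g ^ r = 1 → (∀ S : Finset Ω, S.card = r → (∀ z ∉ S, g • z = z) → g = 1) := by
    intro g hgr S hS hfix
    by_contra hg1
    refine hno ?_
    have hinj : Function.Injective (MulAction.toPermHom G Ω) := MulAction.toPerm_injective
    set P := MulAction.toPermHom G Ω g with hP
    have hord : orderOf P = r := by
      rw [hP, orderOf_injective _ hinj]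
      exact orderOf_eq_prime hgr hg1
    have hsupp : P.support ⊆ S := fun z hz => by
      by_contra hzS
      exact Equiv.Perm.mem_support.mp hz (hfix z hzS)
    have hcyc : P.IsCycle := Equiv.Perm.isCycle_of_prime_order (by rw [hord]; exact hr.out) (by
      rw [hord]; have := Finset.card_le_card hsupp; omega)
    refine alternatingGroup_le_of_prime_cycle _ hpr hr.out ?_ hcyc ?_ ⟨g, rfl⟩
    · have : 2 * r ≤ k * r := Nat.mul_le_mul_right r hk2
      omega
    · rw [← hcyc.orderOf, hord]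
  -- the pointwise stabilizer and its Sylow subgroup
  set F : Subgroup G := fixingSubgroup G (T : Set Ω) with hF
  have hmemF : ∀ {g}, g ∈ F ↔ ∀ z ∈ T, g • z = z := fun {g} => mem_fixingSubgroup_iff G
  obtain ⟨S⟩ : Nonempty (Sylow r F) := inferInstance
  set R : Subgroup G := (S : Subgroup F).map F.subtype with hR
  have hRF : R ≤ F := Subgroup.map_subtype_le _
  have hRp : IsPGroup r R := S.isPGroup'.map _
  have hnofix : ∀ z, z ∉ T → ∃ h ∈ R, h • z ≠ z := by
    intro z hz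
    by_contra hall
    push Not at hall
    have hle : (S : Subgroup F) ≤ stabilizer F z := fun h hh =>
      hall _ (Subgroup.mem_map_of_mem _ hh)
    have horb : orbit F z = (↑(Tᶜ) : Set Ω) := by
      ext w
      rw [Finset.mem_coe, Finset.mem_compl]
      constructor
      · rintro ⟨⟨g, hg⟩, rfl⟩ hw
        exact hz (by simpa [smul_left_cancel_iff] using (show g • z = z from
          smul_left_cancel g ((hmemF.mp hg _ hw).trans rfl)) ▸ hw)
      · intro hw
        obtain ⟨g, g1, g2⟩ := htr z w hz hw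
        exact ⟨⟨g, hmemF.mpr g1⟩, g2⟩
    have h1 : (stabilizer F z).index = k * r := by
      rw [index_stabilizer, horb, Set.ncard_coe_finset, hcard]
    exact S.not_dvd_index ((Dvd.intro_left k h1.symm).trans (Subgroup.index_dvd_of_le hle))
  -- orbits
  let orb : Ω → Finset Ω := fun z => Finset.univ.filter fun w => ∃ h ∈ R, h • z = w
  have horbmem : ∀ {z w}, w ∈ orb z ↔ ∃ h ∈ R, h • z = w := fun {z w} => by simp [orb]
  have hself : ∀ z, z ∈ orb z := fun z => horbmem.mpr ⟨1, one_mem _, one_smul _ _⟩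
  have horbeq : ∀ {z w}, w ∈ orb z → orb w = orb z := by
    intro z w hw
    obtain ⟨h, hh, rfl⟩ := horbmem.mp hw
    ext u
    rw [horbmem, horbmem]
    constructor
    · rintro ⟨h', hh', rfl⟩
      exact ⟨h' * h, mul_mem hh' hh, mul_smul _ _ _⟩
    · rintro ⟨h', hh', rfl⟩
      exact ⟨h' * h⁻¹, mul_mem hh' (inv_mem hh), by rw [mul_smul, inv_smul_smul]⟩
  have horbT : ∀ z, z ∉ T → orb z ⊆ Tᶜ := by
    intro z hz w hw
    obtain ⟨h, hh, rfl⟩ := horbmem.mp hw
    rw [Finset.mem_compl]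
    intro hw
    have h1 := hmemF.mp (hRF (inv_mem hh)) _ hw
    rw [inv_smul_smul] at h1
    exact hz (h1.symm ▸ hw)
  have horbcard : ∀ z, z ∉ T → (orb z).card = r := by
    intro z hz
    have hc : (orb z).card = Nat.card (orbit R z) := by
      rw [Nat.card_coe_set_eq, ← Set.ncard_coe_finset]
      congr 1
      ext w
      rw [Finset.mem_coe, horbmem]
      exact ⟨fun ⟨h, hh, e⟩ => ⟨⟨h, hh⟩, e⟩, fun ⟨⟨h, hh⟩, e⟩ => ⟨h, hh, e⟩⟩
    obtain ⟨n, hn⟩ := hRp.card_orbit (α := Ω) z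
    rw [← hc] at hn
    obtain ⟨h, hh, hne⟩ := hnofix z hz
    have h1 : 1 < (orb z).card :=
      Finset.one_lt_card.mpr ⟨z, hself z, h • z, horbmem.mpr ⟨h, hh, rfl⟩, hne.symm⟩
    have h2 : (orb z).card ≤ k * r := hcard ▸ Finset.card_le_card (horbT z hz)
    have h3 : k * r < r * r := Nat.mul_lt_mul_of_pos_right (by omega) hr.out.pos
    rcases n with _ | _ | n
    · simp at hn; omega
    · simpa using hn
    · exfalso
      have : r ^ 2 ≤ r ^ (n + 1 + 1) := Nat.pow_le_pow_right hr.out.pos (by omega)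
      rw [pow_two] at this
      omega
  have hres : ∀ z, z ∉ T → ∀ u ∈ R, u • z ≠ z → ∀ g ∈ R,
      (∃ n : ℕ, ∀ v ∈ orb z, g • v = u ^ n • v) ∧ ∀ v ∈ orb z, g ^ r • v = v :=
    fun z hz u hu hne => restriction_eq_pow (orb z) R hr.out u hu (hself z) hne (horbcard z hz)
      (fun g hg v hv => by
        obtain ⟨h₀, hh₀, rfl⟩ := horbmem.mp hv
        exact horbmem.mpr ⟨g * h₀, mul_mem hg hh₀, mul_smul _ _ _⟩) hRp
  have hexp : ∀ h ∈ R, ∀ z : Ω, h ^ r • z = z := by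
    intro h hh z
    by_cases hz : z ∈ T
    · exact hmemF.mp (hRF (pow_mem hh r)) z hz
    obtain ⟨u, hu, hne⟩ := hnofix z hz
    exact (hres z hz u hu hne h hh).2 z (hself z)
  have hexp' : ∀ h ∈ R, h ^ r = 1 := fun h hh =>
    eq_of_smul_eq_smul (α := Ω) fun z => by rw [hexp h hh z, one_smul]
  set O : Finset (Finset Ω) := Tᶜ.image orb with hO
  have hOcard : O.card = k := by
    have h := Finset.card_eq_sum_card_image orb Tᶜ
    rw [← hO, Finset.sum_congr rfl (g := fun _ => r) ?_, Finset.sum_const, smul_eq_mul, hcard] at h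
    · exact (Nat.eq_of_mul_eq_mul_right hr.out.pos h).symm
    intro S' hS'
    obtain ⟨z, hz, rfl⟩ := Finset.mem_image.mp hS'
    rw [Finset.mem_compl] at hz
    rw [show Tᶜ.filter (fun w => orb w = orb z) = orb z from ?_, horbcard z hz]
    ext w
    rw [Finset.mem_filter]
    exact ⟨fun h => h.2 ▸ hself w, fun h => ⟨horbT z hz h, horbeq h⟩⟩
  -- the action of the normalizer
  set N : Subgroup G := Subgroup.normalizer (R : Set G) with hN
  have hconj : ∀ g ∈ N, ∀ h ∈ R, g * h * g⁻¹ ∈ R := fun g hg h hh =>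
    (Subgroup.mem_normalizer_iff.mp hg h).mp hh
  have hNT : ∀ g ∈ N, ∀ z ∈ T, g • z ∈ T := by
    intro g hg z hz
    by_contra hgz
    obtain ⟨h, hh, hne⟩ := hnofix _ hgz
    refine hne ?_
    have := hmemF.mp (hRF (hconj g⁻¹ (inv_mem hg) h hh)) z hz
    rw [inv_inv, mul_smul, mul_smul, inv_smul_eq_iff] at this
    exact this
  have horbsmul : ∀ g ∈ N, ∀ z, (orb z).image (g • ·) = orb (g • z) := by
    intro g hg z
    ext w
    rw [Finset.mem_image, horbmem]
    constructor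
    · rintro ⟨u, hu, rfl⟩
      obtain ⟨h, hh, rfl⟩ := horbmem.mp hu
      exact ⟨g * h * g⁻¹, hconj g hg h hh, by rw [mul_smul, mul_smul, inv_smul_smul]⟩
    · rintro ⟨h, hh, rfl⟩
      refine ⟨g⁻¹ • h • g • z, horbmem.mpr ⟨g⁻¹ * h * g, ?_, ?_⟩, smul_inv_smul _ _⟩
      · simpa using hconj g⁻¹ (inv_mem hg) h hh
      · rw [mul_smul, mul_smul]
  have hOst : ∀ g ∈ N, ∀ S' ∈ O, S'.image (g • ·) ∈ O := by
    intro g hg S' hS'
    obtain ⟨z, hz, rfl⟩ := Finset.mem_image.mp hS'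
    rw [horbsmul g hg z]
    refine Finset.mem_image.mpr ⟨g • z, ?_, rfl⟩
    rw [Finset.mem_compl] at hz ⊢
    exact fun h => hz (by simpa using hNT g⁻¹ (inv_mem hg) _ h)
  let act : N → O → O := fun g S' => ⟨S'.1.image ((g : G) • ·), hOst g g.2 _ S'.2⟩
  have hact1 : ∀ S', act 1 S' = S' := fun S' => Subtype.ext (by simp [act])
  have hact2 : ∀ g g' S', act (g * g') S' = act g (act g' S') := fun g g' S' =>
    Subtype.ext (by simp [act, Finset.image_image, Function.comp_def, mul_smul])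
  let π₀ : N →* Equiv.Perm O :=
    { toFun := fun g => ⟨act g, act g⁻¹,
        fun S' => by rw [← hact2, inv_mul_cancel, hact1],
        fun S' => by rw [← hact2, mul_inv_cancel, hact1]⟩
      map_one' := Equiv.ext hact1
      map_mul' := fun g g' => Equiv.ext (hact2 g g') }
  let eO : O ≃ Fin k := O.equivFinOfCardEq hOcard
  let π : N →* Equiv.Perm (Fin k) := eO.permCongrHom.toMonoidHom.comp π₀
  let ψ : N →* MulAut R := R.normalizerMonoidHom
  have hψ : ∀ (g : N) (e : R), ((ψ g e : R) : G) = (g : G) * e * (g : G)⁻¹ := fun g e => rfl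
  have hπ₀ : ∀ c : N, π c = 1 → ∀ z, z ∉ T → (c : G) • z ∈ orb z := by
    intro c hc z hz
    have h1 : π₀ c = 1 := eO.permCongrHom.injective (by
      rw [map_one]; exact hc)
    have h2 := congrArg Subtype.val
      (Equiv.congr_fun h1 ⟨orb z, Finset.mem_image_of_mem _ (Finset.mem_compl.mpr hz)⟩)
    have h3 : orb ((c : G) • z) = orb z := (horbsmul c c.2 z).symm.trans h2
    exact h3 ▸ hself _
  -- kernel elements act on `R` by powers
  have hscalar : ∀ c : N, π c = 1 → ∃ l : ℕ, ∀ e : R, ψ c e = e ^ l := by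
    intro c hc
    have hTne : ∀ z, z ∉ T → ∀ h ∈ R, h • z = z → ∀ w ∈ orb z, (∀ h' ∈ R, Commute h h') → h • w = w := by
      intro z _ h _ e w hw hcm
      obtain ⟨h', hh', rfl⟩ := horbmem.mp hw
      rw [smul_smul, (hcm h' hh').eq, mul_smul, e]
    have hab : ∀ h ∈ R, ∀ h' ∈ R, h * h' = h' * h := by
      intro h hh h' hh'
      refine eq_of_smul_eq_smul (α := Ω) fun w => ?_
      by_cases hw : w ∈ T
      · rw [mul_smul, mul_smul, hmemF.mp (hRF hh') w hw, hmemF.mp (hRF hh) w hw,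
          hmemF.mp (hRF hh') w hw]
      obtain ⟨u, hu, hne⟩ := hnofix w hw
      -- restriction of `R` to the orbit
      obtain ⟨⟨m, hm⟩, -⟩ := hres w hw u hu hne h hh
      obtain ⟨⟨m', hm'⟩, -⟩ := hres w hw u hu hne h' hh'
      rw [mul_smul, mul_smul, hm' w (hself w), hm w (hself w),
        hm _ (horbmem.mpr ⟨u ^ m', pow_mem hu m', rfl⟩), hm' _ (horbmem.mpr ⟨u ^ m, pow_mem hu m, rfl⟩),
        smul_smul, smul_smul, ← pow_add, ← pow_add, add_comm]
    have hcm : ∀ h ∈ R, ∀ h' ∈ R, Commute h h' := hab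
    -- an element of `R` moving `z` reaches all of the orbit of `z`
    have hfixof : ∀ z, z ∉ T → ∀ u ∈ R, u • z ≠ z → ∀ e ∈ R, ∃ n : ℕ, (u ^ n)⁻¹ * e ∈ R ∧ e • z = u ^ n • z := by
      intro z hz u hu hne e he
      obtain ⟨⟨n, hn⟩, -⟩ := hres z hz u hu hne e he
      exact ⟨n, mul_mem (inv_mem (pow_mem hu n)) he, hn z (hself z)⟩
    by_cases hfree : ∀ h ∈ R, ∀ z : Ω, z ∉ T → h • z = z → h = 1
    · obtain ⟨z, hz⟩ : ∃ z, z ∉ T := by
        obtain ⟨z, hz⟩ := Finset.card_pos.mp (hcard ▸ Nat.mul_pos (by omega : 0 < k) hr.out.pos)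
        exact ⟨z, Finset.mem_compl.mp hz⟩
      obtain ⟨u, hu, hne⟩ := hnofix z hz
      have hall : ∀ e ∈ R, ∃ n : ℕ, e = u ^ n := fun e he => by
        obtain ⟨n, hn, hn'⟩ := hfixof z hz u hu hne e he
        exact ⟨n, (inv_mul_eq_one.mp (hfree _ hn z hz (by rw [mul_smul, hn', inv_smul_smul]))).symm⟩
      obtain ⟨l, hl⟩ := hall _ (ψ c ⟨u, hu⟩).2
      refine ⟨l, fun e => ?_⟩
      obtain ⟨n, hn⟩ := hall _ e.2
      have he : e = (⟨u, hu⟩ : R) ^ n := Subtype.ext hn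
      rw [he, map_pow, show ψ c ⟨u, hu⟩ = (⟨u, hu⟩ : R) ^ l from Subtype.ext hl, ← pow_mul, ← pow_mul,
        mul_comm]
    push Not at hfree
    obtain ⟨u, hu, z₁, hz₁, hu1, hune⟩ := hfree
    -- two orbits carry everything
    have hsep : ∀ h ∈ R, ∀ a b, a ∉ T → b ∉ T → orb a ≠ orb b → h • a = a → h • b = b → h = 1 := by
      intro h hh a b ha hb hab' e1 e2
      have hsub : orb a ∪ orb b ⊆ Tᶜ := Finset.union_subset (horbT a ha) (horbT b hb)
      have hd : Disjoint (orb a) (orb b) := Finset.disjoint_left.mpr fun x hx hx' =>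
        hab' ((horbeq hx).symm.trans (horbeq hx'))
      have hc2 : (Tᶜ \ (orb a ∪ orb b)).card ≤ r := by
        rw [Finset.card_sdiff_of_subset hsub, Finset.card_union_of_disjoint hd, horbcard a ha,
          horbcard b hb, hcard]
        have : k * r ≤ 3 * r := Nat.mul_le_mul_right r hk3
        omega
      have h2r : 2 * r ≤ k * r := Nat.mul_le_mul_right r hk2
      obtain ⟨S', hS1, hS2⟩ := Finset.exists_superset_card_eq hc2 (by rw [hΩ]; omega)
      refine hsmall h (hexp' h hh) S' hS2 fun w hw => ?_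
      by_cases hwT : w ∈ T
      · exact hmemF.mp (hRF hh) w hwT
      have hw' : w ∈ orb a ∪ orb b := by
        by_contra h'
        exact hw (hS1 (Finset.mem_sdiff.mpr ⟨Finset.mem_compl.mpr hwT, h'⟩))
      rcases Finset.mem_union.mp hw' with h' | h'
      · exact hTne a ha h hh e1 w h' (fun x hx => hcm h hh x hx)
      · exact hTne b hb h hh e2 w h' (fun x hx => hcm h hh x hx)
    have hmoved : ∀ z, z ∉ T → orb z ≠ orb z₁ → u • z ≠ z := fun z hz hne e =>
      hune (hsep u hu z₁ z hz₁ hz hne.symm hu1 e)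
    obtain ⟨z₂, hz₂, h12⟩ : ∃ z, z ∉ T ∧ orb z ≠ orb z₁ := by
      by_contra hall
      push Not at hall
      refine hune (hsmall u (hexp' u hu) (orb z₁) (horbcard z₁ hz₁) fun w hw => ?_)
      by_cases hwT : w ∈ T
      · exact hmemF.mp (hRF hu) w hwT
      exact absurd (hall w hwT ▸ hself w) hw
    obtain ⟨e₀, he₀, he₀ne⟩ := hnofix z₁ hz₁
    obtain ⟨n₀, hv, hn₀'⟩ := hfixof z₂ hz₂ u hu (hmoved z₂ hz₂ h12) e₀ he₀
    set v := (u ^ n₀)⁻¹ * e₀ with hvdef
    have hv2 : v • z₂ = z₂ := by rw [hvdef, mul_smul, hn₀', inv_smul_smul]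
    have hupow : ∀ n : ℕ, u ^ n • z₁ = z₁ := fun n => by
      induction n with
      | zero => rw [pow_zero, one_smul]
      | succ n ih => rw [pow_succ, mul_smul, hu1, ih]
    have hv1 : v • z₁ ≠ z₁ := by
      intro e
      rw [hvdef, mul_smul, inv_smul_eq_iff, hupow] at e
      exact he₀ne e
    obtain ⟨z₃, hz₃, h31, h32⟩ : ∃ z, z ∉ T ∧ orb z ≠ orb z₁ ∧ orb z ≠ orb z₂ := by
      by_contra hall
      push Not at hall
      refine hune (hsmall u (hexp' u hu) (orb z₂) (horbcard z₂ hz₂) fun w hw => ?_)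
      by_cases hwT : w ∈ T
      · exact hmemF.mp (hRF hu) w hwT
      by_cases h1 : orb w = orb z₁
      · exact hTne z₁ hz₁ u hu hu1 w (h1 ▸ hself w) (fun x hx => hcm u hu x hx)
      · exact absurd (hall w hwT h1 ▸ hself w) hw
    -- generation by `u` and `v`
    have hK1 : ∀ e ∈ R, e • z₁ = z₁ → ∃ n : ℕ, e = u ^ n := by
      intro e he e1
      obtain ⟨n, hn, hn'⟩ := hfixof z₂ hz₂ u hu (hmoved z₂ hz₂ h12) e he
      refine ⟨n, (inv_mul_eq_one.mp (hsep _ hn z₁ z₂ hz₁ hz₂ h12.symm ?_ ?_)).symm⟩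
      · rw [mul_smul, e1, inv_smul_eq_iff, hupow]
      · rw [mul_smul, hn', inv_smul_smul]
    have hK2 : ∀ e ∈ R, e • z₂ = z₂ → ∃ n : ℕ, e = v ^ n := by
      intro e he e2
      obtain ⟨n, hn, hn'⟩ := hfixof z₁ hz₁ v hv hv1 e he
      refine ⟨n, (inv_mul_eq_one.mp (hsep _ hn z₁ z₂ hz₁ hz₂ h12.symm ?_ ?_)).symm⟩
      · rw [mul_smul, hn', inv_smul_smul]
      · rw [mul_smul, e2, inv_smul_eq_iff]
        exact ((show ∀ m : ℕ, v ^ m • z₂ = z₂ from fun m => by
          induction m with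
          | zero => rw [pow_zero, one_smul]
          | succ m ih => rw [pow_succ, mul_smul, hv2, ih]) n).symm
    obtain ⟨a, ha, ha'⟩ := hfixof z₃ hz₃ u hu (hmoved z₃ hz₃ h31) v hv
    set w := (u ^ a)⁻¹ * v with hwdef
    have hw3 : w • z₃ = z₃ := by rw [hwdef, mul_smul, ha', inv_smul_smul]
    have hw1 : w • z₁ ≠ z₁ := by
      intro e
      rw [hwdef, mul_smul, inv_smul_eq_iff, hupow] at e
      exact hv1 e
    have hK3 : ∀ e ∈ R, e • z₃ = z₃ → ∃ n : ℕ, e = w ^ n := by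
      intro e he e3
      obtain ⟨n, hn, hn'⟩ := hfixof z₁ hz₁ w ha hw1 e he
      refine ⟨n, (inv_mul_eq_one.mp (hsep _ hn z₁ z₃ hz₁ hz₃ h31.symm ?_ ?_)).symm⟩
      · rw [mul_smul, hn', inv_smul_smul]
      · rw [mul_smul, e3, inv_smul_eq_iff]
        exact ((show ∀ m : ℕ, w ^ m • z₃ = z₃ from fun m => by
          induction m with
          | zero => rw [pow_zero, one_smul]
          | succ m ih => rw [pow_succ, mul_smul, hw3, ih]) n).symm
    have hfiximg : ∀ (e : R) (z : Ω), z ∉ T → (e : G) • z = z → ((ψ c e : R) : G) • z = z := by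
      intro e z hz he
      have hm : (c : G)⁻¹ • z ∈ orb z := hπ₀ c⁻¹ (by rw [map_inv, hc, inv_one]) z hz
      rw [hψ, mul_smul, mul_smul, hTne z hz _ e.2 he _ hm (fun x hx => hcm _ e.2 x hx), smul_inv_smul]
    obtain ⟨i, hi⟩ := hK1 _ (ψ c ⟨u, hu⟩).2 (hfiximg ⟨u, hu⟩ z₁ hz₁ hu1)
    obtain ⟨j, hj⟩ := hK2 _ (ψ c ⟨v, hv⟩).2 (hfiximg ⟨v, hv⟩ z₂ hz₂ hv2)
    obtain ⟨l, hl⟩ := hK3 _ (ψ c ⟨w, ha⟩).2 (hfiximg ⟨w, ha⟩ z₃ hz₃ hw3)
    -- compare on `w = u ^ (-a) * v`
    have hwR : (⟨w, ha⟩ : R) = ((⟨u, hu⟩ : R) ^ a)⁻¹ * ⟨v, hv⟩ := Subtype.ext rfl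
    have hE : (u ^ (i * a))⁻¹ * v ^ j = (u ^ (a * l))⁻¹ * v ^ l := by
      have h1 := hl
      rw [hwR, map_mul, map_inv, map_pow, Subgroup.coe_mul, Subgroup.coe_inv, Subgroup.coe_pow, hi, hj,
        ← pow_mul] at h1
      rw [h1, hwdef, (Commute.inv_left ((hcm u hu v hv).pow_left a)).mul_pow, inv_pow, ← pow_mul]
    have hE' : v ^ j * (v ^ l)⁻¹ = u ^ (i * a) * (u ^ (a * l))⁻¹ := by
      have h2 := congrArg (fun t => u ^ (i * a) * t * (v ^ l)⁻¹) hE
      simpa [mul_assoc] using h2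
    have hone : v ^ j = v ^ l ∧ u ^ (i * a) = u ^ (a * l) := by
      have h1 : v ^ j * (v ^ l)⁻¹ = 1 := by
        refine hsep _ (mul_mem (pow_mem hv j) (inv_mem (pow_mem hv l))) z₁ z₂ hz₁ hz₂ h12.symm ?_ ?_
        · rw [hE', mul_smul, inv_smul_eq_iff.mpr (hupow _).symm, hupow]
        · have hvp : ∀ m : ℕ, v ^ m • z₂ = z₂ := fun m => by
            induction m with
            | zero => rw [pow_zero, one_smul]
            | succ m ih => rw [pow_succ, mul_smul, hv2, ih]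
          rw [mul_smul, inv_smul_eq_iff.mpr (hvp _).symm, hvp]
      rw [h1] at hE'
      exact ⟨mul_inv_eq_one.mp h1, mul_inv_eq_one.mp hE'.symm⟩
    have hordu : orderOf u = r := orderOf_eq_prime (hexp' u hu) hune
    have hra : ¬ r ∣ a := by
      intro hra
      have : u ^ a = 1 := orderOf_dvd_iff_pow_eq_one.mp (hordu.symm ▸ hra)
      rw [hwdef, this, inv_one, one_mul] at hw3
      exact hv1 (by rw [hsep v hv z₂ z₃ hz₂ hz₃ h32.symm hv2 hw3, one_smul])
    have hil : u ^ i = u ^ l := by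
      have h2 := pow_eq_pow_iff_modEq.mp hone.2
      rw [hordu, mul_comm a l] at h2
      rw [pow_eq_pow_iff_modEq, hordu]
      exact Nat.ModEq.cancel_right_of_coprime ((hr.out.coprime_iff_not_dvd).mpr hra) h2
    refine ⟨l, fun e => ?_⟩
    obtain ⟨n, hn, hn'⟩ := hfixof z₂ hz₂ u hu (hmoved z₂ hz₂ h12) e e.2
    obtain ⟨m, hm⟩ := hK2 _ hn (by rw [mul_smul, hn', inv_smul_smul])
    have he : e = (⟨u, hu⟩ : R) ^ n * (⟨v, hv⟩ : R) ^ m := Subtype.ext (by
      simp only [Subgroup.coe_mul, Subgroup.coe_pow]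
      exact eq_mul_of_inv_mul_eq hm)
    apply Subtype.ext
    rw [he, map_mul, map_pow, map_pow]
    simp only [Subgroup.coe_mul, Subgroup.coe_pow]
    rw [hi, hj, hone.1, hil, ← pow_mul, ← pow_mul, ((hcm u hu v hv).pow_pow n m).mul_pow, ← pow_mul,
      ← pow_mul, mul_comm l n, mul_comm l m]
  refine ⟨⟨N, hNT, fun σ => ?_, Fin k, inferInstance, inferInstance, Fintype.card_fin k, π, ?_⟩⟩
  · obtain ⟨g, hg⟩ := hfull σ
    have hgT : ∀ z ∈ T, g • z ∈ T := fun z hz => hg ⟨z, hz⟩ ▸ (σ ⟨z, hz⟩).2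
    have hgF : ∀ h ∈ F, g * h * g⁻¹ ∈ F ∧ g⁻¹ * h * g ∈ F := by
      intro h hh
      refine ⟨hmemF.mpr fun z hz => ?_, hmemF.mpr fun z hz => ?_⟩
      · obtain ⟨w, hw⟩ := σ.surjective ⟨z, hz⟩
        have : g • (w : Ω) = z := by rw [hg w, hw]
        rw [← this, mul_smul, mul_smul, inv_smul_smul, hmemF.mp hh _ w.2]
      · rw [mul_smul, mul_smul, hmemF.mp hh _ (hgT z hz), inv_smul_smul]
    let cg : F ≃* F :=
      { toFun := fun h => ⟨g * h * g⁻¹, (hgF h h.2).1⟩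
        invFun := fun h => ⟨g⁻¹ * h * g, (hgF h h.2).2⟩
        left_inv := fun h => Subtype.ext (by group)
        right_inv := fun h => Subtype.ext (by group)
        map_mul' := fun h h' => Subtype.ext (by simp [mul_assoc]) }
    let S₂ : Sylow r F := S.mapSurjective (f := cg.toMonoidHom) cg.surjective
    obtain ⟨x, hx⟩ := MulAction.exists_smul_eq F S₂ S
    refine ⟨(x : G) * g, ?_, fun z => by rw [mul_smul, hg z, hmemF.mp x.2 _ (σ z).2]⟩
    have hmap : ∀ h ∈ R, ((x : G) * g) * h * ((x : G) * g)⁻¹ ∈ R := by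
      rintro _ ⟨h, hh, rfl⟩
      have h1 : cg h ∈ (S₂ : Subgroup F) := Subgroup.mem_map_of_mem _ hh
      have h2 : x * cg h * x⁻¹ ∈ (S : Subgroup F) := by
        rw [← hx]
        exact (Subgroup.mem_smul_pointwise_iff_exists _ (MulAut.conj x) _).mpr ⟨cg h, h1, rfl⟩
      refine ⟨_, h2, ?_⟩
      simp [cg, mul_assoc]
    exact mem_normalizer_of_conj_le R _ hmap
  · intro C hC g₁ g₂ h₁ h₂ z hz
    have hker : ∀ c, π c = 1 → ∀ n, Commute (ψ c) (ψ n) := fun c hc n => by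
      obtain ⟨l, hl⟩ := hscalar c hc
      refine MulEquiv.ext fun e => ?_
      show ψ c (ψ n e) = ψ n (ψ c e)
      rw [hl, hl, map_pow]
    obtain ⟨hπ1, hψ1⟩ := comm_of_cyclic_image N π ψ hker C g₁ g₂ h₁ h₂
    obtain ⟨h, hh, hhz⟩ := horbmem.mp (hπ₀ _ hπ1 z hz)
    set y : G := ((⁅g₁, g₂⁆ : N) : G) with hy
    have hcomm : y * h = h * y := by
      have := congrArg Subtype.val (DFunLike.congr_fun hψ1 ⟨h, hh⟩)
      rw [hψ, ← hy] at this
      exact mul_inv_eq_iff_eq_mul.mp this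
    have hpow : ∀ n : ℕ, y ^ n • z = h ^ n • z := by
      intro n
      induction n with
      | zero => rw [pow_zero, pow_zero]
      | succ n ih =>
        rw [pow_succ', mul_smul, ih, smul_smul,
          ((show Commute y h from hcomm).pow_right n).eq, mul_smul, ← hhz, smul_smul, ← pow_succ]
    rw [hpow r, hexp h hh z]

end Cfsg.Agent.Lib.Perm.PrimeHalf
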