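import Cfsg.Agent.Lib.Perm.PrimeHalf.Basic

/-!
Triple transitivity from a two-point stabilizer with a single further orbit.
-/

set_option autoImplicit false

open MulAction

namespace Cfsg.Agent.Lib.Perm.PrimeHalf

variable {G : Type*} [Group G] {Ω : Type*} [MulAction G Ω] {p : ℕ} [hp : Fact p.Prime]

/-- If the orbits are not four in number then the remaining points form one orbit. -/
theorem orbit_rest [Finite G] [FaithfulSMul G Ω] [Fintype Ω] (hΩ : Fintype.card Ω = p)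
    [IsPretransitive G Ω] (hins : ¬ Group.IsSolvable G) (hp2 : p ≠ 2) (C : Coords G Ω p) {α β : Ω} (hab : α ≠ β)
    (h4 : Nat.card (orbitRel.Quotient ↥(stabilizer G α ⊓ stabilizer G β) Ω) ≠ 4) {c d : Ω}
    (hca : c ≠ α) (hcb : c ≠ β) (hda : d ≠ α) (hdb : d ≠ β) :
    ∃ g ∈ stabilizer G α ⊓ stabilizer G β, g • c = d := by
  classical
  have hle := card_orbits_le_four hΩ hins hp2 C α β hab
  by_contra hno
  set H := stabilizer G α ⊓ stabilizer G β with hH
  let f : Fin 4 → orbitRel.Quotient ↥H Ω := fun i => Quotient.mk'' (![α, β, c, d] i)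
  have hmk : ∀ x y : Ω, (Quotient.mk'' x : orbitRel.Quotient ↥H Ω) = Quotient.mk'' y → ∃ g ∈ H, g • y = x := by
    intro x y hxy
    obtain ⟨g, hg⟩ := (orbitRel_apply.mp (Quotient.exact' hxy) : x ∈ orbit ↥H y)
    exact ⟨g, g.2, hg⟩
  have hfa : ∀ g ∈ H, g • α = α := fun g hg => hg.1
  have hfb : ∀ g ∈ H, g • β = β := fun g hg => hg.2
  have h01 : ∀ x y, (Quotient.mk'' x : orbitRel.Quotient ↥H Ω) = Quotient.mk'' y → (y = α ∨ y = β) → x = y := by
    intro x y hxy hy
    obtain ⟨g, hg, rfl⟩ := hmk x y hxy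
    rcases hy with rfl | rfl
    · exact hfa g hg
    · exact hfb g hg
  have hinj : Function.Injective f := by
    intro i j hij
    fin_cases i <;> fin_cases j <;> simp only [f] at hij <;> try rfl
    all_goals exfalso
    · exact hab (h01 _ _ hij (Or.inr rfl))
    · exact hca (h01 _ _ hij.symm (Or.inl rfl))
    · exact hda (h01 _ _ hij.symm (Or.inl rfl))
    · exact hab (h01 _ _ hij.symm (Or.inr rfl))
    · exact hcb (h01 _ _ hij.symm (Or.inr rfl))
    · exact hdb (h01 _ _ hij.symm (Or.inr rfl))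
    · exact hca (h01 _ _ hij (Or.inl rfl))
    · exact hcb (h01 _ _ hij (Or.inr rfl))
    · exact hno (hmk _ _ hij.symm)
    · exact hda (h01 _ _ hij (Or.inl rfl))
    · exact hdb (h01 _ _ hij (Or.inr rfl))
    · exact hno (hmk _ _ hij)
  have := Nat.card_le_card_of_injective f hinj
  rw [Nat.card_fin] at this
  omega

/-- One such pair gives triple transitivity. -/
theorem three_transitive_or [Finite G] [FaithfulSMul G Ω] [Fintype Ω] (hΩ : Fintype.card Ω = p)
    [IsPretransitive G Ω] (hins : ¬ Group.IsSolvable G) (hp2 : p ≠ 2) (C : Coords G Ω p) :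
    IsMultiplyPretransitive G Ω 3 ∨
    ∀ α β : Ω, α ≠ β → Nat.card (orbitRel.Quotient ↥(stabilizer G α ⊓ stabilizer G β) Ω) = 4 := by
  by_cases h : ∀ α β : Ω, α ≠ β → Nat.card (orbitRel.Quotient ↥(stabilizer G α ⊓ stabilizer G β) Ω) = 4
  · exact Or.inr h
  push Not at h
  obtain ⟨α, β, hab, h4⟩ := h
  refine Or.inl ⟨fun x y => ?_⟩
  have hne : ∀ (z : Fin 3 ↪ Ω) (i j : Fin 3), i ≠ j → z i ≠ z j := fun z i j h he => h (z.injective he)
  obtain ⟨g, hg0, hg1⟩ := exists_pair hΩ hins (hne x 0 1 (by decide)) hab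
  obtain ⟨k, hk0, hk1⟩ := exists_pair hΩ hins (hne y 0 1 (by decide)) hab
  have m : ∀ (z : Fin 3 ↪ Ω) (u : G), u • z 0 = α → u • z 1 = β → u • z 2 ≠ α ∧ u • z 2 ≠ β := fun z u h0 h1 =>
    ⟨fun h => hne z 2 0 (by decide) (smul_left_cancel u (h.trans h0.symm)),
     fun h => hne z 2 1 (by decide) (smul_left_cancel u (h.trans h1.symm))⟩
  obtain ⟨hx2, hx2'⟩ := m x g hg0 hg1
  obtain ⟨hy2, hy2'⟩ := m y k hk0 hk1
  obtain ⟨h, hh, hh2⟩ := orbit_rest hΩ hins hp2 C hab h4 hx2 hx2' hy2 hy2'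
  refine ⟨k⁻¹ * h * g, Function.Embedding.ext fun i => ?_⟩
  rw [Function.Embedding.smul_apply, mul_smul, mul_smul, inv_smul_eq_iff]
  fin_cases i
  · simp only [Fin.isValue, Fin.zero_eta, hg0, hk0]; exact hh.1
  · simp only [Fin.isValue, Fin.mk_one, hg1, hk1]; exact hh.2
  · exact hh2

end Cfsg.Agent.Lib.Perm.PrimeHalf
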