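import Cfsg.Agent.Lib.Perm.PrimeHalf.Lines
import Mathlib.GroupTheory.GroupAction.MultipleTransitivity

/-!
A point stabilizer with an imprimitive action would yield a linear space on `ZMod p`.
-/

set_option autoImplicit false

open MulAction

namespace Cfsg.Agent.Lib.Perm.PrimeHalf

variable {G : Type*} [Group G] {Ω : Type*} [MulAction G Ω] {p : ℕ} [hp : Fact p.Prime]

theorem exists_square_mult (C : Coords G Ω p) {s : ZMod p}
    (hs : quadraticChar (ZMod p) s = 1) : ∃ g : G, ∀ j, g • C.e j = C.e (s * j) := by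
  have hs0 : s ≠ 0 := fun h => by rw [h] at hs; simp at hs
  obtain ⟨r, hr⟩ := (quadraticChar_one_iff_isSquare hs0).mp hs
  have hν : ∃ g : G, ∀ j, g • C.e j = C.e (C.ν * C.ν * j) := by
    obtain ⟨k, ⟨g, hg⟩, hk | hk⟩ := C.mult (C.ν * C.ν) (mul_ne_zero C.ν_ne C.ν_ne)
    · exact ⟨g, fun j => by rw [hg, hk, mul_one]⟩
    · refine ⟨g * g, fun j => ?_⟩
      rw [mul_smul, hg, hg, mul_right_cancel₀ C.ν_ne hk, mul_assoc]
  have hr0 : r ≠ 0 := fun h => hs0 (by rw [hr, h, mul_zero])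
  obtain ⟨k, ⟨g, hg⟩, hk | hk⟩ := C.mult r hr0
  · exact ⟨g * g, fun j => by rw [mul_smul, hg, hg, hr, hk, mul_one, mul_assoc]⟩
  · obtain ⟨g', hg'⟩ := hν
    refine ⟨g * g * g', fun j => ?_⟩
    rw [mul_smul, mul_smul, hg', hg, hg, hr, hk]
    congr 1
    ring

/-- Two points have only two further orbits of their stabilizer. -/
theorem two_orbits [Finite G] [Fintype Ω] {x y : Ω} (hxy : x ≠ y)
    (h4 : Nat.card (orbitRel.Quotient ↥(stabilizer G x ⊓ stabilizer G y) Ω) = 4) {u v w : Ω}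
    (hu : u ≠ x ∧ u ≠ y) (hv : v ≠ x ∧ v ≠ y) (hw : w ≠ x ∧ w ≠ y) :
    ∃ g ∈ stabilizer G x ⊓ stabilizer G y, g • u = v ∨ g • u = w ∨ g • v = w := by
  classical
  set H := stabilizer G x ⊓ stabilizer G y with hH
  by_contra hno
  push Not at hno
  let f : Fin 5 → orbitRel.Quotient ↥H Ω := fun i => Quotient.mk'' (![x, y, u, v, w] i)
  have hmk : ∀ a b : Ω, (Quotient.mk'' a : orbitRel.Quotient ↥H Ω) = Quotient.mk'' b →
      ∃ g ∈ H, g • b = a := by
    intro a b hab
    obtain ⟨g, hg⟩ := (orbitRel_apply.mp (Quotient.exact' hab) : a ∈ orbit ↥H b)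
    exact ⟨g, g.2, hg⟩
  have hfix : ∀ a b, (Quotient.mk'' a : orbitRel.Quotient ↥H Ω) = Quotient.mk'' b →
      b = x ∨ b = y → a = b := by
    intro a b hab hb
    obtain ⟨g, hg, rfl⟩ := hmk a b hab
    rcases hb with rfl | rfl
    · exact hg.1
    · exact hg.2
  have hne : ∀ a b, (Quotient.mk'' b : orbitRel.Quotient ↥H Ω) = Quotient.mk'' a →
      (∀ g ∈ H, g • a ≠ b) → False := fun a b h h' => by
    obtain ⟨g, hg, e⟩ := hmk b a h
    exact h' g hg e
  have hinj : Function.Injective f := by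
    intro i j hij
    fin_cases i <;> fin_cases j <;>
      simp only [f, Fin.isValue, Fin.zero_eta, Fin.mk_one, Fin.reduceFinMk, Matrix.cons_val_zero,
        Matrix.cons_val_one, Matrix.cons_val] at hij <;> try rfl
    all_goals exfalso
    all_goals first
      | exact hxy (hfix _ _ hij (Or.inr rfl))
      | exact hxy (hfix _ _ hij (Or.inl rfl)).symm
      | exact hu.1 (hfix _ _ hij (Or.inl rfl))
      | exact hu.1 (hfix _ _ hij.symm (Or.inl rfl))
      | exact hu.2 (hfix _ _ hij (Or.inr rfl))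
      | exact hu.2 (hfix _ _ hij.symm (Or.inr rfl))
      | exact hv.1 (hfix _ _ hij (Or.inl rfl))
      | exact hv.1 (hfix _ _ hij.symm (Or.inl rfl))
      | exact hv.2 (hfix _ _ hij (Or.inr rfl))
      | exact hv.2 (hfix _ _ hij.symm (Or.inr rfl))
      | exact hw.1 (hfix _ _ hij (Or.inl rfl))
      | exact hw.1 (hfix _ _ hij.symm (Or.inl rfl))
      | exact hw.2 (hfix _ _ hij (Or.inr rfl))
      | exact hw.2 (hfix _ _ hij.symm (Or.inr rfl))
      | exact hne u v hij (fun g hg => (hno g hg).1)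
      | exact hne u v hij.symm (fun g hg => (hno g hg).1)
      | exact hne u w hij (fun g hg => (hno g hg).2.1)
      | exact hne u w hij.symm (fun g hg => (hno g hg).2.1)
      | exact hne v w hij (fun g hg => (hno g hg).2.2)
      | exact hne v w hij.symm (fun g hg => (hno g hg).2.2)
  have := Nat.card_le_card_of_injective f hinj
  rw [Nat.card_fin] at this
  omega

theorem block_trivial [Finite G] [FaithfulSMul G Ω] [Fintype Ω] (hΩ : Fintype.card Ω = p)
    [IsPretransitive G Ω] (hins : ¬ Group.IsSolvable G) (C : Coords G Ω p) (hp7 : 7 < p)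
    (hp4 : p % 4 = 3)
    (h4 : ∀ α β : Ω, α ≠ β →
      Nat.card (orbitRel.Quotient ↥(stabilizer G α ⊓ stabilizer G β) Ω) = 4)
    {α β β' γ : Ω} (B : Set Ω) (hαB : α ∉ B) (hβ : β ∈ B) (hβ' : β' ∈ B) (hββ' : β' ≠ β)
    (hγα : γ ≠ α) (hγB : γ ∉ B)
    (hblk : ∀ g : G, g • α = α → ∀ u ∈ B, g • u ∈ B → ∀ v ∈ B, g • v ∈ B) : False := by
  classical
  have hab : α ≠ β := fun h => hαB (h ▸ hβ)
  let Oset : Ω → Ω → Finset Ω := fun x y => Finset.univ.filter fun z =>
    ∃ g : G, g • α = x ∧ g • β = y ∧ g⁻¹ • z ∈ B ∧ g⁻¹ • z ≠ β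
  have hmem : ∀ {x y z}, z ∈ Oset x y ↔
      ∃ g : G, g • α = x ∧ g • β = y ∧ g⁻¹ • z ∈ B ∧ g⁻¹ • z ≠ β := fun {x y z} => by
    simp [Oset]
  have hstab : ∀ h : G, h • α = α → h • β = β → ∀ v ∈ B, h • v ∈ B := fun h h1 h2 =>
    hblk h h1 β hβ (by rwa [h2])
  have hbase : ∀ z, z ∈ Oset α β ↔ z ∈ B ∧ z ≠ β := by
    intro z
    rw [hmem]
    refine ⟨?_, fun h => ⟨1, one_smul _ _, one_smul _ _, by simpa using h⟩⟩
    rintro ⟨g, h1, h2, h3, h5⟩
    exact ⟨by simpa using hstab g h1 h2 _ h3, fun e => h5 (by rw [inv_smul_eq_iff, h2, e])⟩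
  have hequiv : ∀ (g : G) (x y : Ω), Oset (g • x) (g • y) = (Oset x y).image (g • ·) := by
    intro g x y
    ext z
    rw [hmem, Finset.mem_image]
    constructor
    · rintro ⟨k, h1, h2, h3⟩
      refine ⟨g⁻¹ • z, hmem.mpr ⟨g⁻¹ * k, ?_, ?_, ?_⟩, smul_inv_smul g z⟩
      · rw [mul_smul, h1, inv_smul_smul]
      · rw [mul_smul, h2, inv_smul_smul]
      · rw [mul_inv_rev, inv_inv, mul_smul, smul_inv_smul]; exact h3
    · rintro ⟨w, hw, rfl⟩
      obtain ⟨k, h1, h2, h3⟩ := hmem.mp hw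
      exact ⟨g * k, by rw [mul_smul, h1], by rw [mul_smul, h2],
        by rw [mul_inv_rev, mul_smul, inv_smul_smul]; exact h3⟩
  have hirr : ∀ x y, ∀ z ∈ Oset x y, z ≠ x ∧ z ≠ y := by
    intro x y z hz
    obtain ⟨k, h1, h2, h3, h5⟩ := hmem.mp hz
    refine ⟨fun e => hαB ?_, fun e => h5 (by rw [e, ← h2, inv_smul_smul])⟩
    rwa [e, ← h1, inv_smul_smul] at h3
  have hγO : γ ∉ Oset α β := fun h => hγB ((hbase γ).mp h).1
  have hγ : γ ≠ α ∧ γ ≠ β := ⟨hγα, fun e => hγB (e ▸ hβ)⟩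
  -- `Oset α β` and its complement are single orbits
  have hin : ∀ u ∈ Oset α β, ∀ v ∈ Oset α β, ∃ g : G, g • α = α ∧ g • β = β ∧ g • u = v := by
    intro u hu v hv
    obtain ⟨g, ⟨g1, g2⟩, h | h | h⟩ := two_orbits hab (h4 α β hab) (hirr _ _ u hu) (hirr _ _ v hv) hγ
    · exact ⟨g, g1, g2, h⟩
    · exact absurd (h ▸ hstab g g1 g2 u ((hbase u).mp hu).1) hγB
    · exact absurd (h ▸ hstab g g1 g2 v ((hbase v).mp hv).1) hγB
  have hout : ∀ u, u ≠ α → u ≠ β → u ∉ Oset α β → ∀ v, v ≠ α → v ≠ β → v ∉ Oset α β →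
      ∃ g : G, g • α = α ∧ g • β = β ∧ g • u = v := by
    intro u u1 u2 u3 v v1 v2 v3
    have hb : β' ∈ Oset α β := (hbase β').mpr ⟨hβ', hββ'⟩
    have hno : ∀ g : G, g • α = α → g • β = β → ∀ w, w ≠ β → w ∉ Oset α β → g • w ≠ β' := by
      intro g g1 g2 w w1 w2 e
      refine w2 ((hbase w).mpr ⟨?_, w1⟩)
      have := hstab g⁻¹ (by rw [inv_smul_eq_iff, g1]) (by rw [inv_smul_eq_iff, g2]) β' hβ'
      rwa [← e, inv_smul_smul] at this
    obtain ⟨g, ⟨g1, g2⟩, h | h | h⟩ := two_orbits hab (h4 α β hab) ⟨u1, u2⟩ ⟨v1, v2⟩ (hirr _ _ β' hb)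
    · exact ⟨g, g1, g2, h⟩
    · exact absurd h (hno g g1 g2 u u2 u3)
    · exact absurd h (hno g g1 g2 v v2 v3)
  have hcard : (Finset.univ.filter fun z : Ω => z ≠ α ∧ z ≠ β).card + 2 = p := by
    have : (Finset.univ.filter fun z : Ω => z ≠ α ∧ z ≠ β) = ({α, β} : Finset Ω)ᶜ := by
      ext z; simp
    rw [this, Finset.card_compl, Finset.card_pair hab, hΩ]
    omega
  obtain ⟨σ, hσ1, hσ2⟩ := exists_pair hΩ hins hab hab.symm
  have hT : Oset β α = (Oset α β).image (σ • ·) := by rw [← hequiv, hσ1, hσ2]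
  have hsymm0 : Oset β α = Oset α β := by
    have hTc : (Oset β α).card = (Oset α β).card := by
      rw [hT, Finset.card_image_of_injective _ (MulAction.injective σ)]
    have hTst : ∀ g : G, g • α = α → g • β = β → ∀ z ∈ Oset β α, g • z ∈ Oset β α := by
      intro g g1 g2 z hz
      have := hequiv g β α
      rw [g1, g2] at this
      rw [this]
      exact Finset.mem_image_of_mem _ hz
    by_cases hI : ∃ z ∈ Oset β α, z ∈ Oset α β
    · obtain ⟨z, hz1, hz2⟩ := hI
      refine (Finset.eq_of_subset_of_card_le (fun v hv => ?_) hTc.le).symm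
      obtain ⟨g, g1, g2, rfl⟩ := hin z hz2 v hv
      exact hTst g g1 g2 z hz1
    · push Not at hI
      exfalso
      obtain ⟨z, hz⟩ : (Oset β α).Nonempty := by
        rw [hT]; exact ⟨_, Finset.mem_image_of_mem _ ((hbase β').mpr ⟨hβ', hββ'⟩)⟩
      have he : (Finset.univ.filter fun z : Ω => z ≠ α ∧ z ≠ β) = Oset α β ∪ Oset β α := by
        ext w
        simp only [Finset.mem_filter, Finset.mem_univ, true_and, Finset.mem_union]
        constructor
        · rintro ⟨w1, w2⟩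
          by_cases hw : w ∈ Oset α β
          · exact Or.inl hw
          obtain ⟨g, g1, g2, rfl⟩ :=
            hout z (hirr _ _ z hz).2 (hirr _ _ z hz).1 (hI z hz) w w1 w2 hw
          exact Or.inr (hTst g g1 g2 z hz)
        · rintro (hw | hw)
          · exact hirr _ _ w hw
          · exact (hirr _ _ w hw).symm
      rw [he, Finset.card_union_of_disjoint (Finset.disjoint_left.mpr fun w h1 h2 => hI w h2 h1),
        hTc] at hcard
      omega
  have hsymm : ∀ x y, x ≠ y → Oset x y = Oset y x := by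
    intro x y h
    obtain ⟨g, rfl, rfl⟩ := exists_pair hΩ hins hab h
    rw [hequiv, hequiv, hsymm0]
  have hline : ∀ x y, x ≠ y → ∀ z ∈ Oset x y,
      insert x (insert z (Oset x z)) = insert x (insert y (Oset x y)) := by
    intro x y h z hz
    obtain ⟨g, rfl, rfl⟩ := exists_pair hΩ hins hab h
    rw [hequiv, Finset.mem_image] at hz
    obtain ⟨w, hw, rfl⟩ := hz
    obtain ⟨h', h1, h2⟩ := exists_pair hΩ hins hab (hirr _ _ w hw).1.symm
    suffices hs : insert w (Oset α w) = insert β (Oset α β) by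
      simp only [hequiv, ← Finset.image_insert]
      rw [hs]
    rw [← h2]
    conv_lhs => rw [← h1, h1, show Oset α (h' • β) = Oset (h' • α) (h' • β) by rw [h1], hequiv,
      ← Finset.image_insert]
    have hB : insert β (Oset α β) = Finset.univ.filter (fun v => v ∈ B) := by
      ext v
      rw [Finset.mem_insert, hbase, Finset.mem_filter]
      by_cases hv : v = β <;> simp [hv, hβ]
    rw [hB]
    ext v
    have hwB := ((hbase w).mp hw).1
    simp only [Finset.mem_image, Finset.mem_filter, Finset.mem_univ, true_and]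
    constructor
    · rintro ⟨u, hu, rfl⟩
      exact hblk h' h1 β hβ (h2.symm ▸ hwB) u hu
    · intro hv
      refine ⟨h'⁻¹ • v, hblk h'⁻¹ (by rw [inv_smul_eq_iff, h1]) w hwB ?_ v hv, smul_inv_smul _ _⟩
      rw [← h2, inv_smul_smul]
      exact hβ
  -- transport to coordinates
  obtain ⟨g₀, hg0, hg1⟩ := exists_pair hΩ hins hab
    (show C.e 0 ≠ C.e 1 from fun h => zero_ne_one (C.e.injective h))
  have hO01 : Oset (C.e 0) (C.e 1) = (Oset α β).image (g₀ • ·) := by rw [← hequiv, hg0, hg1]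
  refine lines_contra hp7 hp4 (fun x y => (Oset (C.e x) (C.e y)).image C.e.symm) ?_ ?_ ?_ ?_ ?_ ?_ ?_
  · intro x y _
    constructor <;> intro h <;> obtain ⟨z, hz, he⟩ := Finset.mem_image.mp h <;>
      rw [Equiv.symm_apply_eq] at he
    · exact (hirr _ _ z hz).1 he
    · exact (hirr _ _ z hz).2 he
  · exact fun x y h => congrArg _ (hsymm _ _ (C.e.injective.ne h))
  · rw [hO01]
    exact ((Finset.Nonempty.image ⟨β', (hbase β').mpr ⟨hβ', hββ'⟩⟩ _).image _)
  · show ((Oset (C.e 0) (C.e 1)).image C.e.symm).card + 2 < p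
    rw [hO01, Finset.card_image_of_injective _ C.e.symm.injective,
      Finset.card_image_of_injective _ (MulAction.injective g₀)]
    have : Oset α β ⊂ Finset.univ.filter fun z : Ω => z ≠ α ∧ z ≠ β :=
      Finset.ssubset_iff_of_subset (fun z hz => by simpa using hirr _ _ z hz) |>.mpr
        ⟨γ, by simpa using hγ, hγO⟩
    have := Finset.card_lt_card this
    omega
  · intro x y h z hz
    obtain ⟨w, hw, rfl⟩ := Finset.mem_image.mp hz
    have := congrArg (Finset.image C.e.symm) (hline _ _ (C.e.injective.ne h) w hw)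
    simpa [Finset.image_insert] using this
  · intro s c hs x y _
    obtain ⟨g, hg⟩ := exists_square_mult C hs
    obtain ⟨t, ht⟩ := C.transl c
    have e : ∀ j, (t * g) • C.e j = C.e (s * j + c) := fun j => by rw [mul_smul, hg, ht]
    show (Oset _ _).image C.e.symm = _
    rw [← e, ← e, hequiv, Finset.image_image, Finset.image_image]
    refine Finset.image_congr fun z _ => ?_
    obtain ⟨j, rfl⟩ := C.e.surjective z
    simp only [Function.comp_apply, e, Equiv.symm_apply_apply]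
  · intro c c' hc0 hc1 hc hc'0 hc'1 hc'
    have hpre : ∀ d, d ≠ 0 → d ≠ 1 → d ∉ (Oset (C.e 0) (C.e 1)).image C.e.symm →
        g₀⁻¹ • C.e d ≠ α ∧ g₀⁻¹ • C.e d ≠ β ∧ g₀⁻¹ • C.e d ∉ Oset α β := by
      intro d d0 d1 dO
      refine ⟨fun e => d0 ?_, fun e => d1 ?_, fun e => dO (Finset.mem_image.mpr ⟨C.e d, ?_, by simp⟩)⟩
      · rw [inv_smul_eq_iff, hg0] at e; exact C.e.injective e
      · rw [inv_smul_eq_iff, hg1] at e; exact C.e.injective e
      · rw [hO01]; exact Finset.mem_image.mpr ⟨_, e, smul_inv_smul _ _⟩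
    obtain ⟨u1, u2, u3⟩ := hpre c hc0 hc1 hc
    obtain ⟨v1, v2, v3⟩ := hpre c' hc'0 hc'1 hc'
    obtain ⟨g, ga, gb, gc⟩ := hout _ u1 u2 u3 _ v1 v2 v3
    refine ⟨fun j => C.e.symm ((g₀ * g * g₀⁻¹) • C.e j),
      fun i j h => C.e.injective (smul_left_cancel _ (C.e.symm.injective h)), ?_, ?_, ?_, ?_⟩
    · rw [Equiv.symm_apply_eq, mul_smul, mul_smul,
        show g₀⁻¹ • C.e 0 = α by rw [← hg0, inv_smul_smul], ga, hg0]
    · rw [Equiv.symm_apply_eq, mul_smul, mul_smul,
        show g₀⁻¹ • C.e 1 = β by rw [← hg1, inv_smul_smul], gb, hg1]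
    · rw [Equiv.symm_apply_eq, mul_smul, mul_smul, gc, smul_inv_smul]
    · intro x y _
      simp only [Equiv.apply_symm_apply]
      rw [hequiv, Finset.image_image, Finset.image_image]
      refine Finset.image_congr fun z _ => ?_
      simp

end Cfsg.Agent.Lib.Perm.PrimeHalf
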