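import Cfsg.Agent.Lib.Perm.PrimeHalf.Dihedrant

/-!
From the counting form of a strongly regular graph with a semiregular cyclic group with two orbits
to the character equations.
-/

set_option autoImplicit false

open Finset

namespace Cfsg.Agent.Lib.Perm.PrimeHalf.Dihedrant

variable {q : ℕ} [NeZero q]

theorem transform_sub (S S' : Finset (ZMod q)) (l : ZMod q) :
    ∑ x : ZMod q, ((S.filter fun y => y - x ∈ S').card : O) * e (l * x) = ft S l * ft S' (-l) := by
  classical
  simp only [Finset.card_filter, Nat.cast_sum, Finset.sum_mul]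
  rw [Finset.sum_comm, ft, Finset.sum_mul]
  refine Finset.sum_congr rfl fun y _ => ?_
  rw [ft, Finset.mul_sum, ← Finset.sum_subset (Finset.subset_univ (S'.image fun z => y - z))]
  · rw [Finset.sum_image (fun a _ b _ h => sub_right_injective h)]
    refine Finset.sum_congr rfl fun z hz => ?_
    rw [sub_sub_cancel, if_pos hz, Nat.cast_one, one_mul, ← e_add]
    congr 1
    ring
  · intro x _ hx
    rw [if_neg fun h => hx (Finset.mem_image.mpr ⟨_, h, sub_sub_cancel y x⟩), Nat.cast_zero, zero_mul]

theorem transform_rev (S S' : Finset (ZMod q)) (l : ZMod q) :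
    ∑ x : ZMod q, ((S.filter fun y => x - y ∈ S').card : O) * e (l * x) = ft S l * ft S' l := by
  classical
  have h := transform_sub S (S'.image fun z => -z) l
  rw [show ft (S'.image fun z => -z) (-l) = ft S' l by
    rw [ft, Finset.sum_image (fun a _ b _ h => neg_injective h)]
    exact Finset.sum_congr rfl fun z _ => by rw [neg_mul_neg]] at h
  rw [← h]
  refine Finset.sum_congr rfl fun x _ => ?_
  congr 3
  refine Finset.filter_congr fun y _ => ?_
  rw [Finset.mem_image]
  exact ⟨fun h => ⟨_, h, neg_sub x y⟩, by rintro ⟨z, hz, hzy⟩; rwa [← neg_sub y x, ← hzy, neg_neg]⟩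

theorem sum_three (S : Finset (ZMod q)) (l : ZMod q) (μ d K : ℤ) :
    ∑ x : ZMod q, ((μ + d * (if x ∈ S then 1 else 0) + K * (if x = 0 then 1 else 0) : ℤ) : O) * e (l * x) =
      (if l = 0 then (μ : O) * q else 0) + (d : O) * ft S l + (K : O) := by
  classical
  push_cast
  simp only [add_mul, Finset.sum_add_distrib, mul_assoc, ← Finset.mul_sum, ite_mul, one_mul, zero_mul,
    Finset.sum_ite_mem, Finset.univ_inter, Finset.sum_ite_eq', Finset.mem_univ, if_true, mul_zero, e_zero, mul_one]
  rw [show ∑ x : ZMod q, e (l * x) = if l = 0 then (q : O) else 0 by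
    rw [← sum_e l]; exact Finset.sum_congr rfl fun x _ => by rw [mul_comm]]
  simp [ft]

/-- The data of the complementary graph. -/
theorem Data.compl {R T : Finset (ZMod q)} {d K : ℤ} (D : Data R T d K) (hK : 0 < K - d - 1)
    (hμ : 0 < 2 * (q : ℤ) - R.card - T.card - K + d) : Data (Rᶜ.erase 0) Tᶜ (-2 - d) (K - d - 1) := by
  classical
  have hR : ((Rᶜ.erase 0).card : ℤ) = (q : ℤ) - 1 - R.card := by
    have h1 := Finset.card_erase_add_one (Finset.mem_compl.mpr D.zero_notMem)
    rw [Finset.card_compl, ZMod.card] at h1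
    omega
  have hT : ((Tᶜ).card : ℤ) = (q : ℤ) - T.card := by
    rw [Finset.card_compl, ZMod.card, Nat.cast_sub D.t_lt.le]
  have hfR : ∀ l : ZMod q, l ≠ 0 → ft (Rᶜ.erase 0) l = -ft R l - 1 := by
    intro l hl
    rw [ft, Finset.sum_erase_eq_sub (Finset.mem_compl.mpr D.zero_notMem), mul_zero, e_zero,
      show ∑ z ∈ Rᶜ, e (l * z) = ft Rᶜ l from rfl, ft_compl R hl]
  have hc := D.cross
  have hd := D.diff
  have htlt := D.t_lt
  have htpos := D.t_pos
  refine ⟨Finset.notMem_erase _ _, ?_, ?_, ?_, hK, ?_, ?_, ?_, ?_, ?_⟩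
  · intro z hz
    rw [Finset.mem_erase, Finset.mem_compl] at hz ⊢
    exact ⟨neg_ne_zero.mpr hz.1, fun h => hz.2 (by simpa using D.symm _ h)⟩
  · omega
  · omega
  · rw [hR, hT]; linarith
  · rw [hR, hT]; linear_combination hd
  · rw [hR, hT]; linear_combination hc
  · intro l hl
    rw [hfR l hl, ft_compl T hl, ft_compl T (neg_ne_zero.mpr hl)]
    push_cast
    linear_combination D.eq1 l hl
  · intro l hl
    rw [hfR l hl, ft_compl T hl]
    push_cast
    linear_combination D.eq2 l hl

/-- No graph with a semiregular cyclic group of odd order with two orbits is strongly regular,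
unless it or its complement is a disjoint union of cliques. -/
theorem srg_false (hodd : Odd q) (hq1 : 1 < q) (A : ZMod q × Bool → ZMod q × Bool → Prop)
    [DecidableRel A] (hs : ∀ u v, A u v → A v u) (hirr : ∀ u, ¬ A u u)
    (hshift : ∀ z i x j, A (z, i) (z + x, j) ↔ A (0, i) (x, j))
    (hR : ∀ x, A (0, true) (x, true) ↔ A (0, false) (x, false)) {k lam μ : ℕ}
    (hk : ∀ u, (Finset.univ.filter fun v => A u v).card = k)
    (hlam : ∀ u v, A u v → (Finset.univ.filter fun z => A u z ∧ A v z).card = lam)
    (hμ : ∀ u v, u ≠ v → ¬ A u v → (Finset.univ.filter fun z => A u z ∧ A v z).card = μ)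
    (w1 : ∃ u v w, A v u ∧ A v w ∧ u ≠ w ∧ ¬ A u w)
    (w2 : ∃ u v w, u ≠ v ∧ ¬ A v u ∧ w ≠ v ∧ ¬ A v w ∧ A u w) : False := by
  classical
  set R : Finset (ZMod q) := Finset.univ.filter fun x => A (0, false) (x, false) with hRdef
  set T : Finset (ZMod q) := Finset.univ.filter fun x => A (0, false) (x, true) with hTdef
  have hmR : ∀ x, x ∈ R ↔ A (0, false) (x, false) := fun x => by simp [hRdef]
  have hmT : ∀ x, x ∈ T ↔ A (0, false) (x, true) := fun x => by simp [hTdef]
  have hff : ∀ z y, A (z, false) (y, false) ↔ y - z ∈ R := fun z y => by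
    rw [hmR, ← hshift z false (y - z) false, add_sub_cancel]
  have hft : ∀ z y, A (z, false) (y, true) ↔ y - z ∈ T := fun z y => by
    rw [hmT, ← hshift z false (y - z) true, add_sub_cancel]
  have htf : ∀ z y, A (z, true) (y, false) ↔ z - y ∈ T := fun z y => by
    rw [← hft y z]; exact ⟨hs _ _, hs _ _⟩
  have htt : ∀ z y, A (z, true) (y, true) ↔ y - z ∈ R := fun z y => by
    rw [hmR, ← hR, ← hshift z true (y - z) true, add_sub_cancel]
  have h0 : (0 : ZMod q) ∉ R := fun h => hirr _ ((hmR 0).mp h)
  have hsym : ∀ z ∈ R, -z ∈ R := by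
    intro z hz
    have := hs _ _ ((hmR z).mp hz)
    rwa [hff, zero_sub] at this
  -- counting the common neighbours
  have hsplit : ∀ P : ZMod q × Bool → Prop, ∀ [DecidablePred P],
      (Finset.univ.filter P).card =
        (Finset.univ.filter fun y => P (y, false)).card + (Finset.univ.filter fun y => P (y, true)).card := by
    intro P _
    simp only [Finset.card_filter]
    rw [Fintype.sum_prod_type, ← Finset.sum_add_distrib]
    exact Finset.sum_congr rfl fun y _ => by rw [Fintype.sum_bool, add_comm]
  have hkRT : k = R.card + T.card := by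
    rw [← hk (0, false), hsplit]
  have hA : ∀ x, (((R.filter fun y => y - x ∈ R).card + (T.filter fun y => y - x ∈ T).card : ℕ) : ℤ) =
      μ + ((lam : ℤ) - μ) * (if x ∈ R then 1 else 0) + ((k : ℤ) - μ) * (if x = 0 then 1 else 0) := by
    intro x
    have hc : (R.filter fun y => y - x ∈ R).card + (T.filter fun y => y - x ∈ T).card =
        (Finset.univ.filter fun z => A (0, false) z ∧ A (x, false) z).card := by
      rw [hsplit]
      congr 2 <;> ext y <;> simp [hff, hft]
    rw [hc]
    rcases eq_or_ne x 0 with rfl | hx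
    · simp [h0, hk]
    by_cases hxR : x ∈ R
    · rw [hlam _ _ ((hmR x).mp hxR), if_pos hxR, if_neg hx]; ring
    · rw [hμ _ _ (by simp [Ne.symm hx]) (fun h => hxR ((hmR x).mpr h)), if_neg hxR, if_neg hx]; ring
  have hB : ∀ x, (((R.filter fun y => x - y ∈ T).card + (T.filter fun y => y - x ∈ R).card : ℕ) : ℤ) =
      μ + ((lam : ℤ) - μ) * (if x ∈ T then 1 else 0) + 0 * (if x = 0 then 1 else 0) := by
    intro x
    have hc : (R.filter fun y => x - y ∈ T).card + (T.filter fun y => y - x ∈ R).card =
        (Finset.univ.filter fun z => A (0, false) z ∧ A (x, true) z).card := by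
      rw [hsplit]
      congr 2 <;> ext y <;> simp [htf, htt, hff, hft]
    rw [hc]
    by_cases hxT : x ∈ T
    · rw [hlam _ _ ((hmT x).mp hxT), if_pos hxT]; ring
    · rw [hμ _ _ (by simp) (fun h => hxT ((hmT x).mpr h)), if_neg hxT]; ring
  have eA : ∀ l : ZMod q, ft R l ^ 2 + ft T l * ft T (-l) =
      (if l = 0 then (μ : O) * q else 0) + ((lam : O) - μ) * ft R l + ((k : O) - μ) := by
    intro l
    have h := sum_three R l (μ : ℤ) ((lam : ℤ) - μ) ((k : ℤ) - μ)
    push_cast at h
    rw [← h, sq]
    conv_lhs => arg 1; arg 2; rw [← ft_symm hsym l]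
    rw [← transform_sub R R l, ← transform_sub T T l, ← Finset.sum_add_distrib]
    refine Finset.sum_congr rfl fun x _ => ?_
    rw [← add_mul]
    congr 1
    have := congrArg (fun z : ℤ => (z : O)) (hA x)
    push_cast at this
    exact this
  have eB : ∀ l : ZMod q, 2 * (ft R l * ft T l) =
      (if l = 0 then (μ : O) * q else 0) + ((lam : O) - μ) * ft T l := by
    intro l
    have h := sum_three T l (μ : ℤ) ((lam : ℤ) - μ) 0
    push_cast at h
    rw [add_zero] at h
    rw [← h, two_mul]
    conv_lhs => arg 2; rw [mul_comm, ← ft_symm hsym l]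
    rw [← transform_rev R T l, ← transform_sub T R l, ← Finset.sum_add_distrib]
    refine Finset.sum_congr rfl fun x _ => ?_
    rw [← add_mul]
    congr 1
    have := congrArg (fun z : ℤ => (z : O)) (hB x)
    push_cast at this
    simpa using this
  have hdA : (R.card : ℤ) ^ 2 + (T.card : ℤ) ^ 2 = μ * q + ((lam : ℤ) - μ) * R.card + ((k : ℤ) - μ) := by
    refine Int.cast_injective (α := O) ?_
    have := eA 0
    rw [if_pos rfl, neg_zero, ft_zero, ft_zero] at this
    push_cast
    linear_combination this
  have hdB : 2 * ((R.card : ℤ) * T.card) = μ * q + ((lam : ℤ) - μ) * T.card := by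
    refine Int.cast_injective (α := O) ?_
    have := eB 0
    rw [if_pos rfl, ft_zero, ft_zero] at this
    push_cast
    linear_combination this
  have hkZ : (k : ℤ) = R.card + T.card := by exact_mod_cast hkRT
  -- positivity
  obtain ⟨u, v, w, hvu, hvw, huw, hnuw⟩ := w1
  have hμpos : 1 ≤ μ := by
    rw [← hμ u w huw hnuw]
    exact Finset.card_pos.mpr ⟨v, by simp [hs _ _ hvu, hs _ _ hvw]⟩
  have hlamk : lam + 2 ≤ k := by
    rw [← hlam v u hvu, ← hk v, ← Finset.card_pair huw, ← Finset.card_union_of_disjoint]
    · refine Finset.card_le_card fun z hz => ?_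
      simp only [Finset.mem_union, Finset.mem_filter, Finset.mem_univ, true_and, Finset.mem_insert,
        Finset.mem_singleton] at hz ⊢
      rcases hz with hz | rfl | rfl
      · exact hz.1
      · exact hvu
      · exact hvw
    · rw [Finset.disjoint_left]
      intro z hz hz'
      simp only [Finset.mem_filter, Finset.mem_univ, true_and, Finset.mem_insert, Finset.mem_singleton] at hz hz'
      rcases hz' with rfl | rfl
      · exact hirr _ hz.2
      · exact hnuw hz.2
  clear! u v w
  obtain ⟨u, v, w, huv, hnvu, hwv, hnvw, huw⟩ := w2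
  have hμk : μ + 1 ≤ k := by
    rw [← hμ v u huv.symm hnvu, ← hk u]
    refine Finset.card_lt_card ((Finset.ssubset_iff_of_subset fun z hz => ?_).mpr ⟨w, ?_, ?_⟩)
    · simp only [Finset.mem_filter, Finset.mem_univ, true_and] at hz ⊢; exact hz.2
    · simp [huw]
    · simp [hnvw]
  have hμ' : 2 * k + 1 ≤ 2 * q + lam := by
    have h := Finset.card_union_add_card_inter (Finset.univ.filter fun z => A u z) (Finset.univ.filter fun z => A w z)
    rw [← Finset.filter_and, hlam u w huw, hk, hk] at h
    have : ((Finset.univ.filter fun z => A u z) ∪ (Finset.univ.filter fun z => A w z)).card < 2 * q := by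
      calc _ < (Finset.univ : Finset (ZMod q × Bool)).card := by
            refine Finset.card_lt_card (Finset.ssubset_univ_iff.mpr fun h => ?_)
            have := h ▸ Finset.mem_univ v
            simp only [Finset.mem_union, Finset.mem_filter, Finset.mem_univ, true_and] at this
            rcases this with h | h
            · exact hnvu (hs _ _ h)
            · exact hnvw (hs _ _ h)
        _ = 2 * q := by simp [mul_comm]
    omega
  have hcross : ((R.card : ℤ) + T.card - ((k : ℤ) - μ)) * q = (T.card : ℤ) * (2 * (R.card : ℤ) - ((lam : ℤ) - μ)) := by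
    rw [hkZ]; linear_combination -hdB
  have ht0 : 0 < T.card := by
    rcases Nat.eq_zero_or_pos T.card with h | h
    · rw [h] at hdB
      have : 0 < (μ : ℤ) * q := by have := NeZero.pos q; positivity
      push_cast at hdB
      linarith
    · exact h
  have htq : T.card < q := by
    have hle : T.card ≤ q := by simpa [ZMod.card] using Finset.card_le_univ T
    rcases lt_or_eq_of_le hle with h | h
    · exact h
    rw [h] at hdB
    have h1 : (q : ℤ) * (2 * (R.card : ℤ) - lam) = 0 := by linear_combination hdB
    have h2 : (2 * (R.card : ℤ) - lam) = 0 := (mul_eq_zero.mp h1).resolve_left (by simp [NeZero.ne q])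
    omega
  have D : Data R T ((lam : ℤ) - μ) ((k : ℤ) - μ) :=
    { zero_notMem := h0
      symm := hsym
      t_pos := ht0
      t_lt := htq
      K_pos := by omega
      mu_pos := by omega
      diff := by linear_combination hdA - hdB
      cross := hcross
      eq1 := fun l hl => by
        have := eA l
        rw [if_neg hl] at this
        push_cast
        linear_combination this
      eq2 := fun l hl => by
        have := eB l
        rw [if_neg hl] at this
        push_cast
        linear_combination this }
  exact contra hodd hq1 D (D.compl (by omega) (by omega))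

end Cfsg.Agent.Lib.Perm.PrimeHalf.Dihedrant
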